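import Groth.Agent.Div57.Ref.Class
import Groth.Agent.QCoh.FT
import Groth.Agent.DRHyp.Terms
import Mathlib.LinearAlgebra.Determinant

/-!
# Exterior powers in the generic stalk
-/

universe u

set_option autoImplicit false
set_option backward.isDefEq.respectTransparency false
set_option backward.isDefEq.respectTransparency.types false
set_option linter.style.haveILetI false
set_option linter.unusedSectionVars false

open CategoryTheory AlgebraicGeometry TopologicalSpace Opposite exteriorPower IsLocalRing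

namespace Groth.Agent.Div57.Ref

/-- An alternating map in top degree is the determinant times its value on a basis. -/
theorem alt_eq_det {R M N : Type*} [CommRing R] [AddCommGroup M] [Module R M] [AddCommGroup N]
    [Module R N] {ι : Type*} [Fintype ι] [DecidableEq ι] (f : M [⋀^ι]→ₗ[R] N) (b : Module.Basis ι R M)
    (v : ι → M) : f v = b.det v • f b := by
  refine DFunLike.congr_fun (Module.Basis.ext_alternating b (f := f)
    (g := (LinearMap.toSpanSingleton R N (f b)).compAlternatingMap b.det) ?_) v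
  intro w hw
  let σ : Equiv.Perm ι := Equiv.ofBijective w (Finite.injective_iff_bijective.1 hw)
  have hσ : (fun i => b (w i)) = b ∘ σ := rfl
  show f _ = b.det _ • f b
  rw [hσ, AlternatingMap.map_perm, AlternatingMap.map_perm, b.det_self, smul_assoc, one_smul]

variable {X : Scheme.{u}} [IsIntegral X]

/-- The generic stalk is a field. -/
noncomputable abbrev fieldGen : Field (X.presheaf.stalk (genericPoint X)) :=
  inferInstanceAs (Field X.functionField)

/-- A germ at the generic point that vanishes is killed by a section with nonzero germ. -/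
theorem exists_smul_eq {F : X.Modules} (hF : Coh.IsQCoh F) {U : X.Opens} (hU : IsAffineOpen U)
    (hη : genericPoint X ∈ U) {a b : Γ(F, U)}
    (h : F.presheaf.germ U _ hη a = F.presheaf.germ U _ hη b) :
    ∃ t : Γ(X, U), X.presheaf.germ U _ hη t ≠ 0 ∧ t • a = t • b := by
  letI := QCoh.stalkModule F hη
  haveI := QCoh.isLocalizedModule_germLin hF hU hη
  obtain ⟨t, ht⟩ := IsLocalizedModule.exists_of_eq
    (S := (hU.primeIdealOf ⟨_, hη⟩).asIdeal.primeCompl) (f := QCoh.germLin F hη) h
  refine ⟨t.1, fun h0 => ?_, ht⟩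
  have := (X.mem_basicOpen _ _ hη).1 ((QCoh.mem_basicOpen_iff_notMem hU hη t.1).2 t.2)
  rw [h0] at this
  exact not_isUnit_zero this

variable {F L : X.Modules} {r : ℕ}

/-- The alternating map on the generic stalk underlying an exterior power. -/
theorem exists_ext_map (hF : Coh.IsQCoh F) (φ : ∀ U : X.affineOpens, (L.val.obj (op U.1)) ≃ₗ[Γ(X, U.1)]
      ↥(⋀[Γ(X, U.1)]^r (F.val.obj (op U.1))))
    (hφ : ∀ (U V : X.affineOpens) (h : V.1 ≤ U.1) (e : Fin r → F.val.obj (op U.1)),
      L.val.map (homOfLE h).op ((φ U).symm (exteriorPower.ιMulti _ r e)) =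
        (φ V).symm (exteriorPower.ιMulti _ r (fun j => F.val.map (homOfLE h).op (e j))))
    (hL : Coh.IsQCoh L) :
    ∃ Ω : (F.presheaf.stalk (genericPoint X)) [⋀^Fin r]→ₗ[X.presheaf.stalk (genericPoint X)]
        (L.presheaf.stalk (genericPoint X)),
      Submodule.span (X.presheaf.stalk (genericPoint X)) (Set.range Ω) = ⊤ ∧
      (∀ b : Module.Basis (Fin r) (X.presheaf.stalk (genericPoint X)) (F.presheaf.stalk (genericPoint X)),
        Ω b ≠ 0) ∧
      ∀ (V : X.affineOpens) (hη : genericPoint X ∈ V.1) (e : Fin r → Γ(F, V.1)),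
        L.presheaf.germ V.1 _ hη ((φ V).symm (exteriorPower.ιMulti _ r e)) =
          Ω fun i => F.presheaf.germ V.1 _ hη (e i) := by
  classical
  obtain ⟨_, ⟨U, hU, rfl⟩, hηU, -⟩ := X.isBasis_affineOpens.exists_subset_of_mem_open
    (Set.mem_univ (genericPoint X)) isOpen_univ
  let S := (hU.primeIdealOf ⟨_, hηU⟩).asIdeal.primeCompl
  letI := QCoh.stalkAlg (X := X) hηU
  letI := QCoh.stalkModule F hηU
  letI := QCoh.stalkModule L hηU
  haveI := QCoh.isScalarTower_stalk F hηU
  haveI := QCoh.isScalarTower_stalk L hηU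
  haveI := QCoh.isLocalization_stalk' hU hηU
  haveI := QCoh.isLocalizedModule_germLin hF hU hηU
  haveI := QCoh.isLocalizedModule_germLin hL hU hηU
  obtain ⟨ψ, hψ, hψι⟩ := DRHyp.exists_isLocalizedModule_extPow (B' := X.presheaf.stalk (genericPoint X))
    S (QCoh.germLin F hηU) r
  let eU : Γ(L, U) ≃ₗ[Γ(X, U)] ↥(⋀[Γ(X, U)]^r Γ(F, U)) := φ ⟨U, hU⟩
  haveI := IsLocalizedModule.of_linearEquiv_right S ψ eU
  let E := (IsLocalizedModule.linearEquiv S (ψ ∘ₗ eU.toLinearMap) (QCoh.germLin L hηU)).extendScalarsOfIsLocalization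
    S (X.presheaf.stalk (genericPoint X))
  let Ω := E.toLinearMap.compAlternatingMap
    (exteriorPower.ιMulti (X.presheaf.stalk (genericPoint X)) r (M := F.presheaf.stalk (genericPoint X)))
  have h0 : ∀ e : Fin r → Γ(F, U), L.presheaf.germ U _ hηU ((φ ⟨U, hU⟩).symm (exteriorPower.ιMulti _ r e)) =
      Ω fun i => F.presheaf.germ U _ hηU (e i) := fun e => by
    have h1 : (ψ ∘ₗ eU.toLinearMap) (eU.symm (exteriorPower.ιMulti _ r e)) =
        exteriorPower.ιMulti _ r (fun i => QCoh.germLin F hηU (e i)) := by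
      rw [LinearMap.comp_apply, LinearEquiv.coe_coe, LinearEquiv.apply_symm_apply, hψι]
    show QCoh.germLin L hηU (eU.symm _) = E (exteriorPower.ιMulti _ r fun i => QCoh.germLin F hηU (e i))
    rw [← h1]
    exact (IsLocalizedModule.linearEquiv_apply S _ _ _).symm
  refine ⟨Ω, ?_, fun b hb => ?_, fun V hη e => ?_⟩
  · have : Set.range Ω = E.toLinearMap '' Set.range (exteriorPower.ιMulti (X.presheaf.stalk (genericPoint X)) r
        (M := F.presheaf.stalk (genericPoint X))) := (Set.range_comp E.toLinearMap _)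
    rw [this, Submodule.span_image, exteriorPower.ιMulti_span, Submodule.map_top,
      LinearMap.range_eq_top.2 E.surjective]
  · have h1 : exteriorPower.alternatingMapLinearEquiv b.det
        (exteriorPower.ιMulti (X.presheaf.stalk (genericPoint X)) r b) = _ :=
      congrArg (exteriorPower.alternatingMapLinearEquiv b.det) (E.map_eq_zero_iff.1 hb)
    rw [exteriorPower.alternatingMapLinearEquiv_apply_ιMulti, b.det_self, map_zero] at h1
    haveI : Nontrivial (X.presheaf.stalk (genericPoint X)) := inferInstanceAs (Nontrivial X.functionField)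
    exact one_ne_zero h1
  obtain ⟨_, ⟨W, hW, rfl⟩, hηW, hle⟩ := X.isBasis_affineOpens.exists_subset_of_mem_open
    (show genericPoint X ∈ V.1 ⊓ U from ⟨hη, hηU⟩) (V.1 ⊓ U).2
  have hWV : W ≤ V.1 := fun z hz => (hle hz).1
  have hWU : W ≤ U := fun z hz => (hle hz).2
  -- reduce to `W`
  have key : ∀ e : Fin r → Γ(F, W),
      L.presheaf.germ W _ hηW ((φ ⟨W, hW⟩).symm (exteriorPower.ιMulti _ r e)) =
        Ω fun i => F.presheaf.germ W _ hηW (e i) := fun e => by
    choose p hp using fun i => IsLocalizedModule.surj S (QCoh.germLin F hηU) (F.presheaf.germ W _ hηW (e i))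
    let ρ := X.presheaf.map (homOfLE hWU).op
    have hp' : ∀ i, X.presheaf.germ U _ hηU (p i).2.1 • F.presheaf.germ W _ hηW (e i) =
        F.presheaf.germ U _ hηU (p i).1 := hp
    have hs : ∀ i, X.presheaf.germ U _ hηU (p i).2.1 ≠ 0 := fun i h0 => by
      have := (X.mem_basicOpen _ _ hηU).1 ((QCoh.mem_basicOpen_iff_notMem hU hηU _).2 (p i).2.2)
      rw [h0] at this
      exact not_isUnit_zero this
    have hρ : ∀ a, X.presheaf.germ W _ hηW (ρ a) = X.presheaf.germ U _ hηU a := fun a =>
      X.presheaf.germ_res_apply (homOfLE hWU) _ hηW a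
    choose t ht0 ht using fun i => exists_smul_eq hF hW hηW (a := ρ (p i).2.1 • e i)
      (b := F.presheaf.map (homOfLE hWU).op (p i).1) (by
        rw [QCoh.germ_smul', hρ, hp' i]
        exact (F.presheaf.germ_res_apply (homOfLE hWU) _ hηW (p i).1).symm)
    let eW : Γ(L, W) ≃ₗ[Γ(X, W)] ↥(⋀[Γ(X, W)]^r Γ(F, W)) := φ ⟨W, hW⟩
    let ω := eW.symm.toLinearMap.compAlternatingMap (exteriorPower.ιMulti Γ(X, W) r (M := Γ(F, W)))
    have h1 : (∏ i, t i * ρ (p i).2.1) • ω e = (∏ i, t i) • ω fun i => F.presheaf.map (homOfLE hWU).op (p i).1 := by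
      rw [← ω.map_smul_univ, ← ω.map_smul_univ]
      exact congrArg ω (funext fun i => (mul_smul _ _ _).trans (ht i))
    have h2 : L.presheaf.germ W _ hηW (ω fun i => F.presheaf.map (homOfLE hWU).op (p i).1) =
        Ω fun i => F.presheaf.germ U _ hηU (p i).1 := by
      rw [← h0]
      exact (congrArg (L.presheaf.germ W _ hηW) (hφ ⟨U, hU⟩ ⟨W, hW⟩ hWU fun i => (p i).1).symm).trans
        (L.presheaf.germ_res_apply (homOfLE hWU) _ hηW _)
    have h3 := congrArg (L.presheaf.germ W _ hηW) h1
    rw [QCoh.germ_smul', QCoh.germ_smul', h2, map_prod, map_prod,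
      show (fun i => F.presheaf.germ U _ hηU (p i).1) =
        fun i => X.presheaf.germ U _ hηU (p i).2.1 • F.presheaf.germ W _ hηW (e i) from funext fun i => (hp' i).symm,
      AlternatingMap.map_smul_univ, smul_smul, ← Finset.prod_mul_distrib] at h3
    simp only [map_mul, hρ] at h3
    letI := fieldGen (X := X)
    exact smul_right_injective _ (Finset.prod_ne_zero_iff.2 fun i _ => mul_ne_zero (ht0 i) (hs i)) h3
  have h4 := key fun i => F.presheaf.map (homOfLE hWV).op (e i)
  refine Eq.trans ?_ (h4.trans (congrArg Ω (funext fun i => F.presheaf.germ_res_apply (homOfLE hWV) _ hηW (e i))))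
  exact (L.presheaf.germ_res_apply (homOfLE hWV) _ hηW _).symm.trans
    (congrArg (L.presheaf.germ W _ hηW) (hφ V ⟨W, hW⟩ hWV e))

section Orders

variable [IsLocallyNoetherian X]

/-- An exterior power of a coherent module is coherent. -/
theorem isCoh_of_isExtPow (hF : Coh.IsCoh F) (hL : ExtPow.IsExtPow r F L) : Coh.IsCoh L := by
  have hq := DRHyp.isQCoh_of_isExtPow hF.1 r hL
  refine ⟨hq, ?_⟩
  obtain ⟨φ, -⟩ := hL
  refine QCoh.isFT_of_finite hq (fun U : X.affineOpens => U.1)
    (iSup_affineOpens_eq_top X) (fun U => U.2) fun U => ?_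
  haveI : Module.Finite Γ(X, U.1) Γ(F, U.1) := QCoh.finite_of_isFT hF.1 hF.2 U.2
  let e : Γ(L, U.1) ≃ₗ[Γ(X, U.1)] ↥(⋀[Γ(X, U.1)]^r Γ(F, U.1)) := φ U
  exact Module.Finite.equiv e.symm

variable (hX : Pi1.IsNormalScheme X)

include hX in
/-- In codimension one the lattice of a coherent module has a basis, which gives a `K`-basis. -/
theorem exists_latt_basis (hF : Coh.IsCoh F)
    (hr : Module.finrank (X.presheaf.stalk (genericPoint X)) (F.presheaf.stalk (genericPoint X)) = r)
    {x : X} (hx : Order.coheight x = 1) :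
    ∃ b : Module.Basis (Fin r) (X.presheaf.stalk (genericPoint X)) (F.presheaf.stalk (genericPoint X)),
      (∀ i, b i ∈ Latt F x) ∧ ∀ v ∈ Latt F x, ∀ i, b.repr v i ∈ Set.range (toK x) := by
  classical
  haveI := CDiv6.isDVR_of_coheight_one hX hx
  haveI := finite_stalk hF x
  letI := fieldGen (X := X)
  letI : Algebra (X.presheaf.stalk x) (X.presheaf.stalk (genericPoint X)) := (toK x).toAlgebra
  haveI : IsFractionRing (X.presheaf.stalk x) (X.presheaf.stalk (genericPoint X)) :=
    inferInstanceAs (IsFractionRing (X.presheaf.stalk x) X.functionField)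
  letI : Module (X.presheaf.stalk x) (F.presheaf.stalk (genericPoint X)) :=
    Module.compHom _ (toK x)
  haveI : IsScalarTower (X.presheaf.stalk x) (X.presheaf.stalk (genericPoint X))
      (F.presheaf.stalk (genericPoint X)) := IsScalarTower.of_algebraMap_smul fun _ _ => rfl
  haveI : Module.IsTorsionFree (X.presheaf.stalk x) (F.presheaf.stalk (genericPoint X)) :=
    Module.IsTorsionFree.trans_faithfulSMul _ (X.presheaf.stalk (genericPoint X)) _
  let f : F.presheaf.stalk x →ₗ[X.presheaf.stalk x] F.presheaf.stalk (genericPoint X) :=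
    { toFun := spec F x, map_add' := map_add _, map_smul' := fun a v => spec_smul F x a v }
  let N := LinearMap.range f
  haveI : Module.Finite (X.presheaf.stalk x) N := Module.Finite.range f
  haveI : Module.Free (X.presheaf.stalk x) N := Module.free_of_finite_type_torsion_free'
  let c := Module.Free.chooseBasis (X.presheaf.stalk x) N
  have hli : LinearIndependent (X.presheaf.stalk (genericPoint X))
      fun i => (c i : F.presheaf.stalk (genericPoint X)) :=
    (LinearIndependent.iff_fractionRing (R := X.presheaf.stalk x)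
      (K := X.presheaf.stalk (genericPoint X))).1 (c.linearIndependent.map' N.subtype N.ker_subtype)
  have hsp : ⊤ ≤ Submodule.span (X.presheaf.stalk (genericPoint X))
      (Set.range fun i => (c i : F.presheaf.stalk (genericPoint X))) := fun v _ => by
    obtain ⟨s, m, hs, hsm⟩ := exists_denom_gen hF.1 x v
    have hm : spec F x m ∈ Submodule.span (X.presheaf.stalk (genericPoint X))
        (Set.range fun i => (c i : F.presheaf.stalk (genericPoint X))) := by
      have h1 := congrArg Subtype.val (c.sum_repr ⟨spec F x m, m, rfl⟩)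
      rw [AddSubmonoidClass.coe_finset_sum] at h1
      rw [show spec F x m = _ from h1.symm]
      refine Submodule.sum_mem _ fun i _ => ?_
      exact Submodule.smul_mem (M := F.presheaf.stalk (genericPoint X)) _
        (toK x (c.repr ⟨spec F x m, m, rfl⟩ i)) (Submodule.subset_span ⟨i, rfl⟩)
    rw [← hsm] at hm
    have hs0 : toK x s ≠ 0 := fun h => hs (toK_injective x (h.trans (map_zero _).symm))
    have h2 := Submodule.smul_mem _ (toK x s)⁻¹ hm
    rwa [inv_smul_smul₀ hs0] at h2
  let b := Module.Basis.mk hli hsp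
  let σ := Fintype.equivFinOfCardEq ((Module.finrank_eq_card_basis b).symm.trans hr)
  refine ⟨b.reindex σ, fun i => ?_, fun v hv i => ?_⟩
  · rw [Module.Basis.reindex_apply, Module.Basis.mk_apply]
    obtain ⟨m, hm⟩ := (c (σ.symm i)).2
    exact ⟨m, hm⟩
  · obtain ⟨m, rfl⟩ := hv
    refine ⟨c.repr ⟨spec F x m, m, rfl⟩ (σ.symm i), ?_⟩
    have h1 : spec F x m = ∑ j, toK x (c.repr ⟨spec F x m, m, rfl⟩ j) • b j := by
      conv_lhs => rw [show spec F x m = ((⟨spec F x m, m, rfl⟩ : N) : F.presheaf.stalk (genericPoint X)) from rfl,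
        ← c.sum_repr ⟨spec F x m, m, rfl⟩, AddSubmonoidClass.coe_finset_sum]
      simp [b]
      rfl
    rw [Module.Basis.repr_reindex_apply]
    conv_rhs => rw [h1, b.repr_sum_self]

include hX in
/-- The reflexive hull of a top exterior power, with orders read off from lattice bases. -/
theorem exists_ext_gen (hF : Coh.IsCoh F) (hL : ExtPow.IsExtPow r F L)
    (hr : Module.finrank (X.presheaf.stalk (genericPoint X)) (F.presheaf.stalk (genericPoint X)) = r) :
    ∃ (hLc : Coh.IsCoh L) (Ω : (F.presheaf.stalk (genericPoint X)) [⋀^Fin r]→ₗ[X.presheaf.stalk (genericPoint X)]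
        (L.presheaf.stalk (genericPoint X))),
      RefHull.IsRef1 (RefHull.ddual L) ∧
      ∀ b : Module.Basis (Fin r) (X.presheaf.stalk (genericPoint X)) (F.presheaf.stalk (genericPoint X)),
        bidualGen hLc (Ω b) ≠ 0 ∧
        ∀ (x : X), Order.coheight x = 1 →
          ∀ t : Module.Basis (Fin r) (X.presheaf.stalk (genericPoint X)) (F.presheaf.stalk (genericPoint X)),
            (∀ i, t i ∈ Latt F x) → (∀ v ∈ Latt F x, ∀ i, t.repr v i ∈ Set.range (toK x)) →
              secOrd (RefHull.ddual L) x (bidualGen hLc (Ω b)) =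
                Scheme.ord (show X.functionField from t.det b) x := by
  classical
  letI := fieldGen (X := X)
  have hLc := isCoh_of_isExtPow hF hL
  obtain ⟨φ, hφ⟩ := hL
  obtain ⟨Ω, hspan, hne, hgerm⟩ := exists_ext_map hF.1 φ hφ hLc.1
  haveI := finite_stalk hF (genericPoint X)
  have hgen : ∀ b : Module.Basis (Fin r) (X.presheaf.stalk (genericPoint X)) (F.presheaf.stalk (genericPoint X)),
      H23.RatSec.IsGen (bidualGen hLc (Ω b)) := fun b => by
    refine ⟨eq_top_iff.2 fun m _ => ?_, fun a ha => ?_⟩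
    · obtain ⟨n, rfl⟩ := (bidualGen hLc).surjective m
      have hn : n ∈ Submodule.span (X.presheaf.stalk (genericPoint X)) {Ω b} := by
        refine (hspan.ge.trans (Submodule.span_le.2 ?_)) Submodule.mem_top
        rintro _ ⟨e, rfl⟩
        rw [alt_eq_det Ω b e]
        exact Submodule.smul_mem _ _ (Submodule.mem_span_singleton_self _)
      obtain ⟨a, rfl⟩ := Submodule.mem_span_singleton.1 hn
      exact Submodule.mem_span_singleton.2 ⟨a, (map_smul _ a _).symm⟩
    · rw [← map_smul, LinearEquiv.map_eq_zero_iff] at ha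
      exact (smul_gen_eq_zero _ ha).resolve_right (hne b)
  let b₁ := (Module.finBasis (X.presheaf.stalk (genericPoint X)) (F.presheaf.stalk (genericPoint X))).reindex
    (finCongr hr)
  refine ⟨hLc, Ω, isRef1_of (isCoh_ddual hLc) (isReflexive_ddual hLc) (hgen b₁),
    fun b => ⟨ne_zero_of_isGen (hgen b), fun x hx t ht htc => ?_⟩⟩
  obtain ⟨_, ⟨V, hV, rfl⟩, hxV, -⟩ := X.isBasis_affineOpens.exists_subset_of_mem_open
    (Set.mem_univ x) isOpen_univ
  letI := QCoh.stalkModule F hxV
  haveI := QCoh.isLocalizedModule_germLin hF.1 hV hxV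
  let S := (hV.primeIdealOf ⟨x, hxV⟩).asIdeal.primeCompl
  choose τ hτ using ht
  choose p hp using fun i => IsLocalizedModule.surj S (QCoh.germLin F hxV) (τ i)
  have hu : ∀ i, IsUnit (X.presheaf.germ V x hxV (p i).2.1) := fun i =>
    (X.mem_basicOpen _ _ hxV).1 ((QCoh.mem_basicOpen_iff_notMem hV hxV _).2 (p i).2.2)
  have hp' : ∀ i, toK x (X.presheaf.germ V x hxV (p i).2.1) • t i =
      F.presheaf.germ V _ (gp_mem hxV) (p i).1 := fun i => by
    rw [← hτ i, ← spec_smul, ← spec_germ F hxV]
    exact congrArg (spec F x) (hp i)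
  obtain ⟨U, hU⟩ := IsUnit.prod_iff.2 fun i (_ : i ∈ Finset.univ) => hu i
  let ℓ : L.presheaf.stalk x := (↑U⁻¹ : X.presheaf.stalk x) •
    L.presheaf.germ V x hxV ((φ ⟨V, hV⟩).symm (exteriorPower.ιMulti _ r fun i => (p i).1))
  have hℓ : spec L x ℓ = Ω t := by
    rw [spec_smul, spec_germ, hgerm ⟨V, hV⟩ (gp_mem hxV),
      show (fun i => F.presheaf.germ V _ (gp_mem hxV) (p i).1) =
        fun i => toK x (X.presheaf.germ V x hxV (p i).2.1) • t i from funext fun i => (hp' i).symm,
      AlternatingMap.map_smul_univ, smul_smul, ← map_prod, ← map_mul, ← hU, Units.inv_mul, map_one, one_smul]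
  have hrange : ∀ z : L.presheaf.stalk x, ∃ a : X.presheaf.stalk x, spec L x z = toK x a • Ω t := by
    intro z
    letI := QCoh.stalkModule L hxV
    haveI := QCoh.isLocalizedModule_germLin hLc.1 hV hxV
    obtain ⟨⟨m, s⟩, hms⟩ := IsLocalizedModule.surj S (QCoh.germLin L hxV) z
    obtain ⟨Us, hUs⟩ : IsUnit (X.presheaf.germ V x hxV s.1) :=
      (X.mem_basicOpen _ _ hxV).1 ((QCoh.mem_basicOpen_iff_notMem hV hxV _).2 s.2)
    have hmem : ∀ m : Γ(L, V), ∃ a : X.presheaf.stalk x,
        L.presheaf.germ V _ (gp_mem hxV) m = toK x a • Ω t := by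
      intro m
      let eV : Γ(L, V) ≃ₗ[Γ(X, V)] ↥(⋀[Γ(X, V)]^r Γ(F, V)) := φ ⟨V, hV⟩
      obtain ⟨w, rfl⟩ := eV.symm.surjective m
      have hw : w ∈ Submodule.span Γ(X, V) (Set.range (exteriorPower.ιMulti Γ(X, V) r (M := Γ(F, V)))) := by
        rw [exteriorPower.ιMulti_span]; trivial
      induction hw using Submodule.span_induction with
      | mem y hy =>
        obtain ⟨e, rfl⟩ := hy
        choose A hA using fun i j => htc (F.presheaf.germ V _ (gp_mem hxV) (e j)) (germ_mem_latt hxV _) i
        refine ⟨(Matrix.of A).det, ?_⟩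
        refine (hgerm ⟨V, hV⟩ (gp_mem hxV) e).trans ?_
        rw [alt_eq_det Ω t, Module.Basis.det_apply, RingHom.map_det]
        congr 1
        refine congrArg Matrix.det (Matrix.ext fun i j => ?_)
        rw [Module.Basis.toMatrix_apply]
        exact (hA i j).symm
      | zero => exact ⟨0, by simp⟩
      | add a b _ _ ha hb =>
        obtain ⟨a', ha'⟩ := ha
        obtain ⟨b', hb'⟩ := hb
        exact ⟨a' + b', by rw [map_add, map_add, ha', hb', map_add, add_smul]⟩
      | smul c a _ ha =>
        obtain ⟨a', ha'⟩ := ha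
        exact ⟨X.presheaf.germ V x hxV c * a', by
          rw [map_smul, QCoh.germ_smul', ha', smul_smul, map_mul, toK_germ]⟩
    obtain ⟨a, ha⟩ := hmem m
    refine ⟨↑Us⁻¹ * a, ?_⟩
    have h1 : X.presheaf.germ V x hxV s.1 • z = L.presheaf.germ V x hxV m := hms
    rw [show z = (↑Us⁻¹ : X.presheaf.stalk x) • L.presheaf.germ V x hxV m from by
      rw [← h1, smul_smul, ← hUs, Units.inv_mul, one_smul], spec_smul, spec_germ, ha, smul_smul, map_mul]
  have hspec : spec (RefHull.ddual L) x (RefHull.stalkMapₗ (RefHull.bidualMap L) x ℓ) = bidualGen hLc (Ω t) := by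
    rw [← stalkMap_spec, hℓ, bidualGen_apply]
  have hdet : t.det b ≠ 0 := (t.isUnit_det b).ne_zero
  refine secOrd_eq hx (t := RefHull.stalkMapₗ (RefHull.bidualMap L) x ℓ) (eq_top_iff.2 fun w _ => ?_)
    (by rw [hspec]; exact ne_zero_of_isGen (hgen t)) (φ := (show X.functionField from t.det b)) hdet
    (by rw [hspec, ← map_smul, ← alt_eq_det Ω t b])
  obtain ⟨z, rfl⟩ := surjective_bidual hX hLc hx w
  obtain ⟨a, ha⟩ := hrange z
  refine Submodule.mem_span_singleton.2 ⟨a, inj_ddual hLc x ?_⟩
  rw [spec_smul, hspec, ← stalkMap_spec, ha, map_smul, bidualGen_apply]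

end Orders

end Groth.Agent.Div57.Ref
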