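import Groth.Agent.Div57.Ref.Normal
import Groth.Agent.QCoh.Qcqs
import Mathlib.RingTheory.Valuation.Discrete.IsDiscreteValuationRing

/-!
# The divisorial sheaf of a divisor on a normal scheme

`oD D` has as sections the rational functions `c` with `ord_y c + D y ≥ 0` at the points of codimension
one; it is coherent, reflexive, of rank one, and the generic element `1` has orders `D`.
-/

universe u

set_option autoImplicit false
set_option backward.isDefEq.respectTransparency false
set_option backward.isDefEq.respectTransparency.types false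
set_option linter.style.haveILetI false
set_option linter.unusedSectionVars false

open CategoryTheory AlgebraicGeometry TopologicalSpace Opposite

namespace Groth.Agent.Div57.Ref

variable {X : Scheme.{u}} [IsIntegral X] [IsLocallyNoetherian X]

/-- The condition at a point. -/
def Cond (D : X → ℤ) (y : X) (c : X.functionField) : Prop :=
  Order.coheight y = 1 → c = 0 ∨ 0 ≤ Scheme.ord c y + D y

/-- Constant families satisfying the condition. -/
def oLoc (D : X → ℤ) : TopCat.LocalPredicate (fun _ : X => X.functionField) where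
  pred {U} f := ∃ c : X.functionField, (∀ x : U, f x = c) ∧ ∀ x : U, Cond D x.1 c
  res {V U} i f h := by
    obtain ⟨c, h1, h2⟩ := h
    exact ⟨c, fun x => h1 _, fun x => h2 ⟨x.1, i.le x.2⟩⟩
  locality {U} f h := by
    classical
    by_cases hU : Nonempty U
    · obtain ⟨x₀⟩ := hU
      obtain ⟨W₀, hx₀, i₀, c₀, h₀, h₀'⟩ := h x₀
      refine ⟨c₀, fun x => ?_, fun x => ?_⟩
      all_goals
        obtain ⟨W, hx, i, c, h1, h2⟩ := h x
        have hc : c = c₀ :=
          (h1 ⟨genericPoint X, gp_mem hx⟩).symm.trans (h₀ ⟨genericPoint X, gp_mem hx₀⟩)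
      · exact (h1 ⟨x.1, hx⟩).trans hc
      · exact hc ▸ h2 ⟨x.1, hx⟩
    · exact ⟨0, fun x => absurd ⟨x⟩ hU, fun x => absurd ⟨x⟩ hU⟩

omit [IsIntegral X] [IsLocallyNoetherian X] in
/-- The unit frame sends the germ of a function to the germ of the same function. -/
theorem unitStalk_germ {U : X.Opens} {x : X} (hx : x ∈ U) (r : Γ(X, U)) :
    RefX.unitStalk x (X.presheaf.germ U x hx r) = (Coh.structureModule X).presheaf.germ U x hx r := by
  rw [RefX.unitStalk, LinearEquiv.ofBijective_apply, LinearMap.toSpanSingleton_apply,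
    ← RefX.germ_res (Coh.structureModule X) (le_top : U ≤ ⊤) hx, ← QCoh.germ_smul']
  congr 1
  show r * (X.presheaf.map (homOfLE (le_top : U ≤ ⊤)).op).hom 1 = r
  rw [map_one, mul_one]

omit [IsLocallyNoetherian X] in
/-- The action of a local ring on the function field. -/
theorem smul_fun (x : X) (a : X.presheaf.stalk x) (c : X.functionField) : a • c = toK x a * c :=
  Algebra.smul_def a c

omit [IsLocallyNoetherian X] in
theorem toK_gen (a : X.presheaf.stalk (genericPoint X)) : toK (genericPoint X) a = a := by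
  show (X.presheaf.stalkSpecializes _).hom a = a
  rw [TopCat.Presheaf.stalkSpecializes_refl]
  rfl

section Normal

variable (hX : Pi1.IsNormalScheme X)
include hX

theorem cond_add {D : X → ℤ} {y : X} {c c' : X.functionField} (h : Cond D y c) (h' : Cond D y c') :
    Cond D y (c + c') := by
  intro hy
  rcases h hy with rfl | h
  · rw [zero_add]; exact h' hy
  rcases h' hy with rfl | h'
  · rw [add_zero]; exact Or.inr h
  refine or_iff_not_imp_left.2 fun hne => ?_
  haveI := CDiv6.isDVR_of_coheight_one hX hy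
  have := Scheme.ord_add (x := y) hne
  rcases min_le_iff.1 this with h3 | h3 <;> omega

theorem cond_smul {D : X → ℤ} {y : X} {U : X.Opens} (hy : y ∈ U) (r : Γ(X, U)) {c : X.functionField}
    (h : Cond D y c) :
    Cond D y (algebraMap (X.presheaf.stalk y) X.functionField (X.presheaf.germ U y hy r) * c) := by
  intro hy1
  rcases h hy1 with rfl | h
  · exact Or.inl (mul_zero _)
  by_cases h0 : algebraMap (X.presheaf.stalk y) X.functionField (X.presheaf.germ U y hy r) = 0
  · exact Or.inl (by rw [h0, zero_mul])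
  by_cases hc : c = 0
  · exact Or.inl (by rw [hc, mul_zero])
  refine Or.inr ?_
  rw [Scheme.ord_mul h0 hc]
  have := CDiv6.reg_ord_nonneg (y := y) h0 ⟨_, rfl⟩
  omega

theorem isModPred_oLoc (D : X → ℤ) : Mero.IsModPred (oLoc D) where
  zero U := ⟨0, fun _ => rfl, fun _ _ => Or.inl rfl⟩
  add U f g hf hg := by
    obtain ⟨c, h1, h2⟩ := hf
    obtain ⟨c', h1', h2'⟩ := hg
    exact ⟨c + c', fun x => by rw [Pi.add_apply, h1, h1'], fun x => cond_add hX (h2 x) (h2' x)⟩
  smul U r f hf := by
    obtain ⟨c, h1, h2⟩ := hf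
    by_cases hU : Nonempty U
    · obtain ⟨x₀⟩ := hU
      refine ⟨toK x₀.1 (X.presheaf.germ U x₀.1 x₀.2 r) * c, fun x => ?_, fun x => ?_⟩
      · show X.presheaf.germ U x.1 x.2 r • f x = _
        rw [h1 x, Algebra.smul_def, toK_germ x₀.2, ← toK_germ x.2]
        rfl
      · rw [toK_germ, ← toK_germ x.2]
        exact cond_smul hX x.2 r (h2 x)
    · exact ⟨0, fun x => absurd ⟨x⟩ hU, fun x => absurd ⟨x⟩ hU⟩

/-- The divisorial sheaf. -/
noncomputable def oD (D : X → ℤ) : X.Modules :=
  haveI := isModPred_oLoc hX D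
  Mero.modOf (oLoc D)

theorem oD_smul_val (D : X → ℤ) {U : X.Opens} (r : Γ(X, U)) (s : Γ(oD hX D, U)) (hη : genericPoint X ∈ U) :
    (r • s).1 ⟨genericPoint X, hη⟩ =
      X.presheaf.germ U (genericPoint X) hη r * s.1 ⟨genericPoint X, hη⟩ := by
  haveI := isModPred_oLoc hX D
  refine (Mero.modOf_smul_apply (P := oLoc D) r s ⟨genericPoint X, hη⟩).trans ?_
  exact (smul_fun (genericPoint X) (X.presheaf.germ U (genericPoint X) hη r)
    (s.1 ⟨genericPoint X, hη⟩)).trans (by rw [toK_gen])

theorem oD_val_eq (D : X → ℤ) {U : X.Opens} (s : Γ(oD hX D, U)) (x : U) (hη : genericPoint X ∈ U) :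
    s.1 x = s.1 ⟨genericPoint X, hη⟩ := by
  obtain ⟨c, h1, -⟩ := s.2
  rw [h1, h1]

theorem oD_ext (D : X → ℤ) {U : X.Opens} {s t : Γ(oD hX D, U)}
    (h : ∀ hη : genericPoint X ∈ U, s.1 ⟨genericPoint X, hη⟩ = t.1 ⟨genericPoint X, hη⟩) : s = t :=
  Subtype.ext (funext fun x => by
    rw [oD_val_eq hX D s x (gp_mem x.2), oD_val_eq hX D t x (gp_mem x.2)]; exact h _)

theorem oD_cond (D : X → ℤ) {U : X.Opens} (s : Γ(oD hX D, U)) {y : X} (hy : y ∈ U)
    (hη : genericPoint X ∈ U) : Cond D y (s.1 ⟨genericPoint X, hη⟩) := by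
  obtain ⟨c, h1, h2⟩ := s.2
  rw [h1]
  exact h2 ⟨y, hy⟩

/-- A constant as a section. -/
noncomputable def mkO (D : X → ℤ) (U : X.Opens) (c : X.functionField) (h : ∀ y ∈ U, Cond D y c) :
    Γ(oD hX D, U) :=
  ⟨fun _ => c, c, fun _ => rfl, fun x => h x.1 x.2⟩

/-- The value of a generic germ. -/
theorem exists_val (D : X → ℤ) :
    ∃ g : (oD hX D).presheaf.stalk (genericPoint X) →+ X.functionField,
      ∀ (U : X.Opens) (hη : genericPoint X ∈ U) (s : Γ(oD hX D, U)),
        g ((oD hX D).presheaf.germ U (genericPoint X) hη s) = s.1 ⟨genericPoint X, hη⟩ := by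
  classical
  have key : ∀ v : (oD hX D).presheaf.stalk (genericPoint X), ∃ c : X.functionField,
      ∀ (U : X.Opens) (hη : genericPoint X ∈ U) (s : Γ(oD hX D, U)),
        (oD hX D).presheaf.germ U (genericPoint X) hη s = v → s.1 ⟨genericPoint X, hη⟩ = c := by
    intro v
    obtain ⟨U₀, h₀, s₀, rfl⟩ := TopCat.Presheaf.exists_germ_eq (oD hX D).presheaf v
    refine ⟨s₀.1 ⟨_, h₀⟩, fun U hη s hs => ?_⟩
    obtain ⟨W, hW, i, j, hij⟩ := TopCat.Presheaf.germ_eq (oD hX D).presheaf (genericPoint X) hη h₀ s s₀ hs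
    exact congrArg (fun t : Γ(oD hX D, W) => t.1 ⟨genericPoint X, hW⟩) hij
  choose g hg using key
  refine ⟨AddMonoidHom.mk' g fun v w => ?_, fun U hη s => (hg _ U hη s rfl).symm⟩
  obtain ⟨U, hU, s, rfl⟩ := TopCat.Presheaf.exists_germ_eq (oD hX D).presheaf v
  obtain ⟨V, hV, t, rfl⟩ := TopCat.Presheaf.exists_germ_eq (oD hX D).presheaf w
  have hW : genericPoint X ∈ U ⊓ V := ⟨hU, hV⟩
  rw [← hg _ U hU s rfl, ← hg _ V hV t rfl,
    ← hg _ (U ⊓ V) hW (AModX.res (oD hX D) inf_le_left s + AModX.res (oD hX D) inf_le_right t)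
      (by rw [map_add, RefX.germ_res, RefX.germ_res])]
  rfl

/-- The value of a generic germ of `oD`. -/
noncomputable def val (D : X → ℤ) : (oD hX D).presheaf.stalk (genericPoint X) →+ X.functionField :=
  (exists_val hX D).choose

theorem val_germ (D : X → ℤ) {U : X.Opens} (hη : genericPoint X ∈ U) (s : Γ(oD hX D, U)) :
    val hX D ((oD hX D).presheaf.germ U (genericPoint X) hη s) = s.1 ⟨genericPoint X, hη⟩ :=
  (exists_val hX D).choose_spec U hη s

theorem val_smul (D : X → ℤ) (a : X.presheaf.stalk (genericPoint X))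
    (v : (oD hX D).presheaf.stalk (genericPoint X)) :
    val hX D (a • v) = (show X.functionField from a) * val hX D v := by
  obtain ⟨U, hU, r, rfl⟩ := TopCat.Presheaf.exists_germ_eq X.presheaf a
  obtain ⟨V, hV, s, rfl⟩ := TopCat.Presheaf.exists_germ_eq (oD hX D).presheaf v
  have hW : genericPoint X ∈ U ⊓ V := ⟨hU, hV⟩
  rw [← RefX.germ_resR (inf_le_left : U ⊓ V ≤ U) hW r, ← RefX.germ_res _ (inf_le_right : U ⊓ V ≤ V) hW s,
    ← QCoh.germ_smul', val_germ, val_germ, oD_smul_val hX D _ _ hW]

theorem inj_oD (D : X → ℤ) : Inj (oD hX D) := fun x a b hab => by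
  obtain ⟨U, hU, s, rfl⟩ := TopCat.Presheaf.exists_germ_eq (oD hX D).presheaf a
  obtain ⟨V, hV, t, rfl⟩ := TopCat.Presheaf.exists_germ_eq (oD hX D).presheaf b
  have h1 := congrArg (val hX D) hab
  rw [spec_germ, spec_germ, val_germ, val_germ] at h1
  have hW : x ∈ U ⊓ V := ⟨hU, hV⟩
  rw [← RefX.germ_res _ (inf_le_left : U ⊓ V ≤ U) hW s, ← RefX.germ_res _ (inf_le_right : U ⊓ V ≤ V) hW t]
  congr 1
  exact oD_ext hX D fun hη => h1

theorem val_injective (D : X → ℤ) : Function.Injective (val hX D) := fun a b h => by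
  obtain ⟨U, hU, s, rfl⟩ := TopCat.Presheaf.exists_germ_eq (oD hX D).presheaf a
  obtain ⟨V, hV, t, rfl⟩ := TopCat.Presheaf.exists_germ_eq (oD hX D).presheaf b
  rw [val_germ, val_germ] at h
  have hW : genericPoint X ∈ U ⊓ V := ⟨hU, hV⟩
  rw [← RefX.germ_res _ (inf_le_left : U ⊓ V ≤ U) hW s, ← RefX.germ_res _ (inf_le_right : U ⊓ V ≤ V) hW t]
  congr 1
  exact oD_ext hX D fun hη => h

variable {D : X → ℤ} (hD : ∀ V : X.Opens, IsAffineOpen V → {y : X | y ∈ V ∧ Order.coheight y = 1 ∧ D y ≠ 0}.Finite)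
include hD

theorem finite_bad {V : X.Opens} (hV : IsAffineOpen V) (c : X.functionField) :
    {y : X | y ∈ V ∧ ¬ Cond D y c}.Finite := by
  by_cases hc : c = 0
  · exact Set.Finite.subset Set.finite_empty fun y hy => hy.2 fun _ => Or.inl hc
  refine ((hD V hV).union (finite_ord hV hc)).subset ?_
  rintro y ⟨hy, hn⟩
  by_cases hy1 : Order.coheight y = 1
  · by_cases h0 : D y = 0
    · refine Or.inr ⟨hy, fun ho => hn fun _ => Or.inr ?_⟩
      rw [ho, h0]; rfl
    · exact Or.inl ⟨hy, hy1, h0⟩
  · exact absurd (fun h => absurd h hy1) hn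

/-- A rational function satisfying the conditions at the generizations of `x` is a section near `x`. -/
theorem exists_nhd (x : X) (c : X.functionField) (h : ∀ y : X, y ⤳ x → Cond D y c) :
    ∃ W : X.Opens, x ∈ W ∧ ∀ y ∈ W, Cond D y c := by
  classical
  obtain ⟨V, hV, hxV⟩ := QCoh.exists_affine_mem x
  have hfin := finite_bad hX hD hV c
  let Z : Set X := ⋃ y ∈ {y : X | y ∈ V ∧ ¬ Cond D y c}, closure {y}
  have hZ : IsClosed Z := hfin.isClosed_biUnion fun _ _ => isClosed_closure
  refine ⟨⟨(V : Set X) \ Z, V.isOpen.sdiff hZ⟩, ⟨hxV, fun hx => ?_⟩, fun y hy => ?_⟩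
  · obtain ⟨y, hy, hyx⟩ := Set.mem_iUnion₂.1 hx
    exact hy.2 (h y (specializes_iff_mem_closure.2 hyx))
  · by_contra hn
    exact hy.2 (Set.mem_iUnion₂.2 ⟨y, ⟨hy.1, hn⟩, subset_closure rfl⟩)

theorem mem_latt_oD_iff {x : X} (v : (oD hX D).presheaf.stalk (genericPoint X)) :
    v ∈ Latt (oD hX D) x ↔ ∀ y : X, y ⤳ x → Cond D y (val hX D v) := by
  constructor
  · rintro ⟨w, rfl⟩ y hy
    obtain ⟨U, hU, s, rfl⟩ := TopCat.Presheaf.exists_germ_eq (oD hX D).presheaf w
    rw [spec_germ, val_germ]
    exact oD_cond hX D s (hy.mem_open U.isOpen hU) _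
  · intro h
    obtain ⟨W, hxW, hW⟩ := exists_nhd hX hD x _ h
    refine ⟨(oD hX D).presheaf.germ W x hxW (mkO hX D W _ hW), val_injective hX D ?_⟩
    rw [spec_germ, val_germ]
    rfl

theorem val_surjective : Function.Surjective (val hX D) := fun c => by
  obtain ⟨W, hW, h⟩ := exists_nhd hX hD (genericPoint X) c fun y hy hy1 => by
    have h1 : y = genericPoint X := (hy.antisymm (gp_specializes y)).eq
    exfalso
    subst h1
    have h2 := ringKrullDim_stalk_eq_coheight (genericPoint X)
    rw [hy1, ringKrullDim_eq_zero_of_isField isField_gen] at h2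
    exact absurd h2 (by decide)
  exact ⟨(oD hX D).presheaf.germ W _ hW (mkO hX D W c h), by rw [val_germ]; rfl⟩

theorem isQCoh_oD : Coh.IsQCoh (oD hX D) := by
  classical
  refine QCoh.isQCoh_of_sections (fun V hV f s => ?_) fun V hV f t ht => ?_
  · by_cases hη : genericPoint X ∈ X.basicOpen f
    swap
    · refine ⟨0, 0, oD_ext hX D fun h => absurd h hη⟩
    have hfη : genericPoint X ∈ V := X.basicOpen_le f hη
    set c := s.1 ⟨genericPoint X, hη⟩ with hc
    set φ : X.functionField := X.presheaf.germ V (genericPoint X) hfη f with hφ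
    have hφ0 : φ ≠ 0 := by
      have := (X.mem_basicOpen f _ hfη).1 hη
      exact this.ne_zero
    have hfin := finite_bad hX hD hV c
    have hone : ∀ y, y ∈ V → ¬ Cond D y c → 1 ≤ Scheme.ord φ y := by
      intro y hy hn
      have hy1 : Order.coheight y = 1 := by by_contra h; exact hn fun h' => absurd h' h
      have hyf : y ∉ X.basicOpen f := fun h => hn (oD_cond hX D s h hη)
      have hfy : X.presheaf.germ V (genericPoint X) hfη f = toK y (X.presheaf.germ V y hy f) := (toK_germ hy f).symm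
      by_contra hlt
      have h0 : Scheme.ord φ y = 0 := le_antisymm (by omega)
        (CDiv6.reg_ord_nonneg hφ0 ⟨X.presheaf.germ V y hy f, hfy.symm⟩)
      haveI := CDiv6.isDVR_of_coheight_one hX hy1
      haveI : Ring.KrullDimLE 1 (X.presheaf.stalk y) := krullDimLE_of_coheight_le hy1.le
      refine hyf ((X.mem_basicOpen f y hy).2 ?_)
      rw [Ring.isUnit_iff_ordFrac_one_of_isDiscreteValuationRing (K := X.functionField)]
      rw [Scheme.ord_eq_iff hy1 hφ0] at h0
      rw [hφ, hfy] at h0
      exact h0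
    let N : ℕ := hfin.toFinset.sup fun y => (-(Scheme.ord c y + D y)).toNat
    have hN : ∀ y ∈ V, Cond D y (φ ^ N * c) := by
      intro y hy hy1
      by_cases hc0 : c = 0
      · exact Or.inl (by rw [hc0, mul_zero])
      refine Or.inr ?_
      have hpow : ∀ n : ℕ, Scheme.ord (φ ^ n) y = n * Scheme.ord φ y := by
        intro n
        induction n with
        | zero =>
          have := Scheme.ord_mul (x := y) hφ0 one_ne_zero
          rw [mul_one] at this
          rw [pow_zero, Nat.cast_zero, zero_mul]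
          omega
        | succ n ih =>
          rw [pow_succ, Scheme.ord_mul (pow_ne_zero n hφ0) hφ0, ih]
          push_cast; ring
      rw [Scheme.ord_mul (pow_ne_zero N hφ0) hc0, hpow]
      have hnn : 0 ≤ Scheme.ord φ y := CDiv6.reg_ord_nonneg hφ0
        ⟨X.presheaf.germ V y hy f, toK_germ hy f⟩
      by_cases hbad : Cond D y c
      · have := (hbad hy1).resolve_left hc0
        have : 0 ≤ (N : ℤ) * Scheme.ord φ y := mul_nonneg (Int.natCast_nonneg N) hnn
        omega
      · have h1 := hone y hy hbad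
        have h2 : (-(Scheme.ord c y + D y)).toNat ≤ N :=
          Finset.le_sup (f := fun y => (-(Scheme.ord c y + D y)).toNat) (hfin.mem_toFinset.2 ⟨hy, hbad⟩)
        have h3 : (N : ℤ) ≤ (N : ℤ) * Scheme.ord φ y := le_mul_of_one_le_right (Int.natCast_nonneg N) h1
        omega
    refine ⟨N, mkO hX D V _ hN, oD_ext hX D fun h => ?_⟩
    show φ ^ N * c = (X.presheaf.map (homOfLE (X.basicOpen_le f)).op f ^ N • s).1 ⟨genericPoint X, h⟩
    rw [oD_smul_val, map_pow, TopCat.Presheaf.germ_res_apply]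
  · by_cases hη : genericPoint X ∈ X.basicOpen f
    · refine ⟨0, oD_ext hX D fun h => ?_⟩
      rw [pow_zero, one_smul]
      exact congrArg (fun z : Γ(oD hX D, X.basicOpen f) => z.1 ⟨genericPoint X, hη⟩) ht
    · refine ⟨1, oD_ext hX D fun h => ?_⟩
      rw [pow_one, oD_smul_val]
      have hf0 : (show X.functionField from X.presheaf.germ V (genericPoint X) h f) = 0 := by
        by_contra h0
        exact hη ((X.mem_basicOpen f _ h).2 (IsUnit.mk0 _ h0))
      rw [show X.presheaf.germ V (genericPoint X) h f = 0 from hf0, zero_mul]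
      rfl

theorem isCoh_oD : Coh.IsCoh (oD hX D) := by
  classical
  refine QCoh.isCoh_iff.2 ⟨isQCoh_oD hX hD, fun V => ?_⟩
  haveI := QCoh.noetherian_sections V
  by_cases hη : genericPoint X ∈ V.1
  swap
  · haveI : Subsingleton Γ(oD hX D, V.1) := ⟨fun a b => oD_ext hX D fun h => absurd h hη⟩
    exact Module.Finite.of_finite
  haveI : Nonempty V.1 := ⟨⟨_, hη⟩⟩
  have hfin := hD V.1 V.2
  have hmem : ∀ y : X, ∃ a : Γ(X, V.1), a ≠ 0 ∧
      ∀ hy : y ∈ V.1, Order.coheight y = 1 → ¬ IsUnit (X.presheaf.germ V.1 y hy a) := by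
    intro y
    by_cases hy : y ∈ V.1 ∧ Order.coheight y = 1
    swap
    · exact ⟨1, one_ne_zero, fun h h' => absurd ⟨h, h'⟩ hy⟩
    obtain ⟨hy, hy1⟩ := hy
    haveI := V.2.isLocalization_stalk ⟨y, hy⟩
    letI := X.presheaf.algebra_section_stalk (U := V.1) ⟨y, hy⟩
    have hne : (V.2.primeIdealOf ⟨y, hy⟩).asIdeal ≠ ⊥ := by
      intro h0
      have h := ringKrullDim_stalk_eq_coheight y
      rw [IsLocalization.AtPrime.ringKrullDim_eq_height (V.2.primeIdealOf ⟨y, hy⟩).asIdeal, hy1, h0,
        Ideal.height_bot] at h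
      exact absurd h (by decide)
    obtain ⟨a, ha, ha0⟩ := Submodule.exists_mem_ne_zero_of_ne_bot hne
    refine ⟨a, ha0, fun hy' _ hu => ?_⟩
    exact ((QCoh.mem_basicOpen_iff_notMem V.2 hy' a).1 ((X.mem_basicOpen a y hy').2 hu)) ha
  choose a ha0 ha using hmem
  let M : ℕ := hfin.toFinset.sup fun y => (D y).toNat
  let d : Γ(X, V.1) := (∏ y ∈ hfin.toFinset, a y) ^ M
  have hd0 : d ≠ 0 := pow_ne_zero _ (Finset.prod_ne_zero_iff.2 fun y _ => ha0 y)
  have hgood : ∀ (s : Γ(oD hX D, V.1)) (y : X) (hy : y ∈ V.1), CDiv6.Reg y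
      ((show X.functionField from X.presheaf.germ V.1 (genericPoint X) hη d) * s.1 ⟨genericPoint X, hη⟩) := by
    intro s y hy
    set c := s.1 ⟨genericPoint X, hη⟩ with hc
    set δ : X.functionField := X.presheaf.germ V.1 (genericPoint X) hη d with hδ
    by_cases hc0 : c = 0
    · exact ⟨0, by rw [hc0, mul_zero, map_zero]⟩
    have hδ0 : δ ≠ 0 := fun h => hd0 (germ_injective_of_isIntegral X (U := V.1) _ hη (h.trans (map_zero _).symm))
    refine CDiv6.reg_of_forall_ord_nonneg hX (mul_ne_zero hδ0 hc0) fun z hz hz1 => ?_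
    have hzV : z ∈ V.1 := hz.mem_open V.1.isOpen hy
    rw [Scheme.ord_mul hδ0 hc0]
    have h1 := (oD_cond hX D s hzV hη hz1).resolve_left hc0
    rw [← hc] at h1
    by_cases hzb : D z = 0
    · have := CDiv6.reg_ord_nonneg (y := z) hδ0 ⟨X.presheaf.germ V.1 z hzV d, toK_germ hzV d⟩
      omega
    · have hzf : z ∈ hfin.toFinset := hfin.mem_toFinset.2 ⟨hzV, hz1, hzb⟩
      have hMz : (D z).toNat ≤ M := Finset.le_sup (f := fun y => (D y).toNat) hzf
      haveI := CDiv6.isDVR_of_coheight_one hX hz1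
      haveI : Ring.KrullDimLE 1 (X.presheaf.stalk z) := krullDimLE_of_coheight_le hz1.le
      set π : X.functionField := X.presheaf.germ V.1 (genericPoint X) hη (∏ y ∈ hfin.toFinset, a y) with hπ
      have hπ0 : π ≠ 0 := fun h => (Finset.prod_ne_zero_iff.2 fun y _ => ha0 y)
        (germ_injective_of_isIntegral X (U := V.1) _ hη (h.trans (map_zero _).symm))
      have hπ1 : 1 ≤ Scheme.ord π z := by
        by_contra hlt
        have h0 : Scheme.ord π z = 0 := le_antisymm (by omega)
          (CDiv6.reg_ord_nonneg hπ0 ⟨X.presheaf.germ V.1 z hzV _, toK_germ hzV _⟩)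
        rw [Scheme.ord_eq_iff hz1 hπ0, hπ, ← toK_germ hzV] at h0
        have hu := (Ring.isUnit_iff_ordFrac_one_of_isDiscreteValuationRing (K := X.functionField)).2 h0
        rw [map_prod] at hu
        exact ha z hzV hz1 ((IsUnit.prod_iff.1 hu) z hzf)
      have hpow : ∀ n : ℕ, Scheme.ord (π ^ n) z = n * Scheme.ord π z := by
        intro n
        induction n with
        | zero =>
          have := Scheme.ord_mul (x := z) hπ0 one_ne_zero
          rw [mul_one] at this
          rw [pow_zero, Nat.cast_zero, zero_mul]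
          omega
        | succ n ih =>
          rw [pow_succ, Scheme.ord_mul (pow_ne_zero n hπ0) hπ0, ih]
          push_cast; ring
      have hdz : δ = π ^ M := map_pow (X.presheaf.germ V.1 (genericPoint X) hη).hom _ M
      rw [hdz, hpow]
      have : (M : ℤ) ≤ (M : ℤ) * Scheme.ord π z := le_mul_of_one_le_right (Int.natCast_nonneg M) hπ1
      omega
  have hsec : ∀ s : Γ(oD hX D, V.1), ∃ r : Γ(X, V.1), X.presheaf.germ V.1 (genericPoint X) hη r =
      (show X.functionField from X.presheaf.germ V.1 (genericPoint X) hη d) * s.1 ⟨genericPoint X, hη⟩ := by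
    intro s
    have hF : Inj (Coh.structureModule X) := inj_of_isReflexive RefX.isCoh_unit
      ((RefX.isReflexive_iff RefX.isCoh_unit).2 fun z => Module.equiv (RefX.unitStalk z))
    obtain ⟨r, hr⟩ := hF.exists_section hη ((RefX.unitStalk (genericPoint X))
      ((show X.functionField from X.presheaf.germ V.1 (genericPoint X) hη d) * s.1 ⟨genericPoint X, hη⟩))
      fun y hy => by
        obtain ⟨b, hb⟩ := hgood s y hy
        refine ⟨RefX.unitStalk y b, ?_⟩
        rw [← hb]
        show spec _ y (b • _) = toK y b • _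
        rw [spec_smul]
        congr 1
        exact spec_germ _ _ _
    refine ⟨r, (RefX.unitStalk (genericPoint X)).injective ?_⟩
    rw [← hr, unitStalk_germ hη r]
  choose r hr using hsec
  refine Module.Finite.of_injective
    ({ toFun := r
       map_add' := fun a b => germ_injective_of_isIntegral X (U := V.1) _ hη (by
         rw [map_add, hr, hr, hr, ← mul_add]; rfl)
       map_smul' := fun b s => germ_injective_of_isIntegral X (U := V.1) _ hη (by
         rw [RingHom.id_apply, smul_eq_mul, map_mul, hr, hr, oD_smul_val hX D b s hη, mul_left_comm]) } :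
      Γ(oD hX D, V.1) →ₗ[Γ(X, V.1)] Γ(X, V.1)) fun a b hab => oD_ext hX D fun _ => ?_
  have h1 := congrArg (fun t => (X.presheaf.germ V.1 (genericPoint X) hη).hom t) (show r a = r b from hab)
  change (X.presheaf.germ V.1 (genericPoint X) hη).hom (r a) =
    (X.presheaf.germ V.1 (genericPoint X) hη).hom (r b) at h1
  erw [hr, hr] at h1
  refine mul_left_cancel₀ ?_ h1
  exact fun h => hd0 (germ_injective_of_isIntegral X (U := V.1) _ hη (h.trans (map_zero _).symm))

theorem isReflexive_oD : RefHull.IsReflexive (oD hX D) := by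
  have hc := isCoh_oD hX hD
  refine isReflexive_of_depth_one hc (inj_oD hX D) (fun y hy => reflexiveAt_coheight_one hX hc (inj_oD hX D)
    (CDiv6.coheight_eq_one_of_depth hX hy)) fun x v h => (mem_latt_oD_iff hX hD v).2 fun y hy hy1 => ?_
  have h1 : v ∈ Latt (oD hX D) y := mem_latt_of_depth_one hc.1
    (reflexiveAt_coheight_one hX hc (inj_oD hX D) hy1) v fun z hz hd => h z (hz.trans hy) hd
  exact (mem_latt_oD_iff hX hD v).1 h1 y specializes_rfl hy1

theorem genInvertible_oD : RefHull.GenInvertible (oD hX D) := by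
  obtain ⟨e, he⟩ := val_surjective hX hD (1 : X.functionField)
  refine genInvertible_of_gen_basis (isCoh_oD hX hD) (inj_oD hX D) e (fun h => ?_)
    fun v => ⟨(show X.presheaf.stalk (genericPoint X) from val hX D v), val_injective hX D ?_⟩
  · rw [h, map_zero] at he
    exact zero_ne_one he
  · rw [val_smul, he, mul_one]

end Normal

end Groth.Agent.Div57.Ref
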