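import Groth.Agent.Div57.Ref.OD
import Groth.Agent.H23.RatSecTensor
import Groth.Agent.ParShLib.ResStalk

/-!
# Rank one reflexive modules and their divisors

Rank one coherent reflexive modules on a normal scheme are determined by the orders of a nonzero
generic element; the orders add up in reflexive tensor products and change sign in duals.
-/

universe u

set_option autoImplicit false
set_option backward.isDefEq.respectTransparency false
set_option backward.isDefEq.respectTransparency.types false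
set_option linter.style.haveILetI false
set_option linter.unusedSectionVars false

open CategoryTheory AlgebraicGeometry TopologicalSpace Opposite

namespace Groth.Agent.Div57.Ref

variable {X : Scheme.{u}} [IsIntegral X] [IsLocallyNoetherian X]

theorem smul_gen_eq_zero {F : X.Modules} (a : X.presheaf.stalk (genericPoint X))
    {v : F.presheaf.stalk (genericPoint X)} (h : a • v = 0) : a = 0 ∨ v = 0 := by
  letI : Field (X.presheaf.stalk (genericPoint X)) := inferInstanceAs (Field X.functionField)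
  exact smul_eq_zero.1 h

theorem isGen_gen {F : X.Modules} {e : F.presheaf.stalk (genericPoint X)} (he : e ≠ 0)
    (hspan : ∀ v, ∃ c : X.presheaf.stalk (genericPoint X), c • e = v) : H23.RatSec.IsGen e :=
  ⟨eq_top_iff.2 fun m _ => Submodule.mem_span_singleton.2 (hspan m),
    fun a ha => (smul_gen_eq_zero a ha).resolve_right he⟩

theorem isGen_stalk {F : X.Modules} {x : X} {t : F.presheaf.stalk x}
    (ht : Submodule.span (X.presheaf.stalk x) {t} = ⊤) (ht0 : spec F x t ≠ 0) : H23.RatSec.IsGen t := by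
  refine ⟨ht, fun a ha => toK_injective x ?_⟩
  rw [map_zero]
  refine (smul_gen_eq_zero (toK x a) ?_).resolve_right ht0
  rw [← spec_smul, ha, map_zero]

theorem ne_zero_of_isGen {F : X.Modules} {e : F.presheaf.stalk (genericPoint X)}
    (h : H23.RatSec.IsGen e) : e ≠ 0 := fun h0 => by
  haveI : Nontrivial (X.presheaf.stalk (genericPoint X)) := inferInstanceAs (Nontrivial X.functionField)
  exact one_ne_zero (h.2 1 (by rw [h0, smul_zero]))

theorem isRef1_of {F : X.Modules} (hF : Coh.IsCoh F) (hr : RefHull.IsReflexive F)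
    {e : F.presheaf.stalk (genericPoint X)} (he : H23.RatSec.IsGen e) : RefHull.IsRef1 F :=
  ⟨hF, hr, genInvertible_of_gen_basis hF (inj_of_isReflexive hF hr) e (ne_zero_of_isGen he)
    fun _ => Submodule.mem_span_singleton.1 (he.1.ge Submodule.mem_top)⟩

theorem isReflexive_dual {F : X.Modules} (hF : Coh.IsCoh F) : RefHull.IsReflexive (RefHull.dual F) := by
  refine (RefX.isReflexive_iff (RefX.isCoh_dual hF)).2 fun x => ?_
  haveI := finite_stalk hF x
  haveI := finite_stalk (RefX.isCoh_unit (X := X)) x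
  haveI : Module.IsReflexive (X.presheaf.stalk x) ((Coh.structureModule X).presheaf.stalk x) :=
    Module.equiv (RefX.unitStalk x)
  haveI := S6875.result (X.presheaf.stalk x) (F.presheaf.stalk x)
    ((Coh.structureModule X).presheaf.stalk x)
  exact Module.equiv (LinearEquiv.ofBijective (RefHull.evalStalk F (Coh.structureModule X) x)
    (RefX.evalStalk_bijective (QCoh.isCoh_iff_isFP.1 hF) x)).symm

theorem isRef1_unit : RefHull.IsRef1 (Coh.structureModule X) := by
  refine isRef1_of RefX.isCoh_unit ((RefX.isReflexive_iff RefX.isCoh_unit).2 fun z =>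
    Module.equiv (RefX.unitStalk z)) (e := RefX.unitStalk (genericPoint X) 1)
    ⟨eq_top_iff.2 fun m _ => Submodule.mem_span_singleton.2
      ⟨(RefX.unitStalk (genericPoint X)).symm m, ?_⟩, fun a ha => ?_⟩
  · rw [← map_smul, smul_eq_mul, mul_one, LinearEquiv.apply_symm_apply]
  · rw [← map_smul, smul_eq_mul, mul_one] at ha
    exact (LinearEquiv.map_eq_zero_iff _).1 ha

theorem exists_ne_zero {F : X.Modules} (hF : RefHull.IsRef1 F) :
    ∃ v : F.presheaf.stalk (genericPoint X), v ≠ 0 :=
  let ⟨e, he, _⟩ := exists_gen_basis hF.2.2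
  ⟨e, he⟩

theorem isGen_of_ne_zero {F : X.Modules} (hF : RefHull.GenInvertible F)
    {v : F.presheaf.stalk (genericPoint X)} (hv : v ≠ 0) : H23.RatSec.IsGen v := by
  letI : Field (X.presheaf.stalk (genericPoint X)) := inferInstanceAs (Field X.functionField)
  obtain ⟨e, he, hspan⟩ := exists_gen_basis hF
  obtain ⟨c, rfl⟩ := hspan v
  have hc : c ≠ 0 := fun h => hv (by rw [h, zero_smul])
  refine isGen_gen hv fun w => ?_
  obtain ⟨d, rfl⟩ := hspan w
  exact ⟨d / c, by rw [← mul_smul, div_mul_cancel₀ _ hc]⟩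

/-- The value of a dual germ. -/
theorem dualStalk_spec {F : X.Modules} (hF : Coh.IsCoh F) (y : X)
    (θ : (RefHull.dual F).presheaf.stalk y) (m : F.presheaf.stalk y) :
    RefX.dualStalk (QCoh.isCoh_iff_isFP.1 hF) (genericPoint X) (spec (RefHull.dual F) y θ) (spec F y m) =
      toK y (RefX.dualStalk (QCoh.isCoh_iff_isFP.1 hF) y θ m) := by
  obtain ⟨U, hU, g, rfl⟩ := TopCat.Presheaf.exists_germ_eq (RefHull.dual F).presheaf θ
  obtain ⟨V, hV, n, rfl⟩ := TopCat.Presheaf.exists_germ_eq F.presheaf m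
  obtain ⟨W, hW, j, k, hk⟩ := RefHull.isLocSect_of_mem g (U ⊓ V) (homOfLE inf_le_left)
    (AModX.res F inf_le_right n) ⟨y, hU, hV⟩
  have hWU : W ≤ U := j.le.trans inf_le_left
  have h1 := hk ⟨y, hW⟩
  have h2 := hk ⟨genericPoint X, gp_mem hW⟩
  rw [RefX.germ_res] at h1 h2
  rw [spec_germ, spec_germ]
  show (RefX.unitStalk (genericPoint X)).symm
      (RefHull.evalStalk F (Coh.structureModule X) (genericPoint X)
        ((RefHull.dual F).presheaf.germ U (genericPoint X) (gp_mem hU) g)
        (F.presheaf.germ V (genericPoint X) (gp_mem hV) n)) =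
    toK y ((RefX.unitStalk y).symm (RefHull.evalStalk F (Coh.structureModule X) y
      ((RefHull.dual F).presheaf.germ U y hU g) (F.presheaf.germ V y hV n)))
  rw [RefHull.evalStalk_germ, RefHull.evalStalk_germ]
  dsimp only at h1 h2
  rw [h1, h2, ← unitStalk_germ hW (show Γ(X, W) from k),
    ← unitStalk_germ (gp_mem hW) (show Γ(X, W) from k), LinearEquiv.symm_apply_apply,
    LinearEquiv.symm_apply_apply, toK_germ]

section Normal

variable (hX : Pi1.IsNormalScheme X)
include hX

theorem exists_ord {y : X} (hy : Order.coheight y = 1) (n : ℤ) :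
    ∃ c : X.functionField, c ≠ 0 ∧ Scheme.ord c y = n := by
  haveI := CDiv6.isDVR_of_coheight_one hX hy
  haveI : Ring.KrullDimLE 1 (X.presheaf.stalk y) := krullDimLE_of_coheight_le hy.le
  obtain ⟨ϖ, hϖ⟩ := IsDiscreteValuationRing.exists_irreducible (X.presheaf.stalk y)
  have hp : algebraMap (X.presheaf.stalk y) X.functionField ϖ ≠ 0 :=
    (map_ne_zero_iff _ (IsFractionRing.injective _ _)).2 hϖ.ne_zero
  refine ⟨(algebraMap (X.presheaf.stalk y) X.functionField ϖ) ^ n, zpow_ne_zero _ hp, ?_⟩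
  rw [Scheme.ord_eq_iff hy (zpow_ne_zero _ hp), map_zpow₀]
  show Ring.ordFrac (X.presheaf.stalk y) (algebraMap (X.presheaf.stalk y) X.functionField ϖ) ^ n = _
  rw [Ring.ordFrac_irreducible hϖ, ← WithZero.exp_zsmul, smul_eq_mul, mul_one]
  rfl

theorem eq_of_ord_iff {y : X} (hy : Order.coheight y = 1) {a b : ℤ}
    (h : ∀ c : X.functionField, c ≠ 0 → (0 ≤ Scheme.ord c y + a ↔ 0 ≤ Scheme.ord c y + b)) : a = b := by
  obtain ⟨c, hc, hca⟩ := exists_ord hX hy (-a)
  obtain ⟨d, hd, hdb⟩ := exists_ord hX hy (-b)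
  have h1 := (h c hc).1 (by omega)
  have h2 := (h d hd).2 (by omega)
  omega

/-- Maps matching lattices preserve orders. -/
theorem secOrd_map {F G : X.Modules} (hF : RefHull.IsRef1 F) (hG : RefHull.IsRef1 G)
    (T : F.presheaf.stalk (genericPoint X) →ₗ[X.presheaf.stalk (genericPoint X)]
      G.presheaf.stalk (genericPoint X))
    {y : X} (hy : Order.coheight y = 1) {v : F.presheaf.stalk (genericPoint X)} (hv : v ≠ 0)
    (hTv : T v ≠ 0) (hT : ∀ w, T w ∈ Latt G y ↔ w ∈ Latt F y) :
    secOrd G y (T v) = secOrd F y v := by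
  have hFi := inj_of_isReflexive hF.1 hF.2.1
  have hGi := inj_of_isReflexive hG.1 hG.2.1
  refine eq_of_ord_iff hX hy fun c hc => ?_
  have h := hT ((show X.presheaf.stalk (genericPoint X) from c) • v)
  have hne : (show X.presheaf.stalk (genericPoint X) from c) • v ≠ 0 :=
    fun h0 => (smul_gen_eq_zero _ h0).elim hc hv
  have hne' : (show X.presheaf.stalk (genericPoint X) from c) • T v ≠ 0 :=
    fun h0 => (smul_gen_eq_zero _ h0).elim hc hTv
  rw [map_smul, mem_latt_iff hX hG.1 hGi hG.2.2 hy, mem_latt_iff hX hF.1 hFi hF.2.2 hy,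
    secOrd_smul hX hF.1 hFi hF.2.2 hy hc hv, secOrd_smul hX hG.1 hGi hG.2.2 hy hc hTv] at h
  simpa [hne, hne'] using h

theorem secOrd_iso {F G : X.Modules} (hF : RefHull.IsRef1 F) (hG : RefHull.IsRef1 G) (e : F ≅ G) {y : X}
    (hy : Order.coheight y = 1) {v : F.presheaf.stalk (genericPoint X)} (hv : v ≠ 0) :
    RefHull.stalkMapₗ e.hom (genericPoint X) v ≠ 0 ∧
      secOrd G y (RefHull.stalkMapₗ e.hom (genericPoint X) v) = secOrd F y v := by
  have hinv : ∀ w, RefHull.stalkMapₗ e.inv (genericPoint X) (RefHull.stalkMapₗ e.hom (genericPoint X) w) = w := by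
    intro w
    have h := LinearMap.congr_fun (stalkMap_comp e.hom e.inv (genericPoint X)) w
    rw [e.hom_inv_id, stalkMap_id] at h
    exact h.symm
  have hne : RefHull.stalkMapₗ e.hom (genericPoint X) v ≠ 0 :=
    fun h0 => hv (by rw [← hinv v, h0, map_zero])
  refine ⟨hne, secOrd_map hX hF hG _ hy hv hne fun w => ⟨fun h => ?_, stalkMap_mem_latt _⟩⟩
  rw [← hinv w]
  exact stalkMap_mem_latt _ h

/-- Rank one reflexive modules with the same orders are isomorphic. -/
theorem iso_of_secOrd {F G : X.Modules} (hF : RefHull.IsRef1 F) (hG : RefHull.IsRef1 G)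
    {v : F.presheaf.stalk (genericPoint X)} (hv : v ≠ 0) {w : G.presheaf.stalk (genericPoint X)}
    (hw : w ≠ 0) (h : ∀ y : X, Order.coheight y = 1 → secOrd F y v = secOrd G y w) :
    Nonempty (F ≅ G) := by
  have hFi := inj_of_isReflexive hF.1 hF.2.1
  have hGi := inj_of_isReflexive hG.1 hG.2.1
  have hgv := isGen_of_ne_zero hF.2.2 hv
  have hgw := isGen_of_ne_zero hG.2.2 hw
  let ev := LinearEquiv.ofBijective
    (LinearMap.toSpanSingleton (X.presheaf.stalk (genericPoint X)) (F.presheaf.stalk (genericPoint X)) v)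
    ⟨(injective_iff_map_eq_zero _).2 fun a ha => hgv.2 a ha,
      fun m => Submodule.mem_span_singleton.1 (hgv.1.ge (Submodule.mem_top : m ∈ ⊤))⟩
  let ew := LinearEquiv.ofBijective
    (LinearMap.toSpanSingleton (X.presheaf.stalk (genericPoint X)) (G.presheaf.stalk (genericPoint X)) w)
    ⟨(injective_iff_map_eq_zero _).2 fun a ha => hgw.2 a ha,
      fun m => Submodule.mem_span_singleton.1 (hgw.1.ge (Submodule.mem_top : m ∈ ⊤))⟩
  have key : ∀ (x : X) (c : X.presheaf.stalk (genericPoint X)),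
      c • v ∈ Latt F x ↔ c • w ∈ Latt G x := by
    intro x c
    by_cases hc : c = 0
    · subst hc
      simp [zero_mem_latt]
    have hcv : c • v ≠ 0 := fun h0 => (smul_gen_eq_zero _ h0).elim hc hv
    have hcw : c • w ≠ 0 := fun h0 => (smul_gen_eq_zero _ h0).elim hc hw
    rw [mem_latt_iff_ord hX hF.1 hF.2.1 hF.2.2 hcv, mem_latt_iff_ord hX hG.1 hG.2.1 hG.2.2 hcw]
    refine forall_congr' fun y => forall_congr' fun _ => forall_congr' fun hy => ?_
    rw [show secOrd F y (c • v) = Scheme.ord (show X.functionField from c) y + secOrd F y v from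
        secOrd_smul hX hF.1 hFi hF.2.2 hy (c := c) hc hv,
      show secOrd G y (c • w) = Scheme.ord (show X.functionField from c) y + secOrd G y w from
        secOrd_smul hX hG.1 hGi hG.2.2 hy (c := c) hc hw, h y hy]
  refine ⟨isoOfGen hFi hGi (ev.symm.trans ew) (fun x m hm => ?_) fun x m hm => ?_⟩
  · obtain ⟨c, rfl⟩ := ev.surjective m
    rw [LinearEquiv.trans_apply, LinearEquiv.symm_apply_apply]
    exact (key x c).1 hm
  · obtain ⟨c, rfl⟩ := ew.surjective m
    rw [LinearEquiv.symm_trans_apply, LinearEquiv.symm_apply_apply, LinearEquiv.symm_symm]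
    exact (key x c).2 hm

theorem secOrd_unit {y : X} (hy : Order.coheight y = 1) :
    secOrd (Coh.structureModule X) y (RefX.unitStalk (genericPoint X) 1) = 0 := by
  haveI : Nontrivial (X.presheaf.stalk (genericPoint X)) := inferInstanceAs (Nontrivial X.functionField)
  have hne0 : RefX.unitStalk (genericPoint X) (1 : X.presheaf.stalk (genericPoint X)) ≠ 0 :=
    fun h0 => one_ne_zero ((LinearEquiv.map_eq_zero_iff _).1 h0)
  have hspec : spec (Coh.structureModule X) y (RefX.unitStalk y 1) = RefX.unitStalk (genericPoint X) 1 := by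
    rw [← map_one (X.presheaf.germ ⊤ y trivial).hom, unitStalk_germ, spec_germ, ← unitStalk_germ, map_one]
  rw [secOrd_eq hy (t := RefX.unitStalk y 1) (eq_top_iff.2 fun m _ =>
      Submodule.mem_span_singleton.2 ⟨(RefX.unitStalk y).symm m, by
        rw [← map_smul, smul_eq_mul, mul_one, LinearEquiv.apply_symm_apply]⟩)
    (by rw [hspec]; exact hne0) (φ := 1) one_ne_zero (by rw [hspec]; exact (one_smul _ _).symm)]
  have := Scheme.ord_mul (x := y) (one_ne_zero (α := X.functionField)) (one_ne_zero (α := X.functionField))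
  rw [mul_one] at this
  linarith

section OD

variable {D : X → ℤ}
  (hD : ∀ V : X.Opens, IsAffineOpen V → {y : X | y ∈ V ∧ Order.coheight y = 1 ∧ D y ≠ 0}.Finite)
include hD

theorem isRef1_oD : RefHull.IsRef1 (oD hX D) :=
  ⟨isCoh_oD hX hD, isReflexive_oD hX hD, genInvertible_oD hX hD⟩

theorem exists_secOrd_oD : ∃ e : (oD hX D).presheaf.stalk (genericPoint X), e ≠ 0 ∧
    ∀ y : X, Order.coheight y = 1 → secOrd (oD hX D) y e = D y := by
  obtain ⟨e, he⟩ := val_surjective hX hD (1 : X.functionField)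
  have he0 : e ≠ 0 := fun h => one_ne_zero (he.symm.trans (by rw [h, map_zero]))
  refine ⟨e, he0, fun y hy => eq_of_ord_iff hX hy fun c hc => ?_⟩
  set a : X.presheaf.stalk (genericPoint X) := c with ha
  have hne : a • e ≠ 0 := fun h0 => (smul_gen_eq_zero _ h0).elim hc he0
  have h1 := mem_latt_iff hX (isCoh_oD hX hD) (inj_oD hX D) (genInvertible_oD hX hD) hy (v := a • e)
  rw [secOrd_smul hX (isCoh_oD hX hD) (inj_oD hX D) (genInvertible_oD hX hD) hy hc he0,
    mem_latt_oD_iff hX hD, val_smul, he, mul_one] at h1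
  refine ⟨fun h => ((h1.2 (Or.inr h)) y specializes_rfl hy).resolve_left hc, fun h => ?_⟩
  refine (h1.1 fun z hz hz1 => ?_).resolve_left hne
  have hzy : z = y := by
    by_contra hne'
    have hlt : y < z := lt_iff_le_not_ge.2 ⟨Scheme.le_iff_specializes.2 hz,
      fun h' => hne' (hz.antisymm (Scheme.le_iff_specializes.1 h')).eq⟩
    have := Order.coheight_strictAnti hlt (hz1 ▸ ENat.one_lt_top)
    rw [hy, hz1] at this
    exact lt_irrefl _ this
  exact hzy.symm ▸ Or.inr h

end OD

/-- A map surjective on the stalk and injective at the generic point keeps orders. -/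
theorem secOrd_push {F G : X.Modules} (φ : F ⟶ G) {y : X} (hy : Order.coheight y = 1)
    (hs : Function.Surjective (RefHull.stalkMapₗ φ y))
    (hi : Function.Injective (RefHull.stalkMapₗ φ (genericPoint X)))
    {t : F.presheaf.stalk y} (ht : Submodule.span (X.presheaf.stalk y) {t} = ⊤) (ht0 : spec F y t ≠ 0)
    (c : X.functionField) (hc : c ≠ 0) :
    secOrd G y (RefHull.stalkMapₗ φ (genericPoint X)
      ((show X.presheaf.stalk (genericPoint X) from c) • spec F y t)) = Scheme.ord c y := by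
  refine secOrd_eq hy (t := RefHull.stalkMapₗ φ y t) (eq_top_iff.2 fun m _ => ?_) ?_ hc ?_
  · obtain ⟨n, rfl⟩ := hs m
    obtain ⟨a, rfl⟩ := Submodule.mem_span_singleton.1 (ht.ge (Submodule.mem_top : n ∈ ⊤))
    exact Submodule.mem_span_singleton.2 ⟨a, (map_smul _ a t).symm⟩
  · rw [← stalkMap_spec]
    exact fun h0 => ht0 (hi (h0.trans (map_zero _).symm))
  · rw [map_smul, stalkMap_spec]

/-- The reflexive tensor product adds orders. -/
theorem secOrd_tensor {F G : X.Modules} (hF : RefHull.IsRef1 F) (hG : RefHull.IsRef1 G)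
    {v : F.presheaf.stalk (genericPoint X)} (hv : v ≠ 0) {w : G.presheaf.stalk (genericPoint X)}
    (hw : w ≠ 0) :
    RefHull.IsRef1 (RefHull.ddual (CohB1.tensorMod F G)) ∧
    RefHull.stalkMapₗ (RefHull.bidualMap (CohB1.tensorMod F G)) (genericPoint X)
        (H23.RatSecTensor.tm (genericPoint X) v w) ≠ 0 ∧
      ∀ y : X, Order.coheight y = 1 →
        secOrd (RefHull.ddual (CohB1.tensorMod F G)) y
          (RefHull.stalkMapₗ (RefHull.bidualMap (CohB1.tensorMod F G)) (genericPoint X)
            (H23.RatSecTensor.tm (genericPoint X) v w)) = secOrd F y v + secOrd G y w := by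
  have hT : Coh.IsCoh (CohB1.tensorMod F G) := ParShLib.isCoh_tensorMod hF.1 hG.1
  have hgen := H23.RatSecTensor.isGen_tm (isGen_of_ne_zero hF.2.2 hv) (isGen_of_ne_zero hG.2.2 hw)
  set p := H23.RatSecTensor.tm (genericPoint X) v w with hp
  have hu : H23.RatSec.IsGen (bidualGen hT p) := by
    refine ⟨eq_top_iff.2 fun m _ => ?_, fun a ha => ?_⟩
    · obtain ⟨n, rfl⟩ := (bidualGen hT).surjective m
      obtain ⟨a, rfl⟩ := Submodule.mem_span_singleton.1 (hgen.1.ge (Submodule.mem_top : n ∈ ⊤))
      exact Submodule.mem_span_singleton.2 ⟨a, (map_smul _ a p).symm⟩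
    · rw [← map_smul, LinearEquiv.map_eq_zero_iff] at ha
      exact hgen.2 a ha
  refine ⟨isRef1_of (isCoh_ddual hT) (isReflexive_ddual hT) hu, ne_zero_of_isGen hu,
    fun y hy => ?_⟩
  have hFi := inj_of_isReflexive hF.1 hF.2.1
  have hGi := inj_of_isReflexive hG.1 hG.2.1
  obtain ⟨t, ht, ht0⟩ := exists_gen_stalk hX hF.1 hFi hF.2.2 hy
  obtain ⟨t', hu', hu0⟩ := exists_gen_stalk hX hG.1 hGi hG.2.2 hy
  obtain ⟨φ, hφ⟩ := exists_coord_gen hX hF.2.2 ht0 v
  obtain ⟨ψ, hψ⟩ := exists_coord_gen hX hG.2.2 hu0 w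
  have hφ0 : φ ≠ 0 := fun h => hv (by rw [hφ, h, zero_smul])
  have hψ0 : ψ ≠ 0 := fun h => hw (by rw [hψ, h, zero_smul])
  have hsp : spec (CohB1.tensorMod F G) y (H23.RatSecTensor.tm y t t') =
      H23.RatSecTensor.tm (genericPoint X) (spec F y t) (spec G y t') :=
    (H23.RatSecTensor.tm_stalkSpecializes (gp_specializes y) t t').symm
  have hgen' := H23.RatSecTensor.isGen_tm (isGen_of_ne_zero hF.2.2 ht0) (isGen_of_ne_zero hG.2.2 hu0)
  have hpc : p = (φ * ψ) • spec (CohB1.tensorMod F G) y (H23.RatSecTensor.tm y t t') := by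
    rw [hp, hφ, hψ, H23.RatSecTensor.tm_smul_smul, hsp]
  rw [hpc]
  have hy' := secOrd_push hX (RefHull.bidualMap (CohB1.tensorMod F G)) hy (surjective_bidual hX hT hy)
    (bidualGen hT).injective (t := H23.RatSecTensor.tm y t t')
    (H23.RatSecTensor.isGen_tm (isGen_stalk ht ht0) (isGen_stalk hu' hu0)).1
    (by rw [hsp]; exact ne_zero_of_isGen hgen') (φ * ψ : X.functionField) (mul_ne_zero hφ0 hψ0)
  refine hy'.trans ?_
  rw [secOrd_eq hy ht ht0 (φ := φ) hφ0 hφ, secOrd_eq hy hu' hu0 (φ := ψ) hψ0 hψ,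
    Scheme.ord_mul hφ0 hψ0]

theorem exists_secOrd_tensor {F G : X.Modules} (hF : RefHull.IsRef1 F) (hG : RefHull.IsRef1 G)
    {v : F.presheaf.stalk (genericPoint X)} (hv : v ≠ 0) {w : G.presheaf.stalk (genericPoint X)}
    (hw : w ≠ 0) :
    RefHull.IsRef1 (RefHull.ddual (CohB1.tensorMod F G)) ∧
    ∃ u : (RefHull.ddual (CohB1.tensorMod F G)).presheaf.stalk (genericPoint X), u ≠ 0 ∧
      ∀ y : X, Order.coheight y = 1 →
        secOrd (RefHull.ddual (CohB1.tensorMod F G)) y u = secOrd F y v + secOrd G y w :=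
  let ⟨h1, h2, h3⟩ := secOrd_tensor hX hF hG hv hw
  ⟨h1, _, h2, h3⟩

/-- The dual negates orders. -/
theorem exists_secOrd_dual {F : X.Modules} (hF : RefHull.IsRef1 F)
    {v : F.presheaf.stalk (genericPoint X)} (hv : v ≠ 0) :
    RefHull.IsRef1 (RefHull.dual F) ∧
    ∃ u : (RefHull.dual F).presheaf.stalk (genericPoint X), u ≠ 0 ∧
      ∀ y : X, Order.coheight y = 1 → secOrd (RefHull.dual F) y u = - secOrd F y v := by
  letI : Field (X.presheaf.stalk (genericPoint X)) := inferInstanceAs (Field X.functionField)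
  have hfp := QCoh.isCoh_iff_isFP.1 hF.1
  have hg := isGen_of_ne_zero hF.2.2 hv
  let ev := LinearEquiv.ofBijective
    (LinearMap.toSpanSingleton (X.presheaf.stalk (genericPoint X)) (F.presheaf.stalk (genericPoint X)) v)
    ⟨(injective_iff_map_eq_zero _).2 fun a ha => hg.2 a ha,
      fun m => Submodule.mem_span_singleton.1 (hg.1.ge (Submodule.mem_top : m ∈ ⊤))⟩
  have hev : ev.symm v = 1 := ev.injective (by
    rw [LinearEquiv.apply_symm_apply]
    exact (one_smul (X.presheaf.stalk (genericPoint X)) v).symm)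
  set u := (RefX.dualStalk hfp (genericPoint X)).symm ev.symm.toLinearMap with hu
  have huv : RefX.dualStalk hfp (genericPoint X) u = ev.symm.toLinearMap :=
    LinearEquiv.apply_symm_apply _ _
  have hug : H23.RatSec.IsGen u := by
    refine ⟨eq_top_iff.2 fun m _ => Submodule.mem_span_singleton.2
      ⟨RefX.dualStalk hfp (genericPoint X) m v, ?_⟩, fun a ha => ?_⟩
    · refine (RefX.dualStalk hfp (genericPoint X)).injective (LinearMap.ext fun n => ?_)
      rw [map_smul, LinearMap.smul_apply, huv, LinearEquiv.coe_coe]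
      obtain ⟨b, rfl⟩ := ev.surjective n
      rw [LinearEquiv.symm_apply_apply, show ev b = b • v from rfl, map_smul, smul_eq_mul, smul_eq_mul,
        mul_comm]
    · have h1 := LinearMap.congr_fun (congrArg (RefX.dualStalk hfp (genericPoint X)) ha) v
      rw [map_smul, map_zero, LinearMap.smul_apply, huv, LinearEquiv.coe_coe, hev, smul_eq_mul, mul_one] at h1
      exact h1
  refine ⟨isRef1_of (RefX.isCoh_dual hF.1) (isReflexive_dual hF.1) hug, u, ne_zero_of_isGen hug,
    fun y hy => ?_⟩
  have hFi := inj_of_isReflexive hF.1 hF.2.1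
  obtain ⟨t, ht, ht0⟩ := exists_gen_stalk hX hF.1 hFi hF.2.2 hy
  obtain ⟨φ, hφ⟩ := exists_coord_gen hX hF.2.2 ht0 v
  have hφ0 : φ ≠ 0 := fun h => hv (by rw [hφ, h, zero_smul])
  let et := LinearEquiv.ofBijective
    (LinearMap.toSpanSingleton (X.presheaf.stalk y) (F.presheaf.stalk y) t)
    ⟨(injective_iff_map_eq_zero _).2 fun a ha => (isGen_stalk ht ht0).2 a ha,
      fun m => Submodule.mem_span_singleton.1 (ht.ge (Submodule.mem_top : m ∈ ⊤))⟩
  have het : et.symm t = 1 := et.injective (by
    rw [LinearEquiv.apply_symm_apply]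
    exact (one_smul (X.presheaf.stalk y) t).symm)
  set θ := (RefX.dualStalk hfp y).symm et.symm.toLinearMap with hθ
  have hθt : RefX.dualStalk hfp y θ = et.symm.toLinearMap := LinearEquiv.apply_symm_apply _ _
  have h1 : RefX.dualStalk hfp (genericPoint X) (spec (RefHull.dual F) y θ) (spec F y t) = 1 := by
    rw [dualStalk_spec hF.1, hθt, LinearEquiv.coe_coe, het, map_one]
  have hθu : u = φ⁻¹ • spec (RefHull.dual F) y θ := by
    refine (RefX.dualStalk hfp (genericPoint X)).injective (LinearMap.ext fun n => ?_)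
    obtain ⟨b, rfl⟩ := ev.surjective n
    rw [huv, LinearEquiv.coe_coe, LinearEquiv.symm_apply_apply, map_smul, LinearMap.smul_apply,
      show ev b = b • v from rfl, hφ, ← mul_smul, map_smul, h1, smul_eq_mul, smul_eq_mul, mul_one,
      mul_comm, mul_assoc, mul_inv_cancel₀ hφ0, mul_one]
  have hθs : Submodule.span (X.presheaf.stalk y) {θ} = ⊤ := eq_top_iff.2 fun m _ => by
    refine Submodule.mem_span_singleton.2 ⟨RefX.dualStalk hfp y m t, (RefX.dualStalk hfp y).injective
      (LinearMap.ext fun n => ?_)⟩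
    obtain ⟨b, rfl⟩ := et.surjective n
    rw [map_smul, LinearMap.smul_apply, hθt, LinearEquiv.coe_coe, LinearEquiv.symm_apply_apply,
      show et b = b • t from rfl, map_smul, smul_eq_mul, smul_eq_mul, mul_comm]
  have hθ0 : spec (RefHull.dual F) y θ ≠ 0 := fun h0 => by
    rw [h0, map_zero, LinearMap.zero_apply] at h1
    exact zero_ne_one h1
  rw [secOrd_eq hy hθs hθ0 (φ := (show X.functionField from φ)⁻¹) (inv_ne_zero hφ0) hθu,
    secOrd_eq hy ht ht0 (φ := φ) hφ0 hφ]
  exact CDiv6.ord_unit_inv (Units.mk0 (show X.functionField from φ) hφ0) y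

end Normal

end Groth.Agent.Div57.Ref
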