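import Mathlib.RingTheory.DiscreteValuationRing.Basic
import Mathlib.LinearAlgebra.FreeModule.PID
import Mathlib.LinearAlgebra.Determinant
import Mathlib.LinearAlgebra.Dimension.StrongRankCondition
import Mathlib.RingTheory.LocalRing.ResidueField.Basic

/-!
# The determinant of an endomorphism of a lattice with cokernel killed by the uniformizer
-/

universe u

set_option autoImplicit false
set_option linter.style.haveILetI false

open IsLocalRing

namespace Groth.Agent.Div57.Ref

/-- A basis-diagonal factorisation of an injective endomorphism. -/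
theorem exists_diag {O : Type u} [CommRing O] [IsDomain O] [IsPrincipalIdealRing O] {r : ℕ}
    (f : (Fin r → O) →ₗ[O] (Fin r → O)) (hf : Function.Injective f) :
    ∃ (b : Module.Basis (Fin r) O (Fin r → O)) (a : Fin r → O),
      (∀ x, x ∈ LinearMap.range f ↔ ∃ c : Fin r → O, x = ∑ i, (c i * a i) • b i) ∧
      Associated (LinearMap.det f) (∏ i, a i) := by
  classical
  let e := LinearEquiv.ofInjective f hf
  obtain ⟨b, a, ab, hab⟩ := Submodule.exists_smith_normal_form_of_rank_eq (N := LinearMap.range f)
    (Pi.basisFun O (Fin r)) e.finrank_eq.symm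
  refine ⟨b, a, fun x => ⟨fun hx => ⟨fun i => ab.repr ⟨x, hx⟩ i, ?_⟩, ?_⟩, ?_⟩
  · have := (congrArg Subtype.val (ab.sum_repr ⟨x, hx⟩)).symm
    simp only [AddSubmonoidClass.coe_finsetSum, SetLike.val_smul, hab, smul_smul] at this
    exact this
  · rintro ⟨c, rfl⟩
    refine Submodule.sum_mem _ fun i _ => ?_
    rw [mul_smul, ← hab]
    exact Submodule.smul_mem _ _ (ab i).2
  · let P : (Fin r → O) ≃ₗ[O] (Fin r → O) := e.trans (ab.equiv b (Equiv.refl _))
    let D : (Fin r → O) →ₗ[O] (Fin r → O) := b.constr O fun i => a i • b i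
    have hD : ∀ y : LinearMap.range f, D (ab.equiv b (Equiv.refl _) y) = (y : Fin r → O) := by
      intro y
      refine LinearMap.congr_fun (f := D ∘ₗ (ab.equiv b (Equiv.refl _)).toLinearMap)
        (g := (LinearMap.range f).subtype) (ab.ext fun i => ?_) y
      simp [D, hab, Module.Basis.constr_basis]
    have hfD : f = D ∘ₗ P.toLinearMap := LinearMap.ext fun x => (hD (e x)).symm
    have hdetD : LinearMap.det D = ∏ i, a i := by
      rw [← LinearMap.det_toMatrix b]
      have : LinearMap.toMatrix b b D = Matrix.diagonal a := by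
        ext i j
        rw [LinearMap.toMatrix_apply, Module.Basis.constr_basis, map_smul, Finsupp.smul_apply,
          Module.Basis.repr_self, smul_eq_mul, Matrix.diagonal_apply]
        by_cases h : i = j
        · subst h; simp
        · simp [h, Finsupp.single_eq_of_ne h]
      rw [this, Matrix.det_diagonal]
    rw [hfD, LinearMap.det_comp, hdetD]
    exact associated_mul_unit_left _ _ (LinearEquiv.isUnit_det' P)

/-- The determinant is a power of the uniformizer, bounded by rank and number of generators of the cokernel. -/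
theorem exists_det_associated_pow {O : Type u} [CommRing O] [IsDomain O] [IsDiscreteValuationRing O]
    {π : O} (hπ : Irreducible π) {r s : ℕ} (f : (Fin r → O) →ₗ[O] (Fin r → O))
    (hπf : ∀ x, π • x ∈ LinearMap.range f) (u : Fin s → (Fin r → O))
    (hu : ∀ x, ∃ (y : Fin r → O) (c : Fin s → O), x = f y + ∑ j, c j • u j) :
    ∃ k : ℕ, k ≤ min s r ∧ Associated (LinearMap.det f) (π ^ k) := by
  classical
  have hf : Function.Injective f := by
    refine LinearMap.ker_eq_bot.1 ((Submodule.eq_bot_iff _).2 fun x hx => ?_)
    by_contra hx0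
    obtain ⟨v, hv⟩ : ∃ g : (Fin r → O) →ₗ[O] (Fin r → O), ∀ z, f (g z) = π • z := by
      choose g hg using fun i => LinearMap.mem_range.1 (hπf (Pi.basisFun O (Fin r) i))
      refine ⟨(Pi.basisFun O (Fin r)).constr O g, fun z => ?_⟩
      refine LinearMap.congr_fun (f := f ∘ₗ (Pi.basisFun O (Fin r)).constr O g) (g := π • LinearMap.id) ?_ z
      refine (Pi.basisFun O (Fin r)).ext fun i => ?_
      rw [LinearMap.comp_apply, Module.Basis.constr_basis, hg]
      rfl
    have hdet : LinearMap.det f * LinearMap.det v = π ^ r := by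
      rw [← LinearMap.det_comp, show f ∘ₗ v = π • LinearMap.id from LinearMap.ext hv, LinearMap.det_smul,
        LinearMap.det_id, mul_one, Module.finrank_fin_fun]
    have hz : LinearMap.det f = 0 := by
      rw [← LinearMap.det_toMatrix (Pi.basisFun O (Fin r))]
      refine Matrix.exists_mulVec_eq_zero_iff.1 ⟨(Pi.basisFun O (Fin r)).repr x,
        fun h => hx0 ((Pi.basisFun O (Fin r)).repr.map_eq_zero_iff.1 (Finsupp.ext (congrFun h))), ?_⟩
      rw [LinearMap.toMatrix_mulVec_repr, LinearMap.mem_ker.1 hx, map_zero]
      rfl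
    rw [hz, zero_mul] at hdet
    exact pow_ne_zero r hπ.ne_zero hdet.symm
  obtain ⟨b, a, hmem, hdet⟩ := exists_diag f hf
  have hdiv : ∀ i, a i ∣ π := fun i => by
    obtain ⟨c, hc⟩ := (hmem _).1 (hπf (b i))
    have := congrArg (fun z => b.repr z i) hc
    simp only [map_smul, map_sum, Module.Basis.repr_self, Finsupp.smul_single, smul_eq_mul, mul_one,
      Finsupp.single_eq_same, Finsupp.finsetSum_apply] at this
    rw [Finset.sum_eq_single i (fun j _ hj => Finsupp.single_eq_of_ne (Ne.symm hj))
      (fun h => absurd (Finset.mem_univ i) h), Finsupp.single_eq_same] at this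
    exact ⟨c i, by rw [this, mul_comm]⟩
  let S : Finset (Fin r) := Finset.univ.filter fun i => ¬ IsUnit (a i)
  have hk : Associated (∏ i, a i) (π ^ S.card) := by
    rw [← Finset.prod_filter_mul_prod_filter_not Finset.univ (fun i => ¬ IsUnit (a i)), ← Finset.prod_const π]
    refine Associated.trans (associated_mul_unit_left _ _ ?_) ?_
    · exact IsUnit.prod_iff.2 fun i hi => not_not.1 (Finset.mem_filter.1 hi).2
    · refine Associated.prod S _ _ fun i hi => ?_
      exact (((hπ.dvd_iff).1 (hdiv i)).resolve_left (Finset.mem_filter.1 hi).2).symm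
  have hsS : S.card ≤ s := by
    let g : (Fin r → O) →ₗ[O] (S → ResidueField O) :=
      LinearMap.pi fun i => (Algebra.linearMap O (ResidueField O)).comp (b.coord i.1)
    have hg : ∀ x, g x = fun i => residue O (b.repr x i.1) := fun x => rfl
    have hsurj : Function.Surjective g := fun z => by
      choose z' hz' using fun i => residue_surjective (R := O) (z i)
      refine ⟨∑ i, z' i • b i.1, ?_⟩
      rw [hg]
      funext i
      rw [map_sum, Finsupp.finsetSum_apply,
        Finset.sum_eq_single i (fun j _ hj => by simp [Finsupp.single_eq_of_ne (fun h : i.1 = j.1 => hj (Subtype.ext h.symm))])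
          (fun h => absurd (Finset.mem_univ i) h)]
      simp [hz']
    have hgf : ∀ y, g (f y) = 0 := fun y => by
      obtain ⟨c, hc⟩ := (hmem _).1 ⟨y, rfl⟩
      rw [hg, hc]
      funext i
      rw [map_sum, Finsupp.finsetSum_apply,
        Finset.sum_eq_single i.1 (fun j _ hj => by simp [Finsupp.single_eq_of_ne (Ne.symm hj)])
          (fun h => absurd (Finset.mem_univ _) h)]
      have : residue O (a i.1) = 0 := (residue_eq_zero_iff _).2 (Finset.mem_filter.1 i.2).2
      simp [this]
    have hspan : (⊤ : Submodule (ResidueField O) (S → ResidueField O)) ≤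
        Submodule.span (ResidueField O) (Set.range fun j => g (u j)) := by
      intro z _
      obtain ⟨x, rfl⟩ := hsurj z
      obtain ⟨y, c, rfl⟩ := hu x
      rw [map_add, hgf, zero_add, map_sum]
      refine Submodule.sum_mem _ fun j _ => ?_
      rw [map_smul, show c j • g (u j) = residue O (c j) • g (u j) from rfl]
      exact Submodule.smul_mem _ _ (Submodule.subset_span ⟨j, rfl⟩)
    have h1 := finrank_range_le_card (R := ResidueField O) fun j => g (u j)
    rw [Set.finrank, eq_top_iff.2 hspan, finrank_top, Module.finrank_pi, Fintype.card_coe, Fintype.card_fin] at h1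
    exact h1
  refine ⟨S.card, le_min hsS ?_, hdet.trans hk⟩
  exact S.card_le_univ.trans_eq (Fintype.card_fin r)

end Groth.Agent.Div57.Ref
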