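import Groth.Agent.Div57.Ref.FreeLocus
import Groth.Agent.RefX.Ext
import Groth.Agent.ParaFX.Ufd

/-!
# Reflexive modules and extension from big opens
-/

universe u

set_option autoImplicit false
set_option backward.isDefEq.respectTransparency false
set_option backward.isDefEq.respectTransparency.types false
set_option linter.style.haveILetI false
set_option linter.unusedSectionVars false

open CategoryTheory AlgebraicGeometry TopologicalSpace Opposite

namespace Groth.Agent.Div57.Ref

variable {X : Scheme.{u}}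

/-- Conversely, if the unit is an isomorphism then sections extend. -/
theorem extendsAcross_of_isIso_unit {M : X.Modules} {U : X.Opens}
    (h : IsIso ((Scheme.Modules.restrictAdjunction U.ι).unit.app M)) : RefX.ExtendsAcross U M := fun V => by
  have h3 := (ConcreteCategory.isIso_iff_bijective _).1 (Scheme.Modules.Hom.isIso_iff_isIso_app.1 h V)
  rw [Scheme.Modules.restrictAdjunction_unit_app_app] at h3
  have hle : U.ι ''ᵁ (U.ι ⁻¹ᵁ V) ≤ V ⊓ U := fun z hz => by
    rw [Scheme.Hom.image_preimage_eq_opensRange_inf, Scheme.Opens.opensRange_ι] at hz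
    exact ⟨hz.2, hz.1⟩
  have hge : V ⊓ U ≤ U.ι ''ᵁ (U.ι ⁻¹ᵁ V) := fun z hz => by
    rw [Scheme.Hom.image_preimage_eq_opensRange_inf, Scheme.Opens.opensRange_ι]
    exact ⟨hz.2, hz.1⟩
  refine ⟨fun a b hab => h3.1 ?_, fun b => ?_⟩
  · exact ((AModX.res_res inf_le_left hle a).symm.trans (congrArg (AModX.res M hle) hab)).trans
      (AModX.res_res inf_le_left hle b)
  · obtain ⟨a, ha⟩ := h3.2 (AModX.res M hle b)
    refine ⟨a, ?_⟩
    have := congrArg (AModX.res M hge) (show AModX.res M (hle.trans inf_le_left) a = AModX.res M hle b from ha)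
    simpa only [AModX.res_res, AModX.res_self] using this

variable [IsIntegral X] [IsLocallyNoetherian X]

theorem two_le_depth_of_dim (hX : Pi1.IsNormalScheme X) {x : X}
    (h : (2 : WithBot ℕ∞) ≤ ringKrullDim (X.presheaf.stalk x)) :
    (2 : ℕ∞) ≤ LocCoh.depth (X.presheaf.stalk x) (X.presheaf.stalk x) :=
  haveI := (hX x).2
  ParaFX.two_le_depth_of_normal _ h

theorem reflexiveAt_of_free {F : X.Modules} (hF : Coh.IsCoh F) {x : X}
    (h : Module.Free (X.presheaf.stalk x) (F.presheaf.stalk x)) : RefHull.IsReflexiveAt F x := by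
  haveI := finite_stalk hF x
  haveI := h
  show Module.IsReflexive (X.presheaf.stalk x) (F.presheaf.stalk x)
  infer_instance

/-- A coherent module free on a big open from which it extends is reflexive. -/
theorem isReflexive_of_extendsAcross (hX : Pi1.IsNormalScheme X) {F : X.Modules} (hF : Coh.IsCoh F)
    {U : X.Opens} (hU : ∀ x : X, x ∉ U → (2 : WithBot ℕ∞) ≤ ringKrullDim (X.presheaf.stalk x))
    (hr : ∀ x ∈ U, RefHull.IsReflexiveAt F x) (hext : RefX.ExtendsAcross U F) :
    RefHull.IsReflexive F := by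
  have hone : ∀ y : X, Order.coheight y = 1 → y ∈ U := fun y hy => by
    by_contra h
    have h2 := hU y h
    rw [ringKrullDim_stalk_eq_coheight, hy] at h2
    exact absurd h2 (by decide)
  have hinj : Inj F := fun x => by
    refine (injective_iff_map_eq_zero _).2 fun m hm => ?_
    obtain ⟨W, hxW, f, rfl⟩ := TopCat.Presheaf.exists_germ_eq F.presheaf m
    rw [spec_germ] at hm
    have h0 : f = 0 := (hext W).1 (by
      rw [map_zero]
      refine ZClosLib.section_ext F _ _ fun z hz => spec_injective_of_reflexiveAt hF.1 (hr z hz.2) ?_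
      rw [RefX.germ_res, spec_germ, map_zero, map_zero]
      exact hm)
    rw [h0, map_zero]
  refine isReflexive_of_depth_one hF hinj
    (fun y hy => hr y (hone y (CDiv6.coheight_eq_one_of_depth hX hy))) fun x v h => ?_
  classical
  obtain ⟨W₀, hη₀, f₀, hf₀⟩ := TopCat.Presheaf.exists_germ_eq F.presheaf v
  obtain ⟨V, hV, hxV⟩ := QCoh.exists_affine_mem x
  have hfin := finite_coheight_one_off hV W₀ hη₀
  let bad : Set X := {y : X | y ∈ V ∧ y ∉ W₀ ∧ Order.coheight y = 1} ∩ {y | ¬ y ⤳ x}
  let Z : Set X := ⋃ y ∈ bad, closure {y}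
  have hZ : IsClosed Z := (hfin.subset Set.inter_subset_left).isClosed_biUnion fun _ _ => isClosed_closure
  let W : X.Opens := ⟨(V : Set X) \ Z, V.isOpen.sdiff hZ⟩
  have hxW : x ∈ W := ⟨hxV, fun hx => by
    obtain ⟨y, hy, hyx⟩ := Set.mem_iUnion₂.1 hx
    exact hy.2 (specializes_iff_mem_closure.2 hyx)⟩
  have hlatt : ∀ z ∈ W ⊓ U, v ∈ Latt F z := fun z hz =>
    mem_latt_of_depth_one hF.1 (hr z hz.2) v fun y hy hd => by
      by_cases hyx : y ⤳ x
      · exact h y hyx hd
      have hyV : y ∈ V := hy.mem_open V.isOpen hz.1.1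
      by_cases hyW : y ∈ W₀
      · exact hf₀ ▸ germ_mem_latt hyW f₀
      · exact absurd (Set.mem_iUnion₂.2 ⟨y, ⟨⟨hyV, hyW, CDiv6.coheight_eq_one_of_depth hX hd⟩, hyx⟩,
          specializes_iff_mem_closure.1 hy⟩) hz.1.2
  have hη : genericPoint X ∈ W ⊓ U := ⟨gp_mem hxW, by
    by_contra hn
    have h2 := hU _ hn
    rw [ringKrullDim_eq_zero_of_isField isField_gen] at h2
    exact absurd h2 (by decide)⟩
  obtain ⟨g, hg⟩ := hinj.exists_section hη v hlatt
  obtain ⟨g', hg'⟩ := (hext W).2 g
  refine ⟨F.presheaf.germ W x hxW g', ?_⟩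
  rw [spec_germ, ← hg, ← hg', RefX.germ_res]

end Groth.Agent.Div57.Ref
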