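import Groth.Agent.Div57.Ref.Inv
import Groth.Agent.CDiv6.Factorial
import Groth.Agent.InvX.Tensor

/-!
# Frames from orders, and local equations versus factoriality
-/

universe u

set_option autoImplicit false
set_option backward.isDefEq.respectTransparency false
set_option backward.isDefEq.respectTransparency.types false
set_option linter.style.haveILetI false
set_option linter.unusedSectionVars false

open CategoryTheory AlgebraicGeometry TopologicalSpace Opposite

namespace Groth.Agent.Div57.Ref

variable {X : Scheme.{u}} [IsIntegral X] [IsLocallyNoetherian X] (hX : Pi1.IsNormalScheme X)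
  {F : X.Modules} (hF : RefHull.IsRef1 F)

include hX hF in
/-- A generic element of order zero at the generizations of `x` generates the stalk. -/
theorem exists_isGen_stalk {v : F.presheaf.stalk (genericPoint X)} (hv : v ≠ 0) {x : X}
    (h : ∀ y : X, y ⤳ x → Order.coheight y = 1 → secOrd F y v = 0) :
    ∃ t : F.presheaf.stalk x, spec F x t = v ∧ H23.RatSec.IsGen t := by
  letI : Field (X.presheaf.stalk (genericPoint X)) := inferInstanceAs (Field X.functionField)
  have hinj := inj_of_isReflexive hF.1 hF.2.1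
  obtain ⟨t, ht⟩ := (mem_latt_iff_ord hX hF.1 hF.2.1 hF.2.2 hv).2 fun y hy hy1 => (h y hy hy1).ge
  have hg := isGen_of_ne_zero hF.2.2 hv
  refine ⟨t, ht, eq_top_iff.2 fun w _ => ?_, fun a ha => ?_⟩
  · obtain ⟨c, hc⟩ := Submodule.mem_span_singleton.1 (hg.1.ge (Submodule.mem_top : spec F x w ∈ ⊤))
    by_cases hc0 : c = 0
    · refine Submodule.mem_span_singleton.2 ⟨0, hinj x ?_⟩
      rw [map_zero (spec F x) |> fun e => (congrArg _ (zero_smul _ t)).trans e, ← hc, hc0, zero_smul]
    obtain ⟨a, ha⟩ := CDiv6.reg_of_forall_ord_nonneg hX (f := (show X.functionField from c)) (x := x) hc0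
      fun y hy hy1 => by
        have h1 := (mem_latt_iff hX hF.1 hinj hF.2.2 hy1).1 (latt_mono F hy ⟨w, rfl⟩)
        rw [← hc, show secOrd F y (c • v) = Scheme.ord (show X.functionField from c) y + secOrd F y v from
          secOrd_smul hX hF.1 hinj hF.2.2 hy1 (c := c) hc0 hv, h y hy hy1, add_zero] at h1
        exact h1.resolve_left fun h2 => (smul_gen_eq_zero _ h2).elim hc0 hv
    refine Submodule.mem_span_singleton.2 ⟨a, hinj x ?_⟩
    rw [spec_smul, ht, ← hc]
    exact congrArg (fun z : X.presheaf.stalk (genericPoint X) => z • v) ha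
  · have h1 := congrArg (spec F x) ha
    rw [spec_smul, ht, map_zero] at h1
    exact toK_injective x (((smul_gen_eq_zero _ h1).resolve_right hv).trans (map_zero _).symm)

include hX hF in
/-- A generic element of order zero on `U` is a frame on `U`. -/
theorem exists_isFrame_of_secOrd_zero {v : F.presheaf.stalk (genericPoint X)} (hv : v ≠ 0)
    {U : X.Opens} (hη : genericPoint X ∈ U)
    (h : ∀ y ∈ U, Order.coheight y = 1 → secOrd F y v = 0) :
    ∃ e : Γ(F, U), F.presheaf.germ U (genericPoint X) hη e = v ∧ InvX.IsFrame e := by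
  have hinj := inj_of_isReflexive hF.1 hF.2.1
  have key := fun x (hx : x ∈ U) => exists_isGen_stalk hX hF hv (x := x)
    fun y hy hy1 => h y (hy.mem_open U.isOpen hx) hy1
  obtain ⟨e, he⟩ := hinj.exists_section hη v fun x hx => ⟨_, (key x hx).choose_spec.1⟩
  refine ⟨e, he, InvX.isFrame_of_germ fun x hx => ?_⟩
  obtain ⟨t, ht, hgen⟩ := key x hx
  have ht' : F.presheaf.germ U x hx e = t := hinj x (by rw [spec_germ, he, ht])
  rw [ht']
  exact ⟨fun a b hab => sub_eq_zero.1 (hgen.2 _ (by
      rw [sub_smul]; exact sub_eq_zero.2 hab)),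
    fun m => Submodule.mem_span_singleton.1 (hgen.1.ge (Submodule.mem_top : m ∈ ⊤))⟩

include hX hF in
/-- A rank one reflexive module is invertible if locally some multiple of a generic element has order zero. -/
theorem isInvertible_of_local_eq {v : F.presheaf.stalk (genericPoint X)} (hv : v ≠ 0)
    (h : ∀ x : X, ∃ (U : X.Opens) (c : X.functionField), x ∈ U ∧ c ≠ 0 ∧
      ∀ y ∈ U, Order.coheight y = 1 → Scheme.ord c y + secOrd F y v = 0) :
    PicF.IsInvertible F := by
  have hinj := inj_of_isReflexive hF.1 hF.2.1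
  refine InvX.isInvertible_of_frames fun x => ?_
  obtain ⟨U, c, hxU, hc, hU⟩ := h x
  obtain ⟨e, -, he⟩ := exists_isFrame_of_secOrd_zero hX hF
    (v := (show X.presheaf.stalk (genericPoint X) from c) • v)
    (fun h0 => (smul_gen_eq_zero _ h0).elim hc hv) (gp_mem hxU) fun y hy hy1 => by
      rw [secOrd_smul hX hF.1 hinj hF.2.2 hy1 hc hv, hU y hy hy1]
  exact ⟨U, hxU, e, he⟩

include hX in
/-- Local equations for all codimension one points make the local rings factorial. -/
theorem ufd_of_local_eq (hloc : ∀ x₀ : X, Order.coheight x₀ = 1 → ∀ x : X, ∃ (U : X.Opens)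
      (f : CDiv.KUnits X), x ∈ U ∧ ∀ y ∈ U, Order.coheight y = 1 →
        ((y = x₀ → Scheme.ord (f : X.functionField) y = 1) ∧
          (y ≠ x₀ → Scheme.ord (f : X.functionField) y = 0))) (x : X) :
    UniqueFactorizationMonoid (X.presheaf.stalk x) := by
  refine CDiv6.ufd_of_divisors hX (fun x₀ h₀ => ?_) x
  choose U g hxU hg using hloc x₀ h₀
  have hD : ∀ x z : X, z ∈ U x → CDiv.germOf X z (g z) = CDiv.germOf X z (g x) := by
    intro x z hz
    have : CDiv.germOf X z (g z / g x) = 1 := CDiv6.germOf_eq_one_of_ord hX _ fun y hy hy1 => by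
      rw [CDiv6.ord_div_unit]
      obtain ⟨a1, a2⟩ := hg z y (hy.mem_open (U z).isOpen (hxU z)) hy1
      obtain ⟨b1, b2⟩ := hg x y (hy.mem_open (U x).isOpen hz) hy1
      by_cases h : y = x₀
      · rw [a1 h, b1 h, sub_self]
      · rw [a2 h, b2 h, sub_self]
    rwa [CDiv.germOf, QuotientGroup.mk_div, div_eq_one] at this
  have heq : ∀ (y : X) (f : CDiv.KUnits X), CDiv.germOf X y (g y) = CDiv.germOf X y f →
      Scheme.ord (f : X.functionField) y = Scheme.ord (g y : X.functionField) y := by
    intro y f h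
    have h1 : CDiv.germOf X y (g y / f) = 1 := by
      rw [CDiv.germOf, QuotientGroup.mk_div, div_eq_one]; exact h
    obtain ⟨r1, r2⟩ := (CDiv6.germOf_eq_one_iff y _).mp h1
    have h2 := CDiv6.reg_ord_nonneg (g y / f).ne_zero r1
    have h3 := CDiv6.reg_ord_nonneg ((g y / f)⁻¹).ne_zero r2
    rw [CDiv6.ord_unit_inv, CDiv6.ord_div_unit] at h3
    rw [CDiv6.ord_div_unit] at h2
    omega
  refine ⟨⟨fun x => CDiv.germOf X x (g x), fun x => ⟨U x, g x, hxU x, fun y hy => hD x y hy⟩⟩,
    fun f hf => ?_, fun x hx hx1 f hf => ?_⟩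
  · rw [heq x₀ f hf]
    exact (hg x₀ x₀ (hxU x₀) h₀).1 rfl
  · rw [heq x f hf]
    exact (hg x x (hxU x) hx1).2 hx

end Groth.Agent.Div57.Ref
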