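import Groth.Agent.Div57.Ref.Normal
import Groth.Agent.QCoh.LocFree
import Groth.Agent.QCoh.Support

/-!
# Free loci of coherent modules
-/

universe u

set_option autoImplicit false
set_option backward.isDefEq.respectTransparency false
set_option backward.isDefEq.respectTransparency.types false
set_option linter.style.haveILetI false
set_option linter.unusedSectionVars false

open CategoryTheory AlgebraicGeometry TopologicalSpace Opposite Groth.Agent.QCoh

namespace Groth.Agent.Div57.Ref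

variable {X : Scheme.{u}} {M : X.Modules}

theorem isFinLocFree_restrict_of_charts (U : X.Opens)
    (h : ∀ x ∈ U, ∃ (W : X.Opens) (n : ℕ), x ∈ W ∧
      Nonempty (M.restrict W.ι ≅ FlatMod.freeMod (W : Scheme.{u}) n)) :
    FlatMod.IsFinLocFree (M.restrict U.ι) := fun z => by
  obtain ⟨W, n, hx, ⟨i⟩⟩ := h (U.ι z) z.2
  refine ⟨U.ι ⁻¹ᵁ W, n, hx, ⟨restrictRestrict M _ U.ι ≪≫
    (Scheme.Modules.restrictFunctorCongr (morphismRestrict_ι U.ι W).symm).app M ≪≫
    (restrictRestrict M _ W.ι).symm ≪≫ (Scheme.Modules.restrictFunctor _).mapIso i ≪≫ freeModRestrict _ n⟩⟩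

theorem exists_chart {U : X.Opens} (h : FlatMod.IsFinLocFree (M.restrict U.ι)) {x : X} (hx : x ∈ U) :
    ∃ (W : X.Opens) (n : ℕ), x ∈ W ∧ W ≤ U ∧
      Nonempty (M.restrict W.ι ≅ FlatMod.freeMod (W : Scheme.{u}) n) := by
  obtain ⟨V, n, hz, ⟨e⟩⟩ := h ⟨x, hx⟩
  let q : ((U.ι ''ᵁ V : X.Opens) : Scheme.{u}) ⟶ V := (U.ι.isoImage V).inv
  have hq : q ≫ V.ι ≫ U.ι = (U.ι ''ᵁ V).ι := by simp [q]
  exact ⟨U.ι ''ᵁ V, n, ⟨⟨x, hx⟩, hz, rfl⟩, U.ι_image_le V,
    ⟨(Scheme.Modules.restrictFunctorCongr hq.symm).app M ≪≫ (restrictRestrict M q (V.ι ≫ U.ι)).symm ≪≫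
      (Scheme.Modules.restrictFunctor q).mapIso ((restrictRestrict M V.ι U.ι).symm ≪≫ e) ≪≫ freeModRestrict _ n⟩⟩

theorem free_stalk_of_chart (hM : Coh.IsQCoh M) {W : X.Opens} {n : ℕ}
    (e : M.restrict W.ι ≅ FlatMod.freeMod (W : Scheme.{u}) n) {x : X} (hx : x ∈ W) :
    Module.Free (X.presheaf.stalk x) (M.presheaf.stalk x) := by
  obtain ⟨_, ⟨V, hV, rfl⟩, hxV, hle⟩ := X.isBasis_affineOpens.exists_subset_of_mem_open hx W.isOpen
  have hV' : IsAffineOpen V := hV
  obtain ⟨l⟩ := free_sections hV' (show V ≤ W from hle) e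
  haveI : Module.Free Γ(X, V) Γ(M, V) := Module.Free.of_equiv l.symm
  letI := stalkAlg (X := X) hxV
  letI := stalkModule M hxV
  haveI := isScalarTower_stalk M hxV
  haveI := isLocalization_stalk' hV' hxV
  haveI := isLocalizedModule_germLin hM hV' hxV
  exact Module.free_of_isLocalizedModule (hV'.primeIdealOf ⟨x, hxV⟩).asIdeal.primeCompl (germLin M hxV)

theorem free_stalk_of_restrict (hM : Coh.IsQCoh M) {U : X.Opens}
    (h : FlatMod.IsFinLocFree (M.restrict U.ι)) {x : X} (hx : x ∈ U) :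
    Module.Free (X.presheaf.stalk x) (M.presheaf.stalk x) :=
  let ⟨_, _, hxW, _, ⟨e⟩⟩ := exists_chart h hx
  free_stalk_of_chart hM e hxW

theorem exists_freeLocus (hM : CohB1.IsFP M) :
    ∃ U : X.Opens, (∀ x : X, x ∈ U ↔ Module.Free (X.presheaf.stalk x) (M.presheaf.stalk x)) ∧
      FlatMod.IsFinLocFree (M.restrict U.ι) := by
  have hq := isQCoh_of_isFP hM
  have hopen : IsOpen {x : X | Module.Free (X.presheaf.stalk x) (M.presheaf.stalk x)} := by
    refine isOpen_iff_forall_mem_open.2 fun x hx => ?_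
    haveI : Module.Free (X.presheaf.stalk x) (M.presheaf.stalk x) := hx
    obtain ⟨W, n, hxW, ⟨e⟩⟩ := exists_free_nhd_of_free_stalk hM x
    exact ⟨W, fun y hy => free_stalk_of_chart hq e hy, W.isOpen, hxW⟩
  refine ⟨⟨_, hopen⟩, fun x => Iff.rfl, isFinLocFree_restrict_of_charts _ fun x hx => ?_⟩
  haveI : Module.Free (X.presheaf.stalk x) (M.presheaf.stalk x) := hx
  exact exists_free_nhd_of_free_stalk hM x

/-- A torsion free coherent module on a normal scheme is free in codimension one. -/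
theorem exists_big_free_open [IsIntegral X] [IsLocallyNoetherian X] (hX : Pi1.IsNormalScheme X)
    (hM : Coh.IsCoh M) (hinj : Inj M) :
    ∃ U : X.Opens, (∀ x : X, x ∉ U → (2 : WithBot ℕ∞) ≤ ringKrullDim (X.presheaf.stalk x)) ∧
      FlatMod.IsFinLocFree (M.restrict U.ι) := by
  obtain ⟨U, hU, hfree⟩ := exists_freeLocus (isCoh_iff_isFP.1 hM)
  refine ⟨U, fun x hx => ?_, hfree⟩
  by_contra h
  rw [ringKrullDim_stalk_eq_coheight] at h
  have h1 : Order.coheight x < 2 := lt_of_not_ge fun h' => h (WithBot.coe_le_coe.2 h')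
  refine hx ((hU x).2 ?_)
  rcases (show Order.coheight x = 0 ∨ Order.coheight x = 1 by
    generalize Order.coheight x = c at h1
    induction c using ENat.recTopCoe with
    | top => simp at h1
    | coe k =>
      have : k < 2 := by exact_mod_cast h1
      rcases k with _ | _ | k
      · exact Or.inl rfl
      · exact Or.inr rfl
      · omega) with h0 | h0
  · have hd : ringKrullDim (X.presheaf.stalk x) = 0 := by rw [ringKrullDim_stalk_eq_coheight, h0]; rfl
    haveI : Ring.KrullDimLE 0 (X.presheaf.stalk x) := (Ring.krullDimLE_iff).2 hd.le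
    letI : Field (X.presheaf.stalk x) := (Ring.KrullDimLE.isField_of_isDomain).toField
    exact Module.Free.of_divisionRing _ _
  · exact finite_free_stalk hX hM hinj h0

end Groth.Agent.Div57.Ref
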