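import Groth.Agent.RefX.Reflexive
import Groth.Agent.TorLib.Basic
import Groth.Agent.H23.ZeroSec
import Groth.Agent.CDiv6.Basic
import Groth.Agent.QCoh.DevissageP

/-!
# Modules inside their generic stalk

On an integral scheme `spec F x : F_x → F_η` and its image `Latt F x`.  Sections and morphisms into a
module with injective `spec` are given by generic data; for reflexive stalks membership in `Latt` is
tested at the generizations of depth one.
-/

universe u

set_option autoImplicit false
set_option backward.isDefEq.respectTransparency false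
set_option backward.isDefEq.respectTransparency.types false
set_option linter.style.haveILetI false
set_option linter.unusedSectionVars false

open CategoryTheory AlgebraicGeometry TopologicalSpace Opposite

namespace Groth.Agent.Div57.Ref

variable {X : Scheme.{u}} [IsIntegral X]

theorem gp_specializes (x : X) : genericPoint X ⤳ x :=
  (genericPoint_spec X).specializes (Set.mem_univ x)

theorem gp_mem {U : X.Opens} {x : X} (hx : x ∈ U) : genericPoint X ∈ U :=
  (gp_specializes x).mem_open U.isOpen hx

/-- The map from the local ring to the function field. -/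
noncomputable def toK (x : X) : X.presheaf.stalk x →+* X.presheaf.stalk (genericPoint X) :=
  (X.presheaf.stalkSpecializes (gp_specializes x)).hom

theorem toK_eq (x : X) (a : X.presheaf.stalk x) :
    toK x a = algebraMap (X.presheaf.stalk x) X.functionField a := rfl

theorem toK_injective (x : X) : Function.Injective (toK (X := X) x) :=
  IsFractionRing.injective (X.presheaf.stalk x) X.functionField

theorem toK_germ {U : X.Opens} {x : X} (hx : x ∈ U) (r : Γ(X, U)) :
    toK x (X.presheaf.germ U x hx r) = X.presheaf.germ U (genericPoint X) (gp_mem hx) r :=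
  TopCat.Presheaf.germ_stalkSpecializes_apply X.presheaf hx (gp_specializes x) r

/-- The map from a stalk to the generic stalk. -/
noncomputable def spec (F : X.Modules) (x : X) :
    F.presheaf.stalk x →+ F.presheaf.stalk (genericPoint X) :=
  (F.presheaf.stalkSpecializes (gp_specializes x)).hom

theorem spec_germ (F : X.Modules) {U : X.Opens} {x : X} (hx : x ∈ U) (m : Γ(F, U)) :
    spec F x (F.presheaf.germ U x hx m) = F.presheaf.germ U (genericPoint X) (gp_mem hx) m :=
  TopCat.Presheaf.germ_stalkSpecializes_apply F.presheaf hx (gp_specializes x) m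

theorem spec_smul (F : X.Modules) (x : X) (a : X.presheaf.stalk x) (v : F.presheaf.stalk x) :
    spec F x (a • v) = toK x a • spec F x v :=
  H23.ZeroSec.stalkSpecializes_smul F (gp_specializes x) a v

/-- The lattice of a point in the generic stalk. -/
def Latt (F : X.Modules) (x : X) : Set (F.presheaf.stalk (genericPoint X)) := Set.range (spec F x)

theorem zero_mem_latt (F : X.Modules) (x : X) : 0 ∈ Latt F x := ⟨0, map_zero _⟩

theorem add_mem_latt {F : X.Modules} {x : X} {v w : F.presheaf.stalk (genericPoint X)}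
    (hv : v ∈ Latt F x) (hw : w ∈ Latt F x) : v + w ∈ Latt F x := by
  obtain ⟨a, rfl⟩ := hv
  obtain ⟨b, rfl⟩ := hw
  exact ⟨a + b, map_add _ _ _⟩

theorem smul_mem_latt {F : X.Modules} {x : X} (a : X.presheaf.stalk x)
    {v : F.presheaf.stalk (genericPoint X)} (hv : v ∈ Latt F x) : toK x a • v ∈ Latt F x := by
  obtain ⟨b, rfl⟩ := hv
  exact ⟨a • b, spec_smul F x a b⟩

theorem germ_mem_latt {F : X.Modules} {U : X.Opens} {x : X} (hx : x ∈ U) (m : Γ(F, U)) :
    F.presheaf.germ U (genericPoint X) (gp_mem hx) m ∈ Latt F x :=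
  ⟨_, spec_germ F hx m⟩

theorem latt_mono (F : X.Modules) {x y : X} (h : y ⤳ x) : Latt F x ⊆ Latt F y := by
  rintro _ ⟨v, rfl⟩
  obtain ⟨U, hx, m, rfl⟩ := TopCat.Presheaf.exists_germ_eq F.presheaf v
  rw [spec_germ]
  exact germ_mem_latt (h.mem_open U.isOpen hx) m

/-- All stalks inject into the generic stalk. -/
def Inj (F : X.Modules) : Prop := ∀ x : X, Function.Injective (spec F x)

section Inj

variable {F : X.Modules} (hF : Inj F)
include hF

theorem Inj.sect_ext {U : X.Opens} (hη : genericPoint X ∈ U) {a b : Γ(F, U)}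
    (h : F.presheaf.germ U (genericPoint X) hη a = F.presheaf.germ U (genericPoint X) hη b) : a = b :=
  ZClosLib.section_ext F _ _ fun y hy => hF y (by rw [spec_germ, spec_germ]; exact h)

/-- A generic element lying in all lattices over `U` is a section over `U`. -/
theorem Inj.exists_section {U : X.Opens} (hη : genericPoint X ∈ U)
    (v : F.presheaf.stalk (genericPoint X)) (h : ∀ x ∈ U, v ∈ Latt F x) :
    ∃ s : Γ(F, U), F.presheaf.germ U (genericPoint X) hη s = v := by
  have hl : ∀ x : U, ∃ (W : X.Opens) (_ : x.1 ∈ W) (_ : W ≤ U) (hW : genericPoint X ∈ W) (t : Γ(F, W)),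
      F.presheaf.germ W (genericPoint X) hW t = v := fun x => by
    obtain ⟨w, hw⟩ := h x.1 x.2
    obtain ⟨W, hxW, m, rfl⟩ := TopCat.Presheaf.exists_germ_eq F.presheaf w
    rw [spec_germ] at hw
    refine ⟨W ⊓ U, ⟨hxW, x.2⟩, inf_le_right, gp_mem (x := x.1) ⟨hxW, x.2⟩, AModX.res F inf_le_left m, ?_⟩
    rw [RefX.germ_res]
    exact hw
  choose W hxW hWU hW t ht using hl
  obtain ⟨s, hs, -⟩ := AModX.existsUnique_glue (M := F) (V := U) W hWU
    (fun p hp => ⟨⟨p, hp⟩, hxW ⟨p, hp⟩⟩) t fun a b => by
      refine hF.sect_ext (U := W a ⊓ W b) ⟨hW a, hW b⟩ ?_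
      rw [RefX.germ_res, RefX.germ_res, ht, ht]
  refine ⟨s, ?_⟩
  have h1 := congrArg (F.presheaf.germ (W ⟨_, hη⟩) (genericPoint X) (hW _)) (hs ⟨_, hη⟩)
  rw [RefX.germ_res, ht] at h1
  exact h1

end Inj

section Hom

variable {F G : X.Modules}

theorem stalkMap_spec (φ : G ⟶ F) (x : X) (v : G.presheaf.stalk x) :
    RefHull.stalkMapₗ φ (genericPoint X) (spec G x v) = spec F x (RefHull.stalkMapₗ φ x v) := by
  obtain ⟨U, hx, m, rfl⟩ := TopCat.Presheaf.exists_germ_eq G.presheaf v
  rw [spec_germ, RefHull.stalkMapₗ_germ, RefHull.stalkMapₗ_germ, spec_germ]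

theorem stalkMap_mem_latt (φ : G ⟶ F) {x : X} {v : G.presheaf.stalk (genericPoint X)}
    (hv : v ∈ Latt G x) : RefHull.stalkMapₗ φ (genericPoint X) v ∈ Latt F x := by
  obtain ⟨w, rfl⟩ := hv
  exact ⟨_, (stalkMap_spec φ x w).symm⟩

theorem app_ext {U : X.Opens} (hF : Inj F) {a b : Γ(F, U)}
    (h : ∀ hη : genericPoint X ∈ U,
      F.presheaf.germ U (genericPoint X) hη a = F.presheaf.germ U (genericPoint X) hη b) : a = b :=
  ZClosLib.section_ext F _ _ fun y hy => hF y (by rw [spec_germ, spec_germ]; exact h _)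

theorem hom_ext_gen (hF : Inj F) {φ ψ : G ⟶ F}
    (h : RefHull.stalkMapₗ φ (genericPoint X) = RefHull.stalkMapₗ ψ (genericPoint X)) : φ = ψ := by
  refine Scheme.Modules.hom_ext _ _ fun U => ?_
  ext m
  refine app_ext hF fun hη => ?_
  have h1 := LinearMap.congr_fun h (G.presheaf.germ U _ hη m)
  rwa [RefHull.stalkMapₗ_germ, RefHull.stalkMapₗ_germ] at h1

variable (hF : Inj F)
  (T : G.presheaf.stalk (genericPoint X) →ₗ[X.presheaf.stalk (genericPoint X)]
    F.presheaf.stalk (genericPoint X))
  (hT : ∀ x, ∀ v ∈ Latt G x, T v ∈ Latt F x)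

include hF hT in
theorem exists_app (U : X.Opens) (m : Γ(G, U)) : ∃ s : Γ(F, U), ∀ hη : genericPoint X ∈ U,
    F.presheaf.germ U (genericPoint X) hη s = T (G.presheaf.germ U (genericPoint X) hη m) := by
  by_cases hη : genericPoint X ∈ U
  · obtain ⟨s, hs⟩ := hF.exists_section hη (T (G.presheaf.germ U (genericPoint X) hη m))
      fun x hx => hT x _ (germ_mem_latt hx m)
    exact ⟨s, fun _ => hs⟩
  · exact ⟨0, fun h => absurd h hη⟩

/-- The morphism given by a map of generic stalks preserving the lattices. -/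
noncomputable def homOfGen : G ⟶ F :=
  ⟨PresheafOfModules.homMk (M₁ := G.val) (M₂ := F.val)
    { app := fun U => AddCommGrpCat.ofHom (AddMonoidHom.mk'
        (fun m : Γ(G, U.unop) => ((exists_app hF T hT U.unop m).choose : Γ(F, U.unop)))
        fun a b => app_ext hF fun hη => by
          rw [(exists_app hF T hT U.unop (a + b)).choose_spec hη, map_add, map_add, map_add,
            (exists_app hF T hT U.unop a).choose_spec hη, (exists_app hF T hT U.unop b).choose_spec hη])
      naturality := fun {U V} i => AddCommGrpCat.ext fun m => app_ext hF fun hη => by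
        show F.presheaf.germ V.unop (genericPoint X) hη
            (exists_app hF T hT V.unop (G.presheaf.map i m)).choose =
          F.presheaf.germ V.unop (genericPoint X) hη
            (F.presheaf.map i (exists_app hF T hT U.unop m).choose)
        rw [(exists_app hF T hT V.unop _).choose_spec hη,
          TopCat.Presheaf.germ_res_apply' F.presheaf i _ hη,
          (exists_app hF T hT U.unop m).choose_spec, TopCat.Presheaf.germ_res_apply' G.presheaf i _ hη] }
    fun U (r : Γ(X, U.unop)) (m : Γ(G, U.unop)) => app_ext hF fun hη => by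
      show F.presheaf.germ U.unop (genericPoint X) hη (exists_app hF T hT U.unop (r • m)).choose =
        F.presheaf.germ U.unop (genericPoint X) hη (r • (exists_app hF T hT U.unop m).choose)
      rw [(exists_app hF T hT U.unop _).choose_spec hη, QCoh.germ_smul', QCoh.germ_smul', map_smul,
        (exists_app hF T hT U.unop m).choose_spec hη]⟩

theorem stalkMap_homOfGen : RefHull.stalkMapₗ (homOfGen hF T hT) (genericPoint X) = T := by
  refine LinearMap.ext fun v => ?_
  obtain ⟨U, hη, m, rfl⟩ := TopCat.Presheaf.exists_germ_eq G.presheaf v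
  rw [RefHull.stalkMapₗ_germ]
  exact (exists_app hF T hT U m).choose_spec hη

end Hom

theorem stalkMap_id (F : X.Modules) (x : X) : RefHull.stalkMapₗ (𝟙 F) x = LinearMap.id :=
  LinearMap.ext fun v => by
    obtain ⟨U, hx, m, rfl⟩ := TopCat.Presheaf.exists_germ_eq F.presheaf v
    rw [RefHull.stalkMapₗ_germ]
    rfl

theorem stalkMap_comp {F G H : X.Modules} (φ : F ⟶ G) (ψ : G ⟶ H) (x : X) :
    RefHull.stalkMapₗ (φ ≫ ψ) x = (RefHull.stalkMapₗ ψ x).comp (RefHull.stalkMapₗ φ x) :=
  LinearMap.ext fun v => by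
    obtain ⟨U, hx, m, rfl⟩ := TopCat.Presheaf.exists_germ_eq F.presheaf v
    rw [LinearMap.comp_apply, RefHull.stalkMapₗ_germ, RefHull.stalkMapₗ_germ, RefHull.stalkMapₗ_germ]
    rfl

/-- An isomorphism of generic stalks matching the lattices gives an isomorphism. -/
noncomputable def isoOfGen {F G : X.Modules} (hF : Inj F) (hG : Inj G)
    (e : F.presheaf.stalk (genericPoint X) ≃ₗ[X.presheaf.stalk (genericPoint X)]
      G.presheaf.stalk (genericPoint X))
    (h₁ : ∀ x, ∀ v ∈ Latt F x, e v ∈ Latt G x) (h₂ : ∀ x, ∀ v ∈ Latt G x, e.symm v ∈ Latt F x) :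
    F ≅ G where
  hom := homOfGen hG e.toLinearMap h₁
  inv := homOfGen hF e.symm.toLinearMap h₂
  hom_inv_id := hom_ext_gen hF (by
    rw [stalkMap_comp, stalkMap_homOfGen, stalkMap_homOfGen, stalkMap_id]; ext v; simp)
  inv_hom_id := hom_ext_gen hG (by
    rw [stalkMap_comp, stalkMap_homOfGen, stalkMap_homOfGen, stalkMap_id]; ext v; simp)

section Denom

variable {F : X.Modules} (hF : Coh.IsQCoh F)
include hF

/-- Elements of a generization stalk have denominators. -/
theorem exists_denom {x y : X} (h : y ⤳ x) (w : F.presheaf.stalk y) :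
    ∃ (s : X.presheaf.stalk x) (m : F.presheaf.stalk x) (t : X.presheaf.stalk y),
      IsUnit t ∧ toK y t = toK x s ∧ t • w = F.presheaf.stalkSpecializes h m := by
  obtain ⟨U, hU, hxU⟩ := QCoh.exists_affine_mem x
  have hyU : y ∈ U := h.mem_open U.isOpen hxU
  letI := QCoh.stalkModule F hyU
  haveI := QCoh.isLocalizedModule_germLin hF hU hyU
  obtain ⟨⟨m, s⟩, hms⟩ :=
    IsLocalizedModule.surj (hU.primeIdealOf ⟨y, hyU⟩).asIdeal.primeCompl (QCoh.germLin F hyU) w
  refine ⟨X.presheaf.germ U x hxU s.1, F.presheaf.germ U x hxU m, X.presheaf.germ U y hyU s.1, ?_, ?_, ?_⟩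
  · exact (X.mem_basicOpen _ y hyU).1 ((QCoh.mem_basicOpen_iff_notMem hU hyU s.1).2 s.2)
  · rw [toK_germ, toK_germ]
  · exact hms.trans (TopCat.Presheaf.germ_stalkSpecializes_apply F.presheaf hxU h m).symm

/-- Every generic element is a fraction of an element of the stalk. -/
theorem exists_denom_gen (x : X) (v : F.presheaf.stalk (genericPoint X)) :
    ∃ (s : X.presheaf.stalk x) (m : F.presheaf.stalk x), s ≠ 0 ∧ toK x s • v = spec F x m := by
  obtain ⟨s, m, t, ht, hts, hw⟩ := exists_denom hF (gp_specializes x) v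
  have h1 : toK (genericPoint X) t = t := by
    show (X.presheaf.stalkSpecializes _).hom t = t
    rw [TopCat.Presheaf.stalkSpecializes_refl]
    rfl
  rw [h1] at hts
  refine ⟨s, m, fun h0 => ?_, by rw [← hts]; exact hw⟩
  rw [h0, map_zero] at hts
  rw [hts] at ht
  exact not_isUnit_zero ht

/-- The kernel of `spec` is torsion. -/
theorem exists_smul_eq_zero {x : X} {m : F.presheaf.stalk x} (hm : spec F x m = 0) :
    ∃ a : X.presheaf.stalk x, a ≠ 0 ∧ a • m = 0 := by
  obtain ⟨U, hU, hxU⟩ := QCoh.exists_affine_mem x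
  letI := QCoh.stalkModule F hxU
  haveI := QCoh.isLocalizedModule_germLin hF hU hxU
  obtain ⟨⟨m₀, s⟩, hms⟩ :=
    IsLocalizedModule.surj (hU.primeIdealOf ⟨x, hxU⟩).asIdeal.primeCompl (QCoh.germLin F hxU) m
  have hms' : X.presheaf.germ U x hxU s.1 • m = F.presheaf.germ U x hxU m₀ := hms
  have h0 : F.presheaf.germ U (genericPoint X) (gp_mem hxU) m₀ = 0 := by
    rw [← spec_germ F hxU, ← hms', spec_smul, hm, smul_zero]
  letI := QCoh.stalkModule F (gp_mem hxU)
  haveI := QCoh.isLocalizedModule_germLin hF hU (gp_mem hxU)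
  obtain ⟨c, hc⟩ := (IsLocalizedModule.eq_zero_iff (hU.primeIdealOf ⟨_, gp_mem hxU⟩).asIdeal.primeCompl
    (QCoh.germLin F (gp_mem hxU))).1 h0
  have hcu := (X.mem_basicOpen _ _ (gp_mem hxU)).1 ((QCoh.mem_basicOpen_iff_notMem hU (gp_mem hxU) c.1).2 c.2)
  have hsu := (X.mem_basicOpen _ _ hxU).1 ((QCoh.mem_basicOpen_iff_notMem hU hxU s.1).2 s.2)
  refine ⟨X.presheaf.germ U x hxU c.1 * X.presheaf.germ U x hxU s.1, fun h => ?_, ?_⟩
  · have := congrArg (toK x) h
    rw [map_mul, toK_germ, map_zero, mul_eq_zero] at this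
    rcases this with h' | h'
    · rw [h'] at hcu; exact not_isUnit_zero hcu
    · exact hsu.ne_zero (toK_injective x (h'.trans (map_zero _).symm))
  · rw [mul_smul, hms', ← QCoh.germ_smul', show c.1 • m₀ = 0 from hc, map_zero]

theorem inj_of_torsionFree (htf : TorSh.IsTorsionFree F) : Inj F := fun x => by
  refine (injective_iff_map_eq_zero _).2 fun m hm => ?_
  obtain ⟨a, ha, ham⟩ := exists_smul_eq_zero hF hm
  exact (((TorLib.isTorsionFree_iff F).1 (htf x)) a m ham).resolve_left ha

theorem spec_injective_of_reflexiveAt {x : X} (h : RefHull.IsReflexiveAt F x) :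
    Function.Injective (spec F x) := by
  haveI : Module.IsReflexive (X.presheaf.stalk x) (F.presheaf.stalk x) := h
  refine (injective_iff_map_eq_zero _).2 fun m hm => ?_
  obtain ⟨a, ha, ham⟩ := exists_smul_eq_zero hF hm
  refine (Module.bijective_dual_eval (X.presheaf.stalk x) (F.presheaf.stalk x)).1 ?_
  refine LinearMap.ext fun f => ?_
  have : a * f m = 0 := by rw [← smul_eq_mul, ← map_smul, ham, map_zero]
  rw [map_zero, LinearMap.zero_apply, Module.Dual.eval_apply]
  exact (mul_eq_zero.1 this).resolve_left ha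

variable [IsLocallyNoetherian X]

/-- Membership in the lattice of a reflexive stalk is tested in depth one. -/
theorem mem_latt_of_depth_one {x : X} (hr : RefHull.IsReflexiveAt F x)
    (v : F.presheaf.stalk (genericPoint X))
    (h : ∀ y : X, y ⤳ x → LocCoh.depth (X.presheaf.stalk y) (X.presheaf.stalk y) = 1 → v ∈ Latt F y) :
    v ∈ Latt F x := by
  haveI : Module.IsReflexive (X.presheaf.stalk x) (F.presheaf.stalk x) := hr
  obtain ⟨c, m, hc, hcm⟩ := exists_denom_gen hF x v
  have hdiv : ∀ f : Module.Dual (X.presheaf.stalk x) (F.presheaf.stalk x),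
      ∃ r : X.presheaf.stalk x, f m = c * r := by
    intro f
    have hcK : toK x c ≠ 0 := fun h0 => hc (toK_injective x (h0.trans (map_zero _).symm))
    by_contra hno
    obtain ⟨y, hy, hd, hny⟩ := CDiv6.exists_depth_one_point x
      (show X.functionField from toK x (f m) / toK x c) (by
        rintro ⟨r, hr'⟩
        refine hno ⟨r, toK_injective x ?_⟩
        rw [map_mul]
        have hr'' : toK x r = toK x (f m) / toK x c := hr'
        rw [hr'', mul_div_cancel₀ _ hcK])
    obtain ⟨w, hw⟩ := h y hy hd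
    obtain ⟨s, m', t, ht, hts, htw⟩ := exists_denom hF hy w
    have h1 : toK x s • v = spec F x m' := by
      rw [← hw, ← hts, ← spec_smul, htw]
      obtain ⟨U, hx', n, rfl⟩ := TopCat.Presheaf.exists_germ_eq F.presheaf m'
      rw [TopCat.Presheaf.germ_stalkSpecializes_apply, spec_germ, spec_germ]
    have h2 : s • m = c • m' := spec_injective_of_reflexiveAt hF hr (by
      rw [spec_smul, spec_smul, ← hcm, ← h1, smul_comm])
    have h3 : s * f m = c * f m' := by
      rw [← smul_eq_mul, ← smul_eq_mul, ← map_smul, ← map_smul, h2]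
    obtain ⟨u, hu⟩ := ht.exists_left_inv
    refine hny ⟨u * X.presheaf.stalkSpecializes hy (f m'), ?_⟩
    have h4 : toK y (X.presheaf.stalkSpecializes hy (f m')) = toK x (f m') :=
      TopCat.Presheaf.stalkSpecializes_comp_apply X.presheaf (gp_specializes y) hy (f m')
    have h5 : toK y u * toK x s = 1 := by rw [← hts, ← map_mul, hu, map_one]
    show toK y (u * X.presheaf.stalkSpecializes hy (f m')) = toK x (f m) / toK x c
    rw [map_mul, h4, eq_div_iff hcK]
    calc toK y u * toK x (f m') * toK x c = toK y u * toK x (c * f m') := by rw [map_mul]; ring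
      _ = toK y u * toK x s * toK x (f m) := by rw [← h3, map_mul, mul_assoc]
      _ = toK x (f m) := by rw [h5, one_mul]
  choose r hr' using hdiv
  let ψ : Module.Dual (X.presheaf.stalk x) (Module.Dual (X.presheaf.stalk x) (F.presheaf.stalk x)) :=
    { toFun := r
      map_add' := fun f g => mul_left_cancel₀ hc (by
        rw [mul_add, ← hr', ← hr', ← hr']; rfl)
      map_smul' := fun a f => mul_left_cancel₀ hc (by
        rw [← hr', RingHom.id_apply, smul_eq_mul, mul_left_comm, ← hr']; rfl) }
  obtain ⟨w, hw⟩ := (Module.bijective_dual_eval (X.presheaf.stalk x) (F.presheaf.stalk x)).2 ψ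
  have hmw : m = c • w := (Module.bijective_dual_eval (X.presheaf.stalk x) (F.presheaf.stalk x)).1 (by
    refine LinearMap.ext fun f => ?_
    rw [Module.Dual.eval_apply, Module.Dual.eval_apply, map_smul, smul_eq_mul, hr' f]
    exact congrArg (c * ·) (LinearMap.congr_fun hw f).symm)
  refine ⟨w, ?_⟩
  have hcK : toK x c ≠ 0 := fun h0 => hc (toK_injective x (h0.trans (map_zero _).symm))
  rw [hmw, spec_smul] at hcm
  letI : Field (X.presheaf.stalk (genericPoint X)) := inferInstanceAs (Field X.functionField)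
  exact (smul_right_injective _ hcK hcm).symm

end Denom

end Groth.Agent.Div57.Ref
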