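import Groth.Agent.Div57.Ref.Gen
import Groth.Agent.InvUfdLib.Extend
import Groth.Agent.InvX.Tensor
import Groth.Agent.KFlatLib.Ring.ReflexiveDepth
import Groth.Agent.S6875

/-!
# Reflexive modules in their generic stalk

Injectivity of `spec` for reflexive modules and duals, the biduality map on the generic stalk, a
criterion for reflexivity, and rank one modules.
-/

universe u

set_option autoImplicit false
set_option backward.isDefEq.respectTransparency false
set_option backward.isDefEq.respectTransparency.types false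
set_option linter.style.haveILetI false
set_option linter.unusedSectionVars false

open CategoryTheory AlgebraicGeometry TopologicalSpace Opposite

namespace Groth.Agent.Div57.Ref

variable {X : Scheme.{u}} [IsIntegral X]

theorem finite_stalk {F : X.Modules} (hF : Coh.IsCoh F) (x : X) :
    Module.Finite (X.presheaf.stalk x) (F.presheaf.stalk x) :=
  QCoh.finite_stalk_of_isFT hF.1 hF.2 x

theorem isField_gen : IsField (X.presheaf.stalk (genericPoint X)) :=
  Field.toIsField X.functionField

theorem reflexiveAt_gen {F : X.Modules} (hF : Coh.IsCoh F) : RefHull.IsReflexiveAt F (genericPoint X) := by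
  haveI := finite_stalk hF (genericPoint X)
  letI : Field (X.presheaf.stalk (genericPoint X)) := inferInstanceAs (Field X.functionField)
  show Module.IsReflexive (X.presheaf.stalk (genericPoint X)) (F.presheaf.stalk (genericPoint X))
  infer_instance

variable [IsLocallyNoetherian X]

theorem inj_of_isReflexive {F : X.Modules} (hF : Coh.IsCoh F) (hr : RefHull.IsReflexive F) : Inj F :=
  fun x => spec_injective_of_reflexiveAt hF.1 ((RefX.isReflexive_iff hF).1 hr x)

theorem isTorsionFree_dual {F : X.Modules} (hF : Coh.IsCoh F) : TorSh.IsTorsionFree (RefHull.dual F) :=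
  fun x => by
    refine (TorLib.isTorsionFree_iff _).2 fun a v hav => or_iff_not_imp_left.2 fun ha => ?_
    refine (RefX.dualStalk (QCoh.isCoh_iff_isFP.1 hF) x).injective ?_
    rw [map_zero]
    refine LinearMap.ext fun m => ?_
    have h1 := LinearMap.congr_fun (congrArg (RefX.dualStalk (QCoh.isCoh_iff_isFP.1 hF) x) hav) m
    rw [map_smul, map_zero, LinearMap.smul_apply, smul_eq_mul] at h1
    exact (mul_eq_zero.1 h1).resolve_left ha

theorem inj_dual {F : X.Modules} (hF : Coh.IsCoh F) : Inj (RefHull.dual F) :=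
  inj_of_torsionFree (RefX.isCoh_dual hF).1 (isTorsionFree_dual hF)

theorem inj_ddual {F : X.Modules} (hF : Coh.IsCoh F) : Inj (RefHull.ddual F) :=
  inj_dual (RefX.isCoh_dual hF)

theorem isCoh_ddual {F : X.Modules} (hF : Coh.IsCoh F) : Coh.IsCoh (RefHull.ddual F) :=
  RefX.isCoh_dual (RefX.isCoh_dual hF)

/-- The reflexive hull is reflexive. -/
theorem isReflexive_ddual {F : X.Modules} (hF : Coh.IsCoh F) : RefHull.IsReflexive (RefHull.ddual F) := by
  have hD := RefX.isCoh_dual hF
  refine (RefX.isReflexive_iff (RefX.isCoh_dual hD)).2 fun x => ?_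
  haveI := finite_stalk hD x
  haveI := finite_stalk (RefX.isCoh_unit (X := X)) x
  haveI : Module.IsReflexive (X.presheaf.stalk x) ((Coh.structureModule X).presheaf.stalk x) :=
    Module.equiv (RefX.unitStalk x)
  haveI := S6875.result (X.presheaf.stalk x) ((RefHull.dual F).presheaf.stalk x)
    ((Coh.structureModule X).presheaf.stalk x)
  exact Module.equiv (LinearEquiv.ofBijective (RefHull.evalStalk (RefHull.dual F) (Coh.structureModule X) x)
    (RefX.evalStalk_bijective (QCoh.isCoh_iff_isFP.1 hD) x)).symm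

/-- The biduality map on the generic stalk. -/
noncomputable def bidualGen {F : X.Modules} (hF : Coh.IsCoh F) :
    F.presheaf.stalk (genericPoint X) ≃ₗ[X.presheaf.stalk (genericPoint X)]
      (RefHull.ddual F).presheaf.stalk (genericPoint X) :=
  LinearEquiv.ofBijective (RefHull.stalkMapₗ (RefHull.bidualMap F) (genericPoint X))
    ((RefX.stalkMap_bidual_bijective_iff hF _).2 (reflexiveAt_gen hF))

theorem bidualGen_apply {F : X.Modules} (hF : Coh.IsCoh F) (v : F.presheaf.stalk (genericPoint X)) :
    bidualGen hF v = RefHull.stalkMapₗ (RefHull.bidualMap F) (genericPoint X) v := rfl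

theorem bidualGen_mem {F : X.Modules} (hF : Coh.IsCoh F) {x : X} {v : F.presheaf.stalk (genericPoint X)}
    (hv : v ∈ Latt F x) : bidualGen hF v ∈ Latt (RefHull.ddual F) x :=
  stalkMap_mem_latt _ hv

/-- Where biduality is surjective on the stalk, the lattices agree. -/
theorem bidualGen_mem_iff {F : X.Modules} (hF : Coh.IsCoh F) {x : X}
    (hs : Function.Surjective (RefHull.stalkMapₗ (RefHull.bidualMap F) x))
    {v : F.presheaf.stalk (genericPoint X)} :
    bidualGen hF v ∈ Latt (RefHull.ddual F) x ↔ v ∈ Latt F x := by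
  refine ⟨fun ⟨w, hw⟩ => ?_, bidualGen_mem hF⟩
  obtain ⟨u, rfl⟩ := hs w
  refine ⟨u, (bidualGen hF).injective ?_⟩
  rw [← hw, bidualGen_apply, stalkMap_spec]

/-- Reflexive modules satisfy the depth one criterion. -/
theorem mem_latt_iff_depth_one {F : X.Modules} (hF : Coh.IsCoh F) (hr : RefHull.IsReflexive F) {x : X}
    (v : F.presheaf.stalk (genericPoint X)) : v ∈ Latt F x ↔
      ∀ y : X, y ⤳ x → LocCoh.depth (X.presheaf.stalk y) (X.presheaf.stalk y) = 1 → v ∈ Latt F y :=
  ⟨fun h _ hy _ => latt_mono F hy h,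
    mem_latt_of_depth_one hF.1 ((RefX.isReflexive_iff hF).1 hr x) v⟩

/-- A criterion for reflexivity. -/
theorem isReflexive_of_depth_one {F : X.Modules} (hF : Coh.IsCoh F) (hinj : Inj F)
    (h1 : ∀ y : X, LocCoh.depth (X.presheaf.stalk y) (X.presheaf.stalk y) = 1 → RefHull.IsReflexiveAt F y)
    (h2 : ∀ (x : X) (v : F.presheaf.stalk (genericPoint X)),
      (∀ y : X, y ⤳ x → LocCoh.depth (X.presheaf.stalk y) (X.presheaf.stalk y) = 1 → v ∈ Latt F y) →
        v ∈ Latt F x) :
    RefHull.IsReflexive F := by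
  refine ZClosLib.isIso_of_stalkMap_bijective _ fun x => ⟨fun a b hab => hinj x ?_, fun w => ?_⟩
  · refine (bidualGen hF).injective ?_
    rw [bidualGen_apply, bidualGen_apply, stalkMap_spec, stalkMap_spec]
    exact congrArg _ hab
  · let v := (bidualGen hF).symm (spec (RefHull.ddual F) x w)
    obtain ⟨u, hu⟩ := h2 x v fun y hy hd => by
      refine (bidualGen_mem_iff hF ((RefX.stalkMap_bidual_bijective_iff hF y).2 (h1 y hd)).2).1 ?_
      rw [LinearEquiv.apply_symm_apply]
      exact latt_mono _ hy ⟨w, rfl⟩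
    refine ⟨u, inj_ddual hF x ?_⟩
    show spec (RefHull.ddual F) x (RefHull.stalkMapₗ (RefHull.bidualMap F) x u) = spec (RefHull.ddual F) x w
    rw [← stalkMap_spec, hu, ← bidualGen_apply hF, LinearEquiv.apply_symm_apply]

omit [IsLocallyNoetherian X] in
theorem exists_frame_of_genInvertible {F : X.Modules} (h : RefHull.GenInvertible F) :
    ∃ (W : X.Opens) (e : Γ(F, W)), genericPoint X ∈ W ∧ InvX.IsFrame e := by
  obtain ⟨U, hd, hU⟩ := h
  obtain ⟨x, hx⟩ := hd.nonempty
  have hη : genericPoint X ∈ U := gp_mem hx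
  obtain ⟨W, hW, e, he⟩ := InvX.exists_frame hU (⟨genericPoint X, hη⟩ : U)
  exact ⟨U.ι ''ᵁ W, e, ⟨_, hW, rfl⟩, InvUfdLib.isFrame_of_restrict U.ι he⟩

omit [IsLocallyNoetherian X] in
/-- A rank one module has one-dimensional generic stalk. -/
theorem exists_gen_basis {F : X.Modules} (h : RefHull.GenInvertible F) :
    ∃ e : F.presheaf.stalk (genericPoint X), e ≠ 0 ∧
      ∀ v, ∃ c : X.presheaf.stalk (genericPoint X), c • e = v := by
  obtain ⟨W, e, hW, he⟩ := exists_frame_of_genInvertible h
  refine ⟨F.presheaf.germ W _ hW e, fun h0 => ?_, fun v => (he.germ_bijective hW).2 v⟩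
  exact one_ne_zero ((he.germ_bijective hW).1 (show (1 : X.presheaf.stalk (genericPoint X)) • _ =
    (0 : X.presheaf.stalk (genericPoint X)) • _ by rw [h0, smul_zero, smul_zero]))

/-- A module with free rank one generic stalk is invertible on a dense open. -/
theorem genInvertible_of_gen_basis {F : X.Modules} (hF : Coh.IsCoh F) (hinj : Inj F)
    (e : F.presheaf.stalk (genericPoint X)) (he : e ≠ 0)
    (hspan : ∀ v, ∃ c : X.presheaf.stalk (genericPoint X), c • e = v) : RefHull.GenInvertible F := by
  classical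
  obtain ⟨U₀, hU₀, t₀, rfl⟩ := TopCat.Presheaf.exists_germ_eq F.presheaf e
  obtain ⟨_, ⟨V, hV, rfl⟩, hηV, hVU⟩ :=
    X.isBasis_affineOpens.exists_subset_of_mem_open hU₀ U₀.isOpen
  replace hV : IsAffineOpen V := hV
  replace hVU : V ≤ U₀ := hVU
  haveI := QCoh.finite_sections hF hV
  haveI : Nonempty V := ⟨⟨_, hηV⟩⟩
  haveI := functionField_isFractionRing_of_isAffineOpen X V hV
  letI : Field (X.presheaf.stalk (genericPoint X)) := inferInstanceAs (Field X.functionField)
  obtain ⟨n, m, hm⟩ := Module.Finite.exists_fin (R := Γ(X, V)) (M := Γ(F, V))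
  set t : Γ(F, V) := AModX.res F hVU t₀ with ht
  have het : F.presheaf.germ V (genericPoint X) hηV t = F.presheaf.germ U₀ _ hU₀ t₀ := RefX.germ_res F hVU hηV t₀
  have hc : ∀ i, ∃ a b : Γ(X, V), b ≠ 0 ∧ b • m i = a • t := fun i => by
    obtain ⟨c, hc⟩ := hspan (F.presheaf.germ V (genericPoint X) hηV (m i))
    obtain ⟨a, b, hb, hab⟩ := IsFractionRing.div_surjective (A := Γ(X, V)) (show X.functionField from c)
    have hbK : algebraMap Γ(X, V) X.functionField b ≠ 0 :=
      IsFractionRing.to_map_ne_zero_of_mem_nonZeroDivisors hb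
    refine ⟨a, b, nonZeroDivisors.ne_zero hb, hinj.sect_ext hηV ?_⟩
    rw [QCoh.germ_smul', QCoh.germ_smul', ← hc, het, ← mul_smul]
    congr 1
    show algebraMap Γ(X, V) X.functionField b * (show X.functionField from c) = algebraMap Γ(X, V) X.functionField a
    rw [← hab, mul_div_cancel₀ _ hbK]
  choose a b hb hab using hc
  set g : Γ(X, V) := ∏ i, b i with hg
  have hg0 : g ≠ 0 := Finset.prod_ne_zero_iff.2 fun i _ => hb i
  let W : X.Opens := X.basicOpen g
  have hηW : genericPoint X ∈ W := (X.mem_basicOpen g _ hηV).2 (IsUnit.mk0 _ (fun h => hg0 (by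
    have := germ_injective_of_isIntegral X (U := V) (genericPoint X) hηV
    exact this (h.trans (map_zero _).symm))))
  have hframe : InvX.IsFrame (AModX.res F (X.basicOpen_le g) t) := InvX.isFrame_of_germ fun y hy => by
    have hyV : y ∈ V := X.basicOpen_le g hy
    have hty : F.presheaf.germ W y hy (AModX.res F (X.basicOpen_le g) t) = F.presheaf.germ V y hyV t :=
      RefX.germ_res F (X.basicOpen_le g) hy t
    rw [hty]
    refine ⟨fun r r' hr => toK_injective y ?_, fun v => ?_⟩
    · have h1 := congrArg (spec F y) hr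
      simp only [spec_smul, spec_germ] at h1
      rw [show F.presheaf.germ V (genericPoint X) (gp_mem hyV) t = F.presheaf.germ U₀ _ hU₀ t₀ from het] at h1
      exact smul_left_injective _ he h1
    · have hu : ∀ i, IsUnit (X.presheaf.germ V y hyV (b i)) := fun i => by
        have h1 : IsUnit (X.presheaf.germ V y hyV g) := (X.mem_basicOpen g y hyV).1 hy
        rw [hg, map_prod] at h1
        exact (IsUnit.prod_iff.1 h1) i (Finset.mem_univ i)
      have hspanV : ∀ k : Γ(F, V), ∃ r : X.presheaf.stalk y, r • F.presheaf.germ V y hyV t = F.presheaf.germ V y hyV k := by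
        intro k
        have hk : k ∈ Submodule.span Γ(X, V) (Set.range m) := hm ▸ Submodule.mem_top
        induction hk using Submodule.span_induction with
        | mem k hk =>
          obtain ⟨i, rfl⟩ := hk
          refine ⟨(hu i).unit⁻¹.val * X.presheaf.germ V y hyV (a i), ?_⟩
          rw [mul_smul, ← QCoh.germ_smul', ← hab, QCoh.germ_smul', ← mul_smul, IsUnit.val_inv_mul, one_smul]
        | zero => exact ⟨0, by rw [zero_smul, map_zero]⟩
        | add k l _ _ hk hl =>
          obtain ⟨r, hr⟩ := hk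
          obtain ⟨r', hr'⟩ := hl
          exact ⟨r + r', by rw [add_smul, hr, hr', map_add]⟩
        | smul c k _ hk =>
          obtain ⟨r, hr⟩ := hk
          exact ⟨X.presheaf.germ V y hyV c * r, by rw [mul_smul, hr, QCoh.germ_smul']⟩
      letI := QCoh.stalkModule F hyV
      haveI := QCoh.isLocalizedModule_germLin hF.1 hV hyV
      obtain ⟨⟨k, s⟩, hks⟩ :=
        IsLocalizedModule.surj (hV.primeIdealOf ⟨y, hyV⟩).asIdeal.primeCompl (QCoh.germLin F hyV) v
      have hks' : X.presheaf.germ V y hyV s.1 • v = F.presheaf.germ V y hyV k := hks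
      have hsu := (X.mem_basicOpen _ _ hyV).1 ((QCoh.mem_basicOpen_iff_notMem hV hyV s.1).2 s.2)
      obtain ⟨r, hr⟩ := hspanV k
      refine ⟨hsu.unit⁻¹.val * r, hsu.smul_left_cancel.1 ?_⟩
      rw [← mul_smul, ← mul_assoc, IsUnit.mul_val_inv, one_mul, hr, hks']
  refine ⟨W, dense_iff_inter_open.2 fun O hO ⟨z, hz⟩ => ⟨genericPoint X, (gp_specializes z).mem_open hO hz, hηW⟩, ?_⟩
  refine InvX.isInvertible_of_frames fun y => ?_
  exact ⟨W.ι ⁻¹ᵁ W, y.2, _, InvUfdLib.isFrame_restrict W.ι (hframe.res (W.ι.image_preimage_le W))⟩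

end Groth.Agent.Div57.Ref
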