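import Groth.Agent.Div57.Ref.Class
import Groth.Agent.H23.PullPush
import Groth.Agent.QCoh.Support

/-!
# Invertible modules as rank one reflexive modules
-/

universe u

set_option autoImplicit false
set_option backward.isDefEq.respectTransparency false
set_option backward.isDefEq.respectTransparency.types false
set_option linter.style.haveILetI false

open CategoryTheory AlgebraicGeometry TopologicalSpace Opposite

namespace Groth.Agent.Div57.Ref

variable {X : Scheme.{u}}

theorem reflexiveAt_of_isGen {F : X.Modules} {x : X} {t : F.presheaf.stalk x} (ht : H23.RatSec.IsGen t) :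
    RefHull.IsReflexiveAt F x := by
  let e : X.presheaf.stalk x ≃ₗ[X.presheaf.stalk x] F.presheaf.stalk x :=
    LinearEquiv.ofBijective (LinearMap.toSpanSingleton (X.presheaf.stalk x) (F.presheaf.stalk x) t)
      ⟨(injective_iff_map_eq_zero _).2 fun a ha => ht.2 a ha,
        fun m => Submodule.mem_span_singleton.1 (ht.1.ge (Submodule.mem_top : m ∈ ⊤))⟩
  exact Module.equiv e

theorem isRef1_of_isInvertible [IsIntegral X] [IsLocallyNoetherian X] {L : X.Modules}
    (hL : PicF.IsInvertible L) : RefHull.IsRef1 L := by
  have hc : Coh.IsCoh L :=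
    QCoh.isCoh_iff_isFP.2 (QCoh.isFP_of_isFinLocFree (H23.PullPush.isFinLocFree_of_isInvertible hL))
  obtain ⟨e, he, -⟩ := H23.RatSec.exists_gen hL (genericPoint X)
  refine isRef1_of hc ((RefX.isReflexive_iff hc).2 fun x => ?_) he
  obtain ⟨t, ht, -⟩ := H23.RatSec.exists_gen hL x
  exact reflexiveAt_of_isGen ht

end Groth.Agent.Div57.Ref
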