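import Groth.Agent.Div57.Ref.Frame
import Groth.Agent.RegUFD.Basic
import Groth.Agent.CDiv6.Factorial

/-!
# Rank one reflexive modules on locally factorial schemes are invertible
-/

universe u

set_option autoImplicit false
set_option backward.isDefEq.respectTransparency false
set_option backward.isDefEq.respectTransparency.types false
set_option linter.style.haveILetI false
set_option linter.unusedSectionVars false

open CategoryTheory AlgebraicGeometry TopologicalSpace Opposite

namespace Groth.Agent.Div57.Ref

variable {X : Scheme.{u}} [IsIntegral X] [IsLocallyNoetherian X]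

/-- Regular stalks give normality and factoriality. -/
theorem normal_and_ufd_of_regular (hreg : ∀ x : X, IsRegularLocalRing (X.presheaf.stalk x)) :
    Pi1.IsNormalScheme X ∧ ∀ x : X, UniqueFactorizationMonoid (X.presheaf.stalk x) := by
  have h : ∀ x : X, UniqueFactorizationMonoid (X.presheaf.stalk x) := fun x => by
    haveI := hreg x
    obtain ⟨_, hu⟩ := RegUFD.ufd (X.presheaf.stalk x)
    exact hu
  exact ⟨fun x => ⟨inferInstance, @UniqueFactorizationMonoid.instIsIntegrallyClosed _ _ _ (h x)⟩, h⟩

/-- Rank one reflexive modules on a locally factorial scheme are invertible. -/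
theorem isInvertible_of_ufd (hX : Pi1.IsNormalScheme X)
    (hufd : ∀ x : X, UniqueFactorizationMonoid (X.presheaf.stalk x))
    {F : X.Modules} (hF : RefHull.IsRef1 F) : PicF.IsInvertible F := by
  classical
  obtain ⟨v, hv⟩ := exists_ne_zero hF
  have hfin : ∀ V : X.Opens, IsAffineOpen V →
      {y : X | y ∈ V ∧ Order.coheight y = 1 ∧ secOrd F y v ≠ 0}.Finite :=
    fun V hV => finite_secOrd hF.2.2 hV hv
  refine isInvertible_of_local_eq hX hF hv fun x => ?_
  obtain ⟨V, hV, hxV⟩ := QCoh.exists_affine_mem x
  let φ : X → Additive (CDiv.KUnits X) →+ ℤ := fun y => AddMonoidHom.mk'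
    (fun a => Scheme.ord ((Additive.toMul a : CDiv.KUnits X) : X.functionField) y)
    fun a b => by
      show Scheme.ord ((Additive.toMul a * Additive.toMul b : CDiv.KUnits X) : X.functionField) y = _
      rw [Units.val_mul, Scheme.ord_mul (Units.ne_zero _) (Units.ne_zero _)]
  choose U g hxU hg using fun x₀ (h₀ : Order.coheight x₀ = 1) =>
    CDiv6.exists_local_equation hX hufd x₀ h₀ x
  let Z : X → ℤ := fun y => secOrd F y v
  let S := (hfin V hV).toFinset
  have main : ∀ T ⊆ S, ∃ (W : X.Opens) (c : Additive (CDiv.KUnits X)), x ∈ W ∧ ∀ y ∈ W, Order.coheight y = 1 →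
      φ y c = if y ∈ T then -Z y else 0 := by
    intro T
    induction T using Finset.induction_on with
    | empty => exact fun _ => ⟨⊤, 0, trivial, fun y _ _ => by simp⟩
    | insert a T haT ih =>
      intro hT
      obtain ⟨W, c, hxW, hW⟩ := ih ((Finset.subset_insert a T).trans hT)
      have ha : Order.coheight a = 1 := ((hfin V hV).mem_toFinset.1 (hT (Finset.mem_insert_self a T))).2.1
      refine ⟨W ⊓ U a ha, c + (-Z a) • Additive.ofMul (g a ha), ⟨hxW, hxU a ha⟩, fun y hy hy1 => ?_⟩
      have h1 := hW y hy.1 hy1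
      have h2 := hg a ha y hy.2 hy1
      rw [map_add, map_zsmul, h1]
      show _ + (-Z a) • Scheme.ord ((g a ha : CDiv.KUnits X) : X.functionField) y = _
      by_cases hya : y = a
      · subst hya
        rw [h2.1 rfl]
        simp [haT]
      · rw [h2.2 hya]
        simp [hya]
  obtain ⟨W, c, hxW, hW⟩ := main S subset_rfl
  refine ⟨V ⊓ W, ((Additive.toMul c : CDiv.KUnits X) : X.functionField), ⟨hxV, hxW⟩, Units.ne_zero _,
    fun y hy hy1 => ?_⟩
  rw [show secOrd F y v = Z y from rfl, show Scheme.ord _ y = φ y c from rfl, hW y hy.2 hy1]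
  by_cases h : y ∈ S
  · simp [h]
  · have : Z y = 0 := by
      by_contra h0
      exact h ((hfin V hV).mem_toFinset.2 ⟨hy.1, hy1, h0⟩)
    simp [h, this]

end Groth.Agent.Div57.Ref
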