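import Groth.Agent.Div57.Ref.ExtGen
import Groth.Agent.Div57.Ref.DetDVR
import Groth.Agent.Div57.Ref.InvUfd
import Groth.Agent.Div57.Ref.FreeLocus
import Groth.Agent.Div57.DivisorSupp
import Groth.Agent.CycCovGeo.IdealFrame
import Groth.Agent.H23.RatSecTensor
import Groth.Agent.H23.SpClosed
import Groth.Agent.Lib.CurveTensor
import Groth.Agent.KFlatLib.Scheme.Exact
import Groth.Agent.H23.ClosedPushLen

/-!
# Modifications along an integral effective Cartier divisor
-/

universe u

set_option autoImplicit false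
set_option backward.isDefEq.respectTransparency false
set_option backward.isDefEq.respectTransparency.types false
set_option linter.style.haveILetI false
set_option linter.unusedSectionVars false

open CategoryTheory CategoryTheory.Limits AlgebraicGeometry TopologicalSpace Opposite IsLocalRing Groth.Agent.QCoh

namespace Groth.Agent.Div57.Ref

variable {X : Scheme.{u}} [IsIntegral X]

theorem coheight_genericPoint : Order.coheight (genericPoint X) = 0 :=
  Order.coheight_eq_zero.2 fun y hy => Scheme.le_iff_specializes.2 (gp_specializes y)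

/-- The generic rank of a module that is free of rank `n` on a nonempty open. -/
theorem finrank_gen {M : X.Modules} (hM : Coh.IsQCoh M) {U : X.Opens} (hU : (U : Set X).Nonempty) {n : ℕ}
    (h : FlatMod.IsFinLocFreeOfRank n (M.restrict U.ι)) :
    Module.finrank (X.presheaf.stalk (genericPoint X)) (M.presheaf.stalk (genericPoint X)) = n := by
  obtain ⟨x, hx⟩ := hU
  have hη : genericPoint X ∈ U := (gp_specializes x).mem_open U.isOpen hx
  obtain ⟨V, hz, ⟨e⟩⟩ := h ⟨genericPoint X, hη⟩
  let q : ((U.ι ''ᵁ V : X.Opens) : Scheme.{u}) ⟶ V := (U.ι.isoImage V).inv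
  have hq : q ≫ V.ι ≫ U.ι = (U.ι ''ᵁ V).ι := by simp [q]
  let e' : M.restrict (U.ι ''ᵁ V).ι ≅ FlatMod.freeMod ((U.ι ''ᵁ V : X.Opens) : Scheme.{u}) n :=
    (Scheme.Modules.restrictFunctorCongr hq.symm).app M ≪≫ (restrictRestrict M q (V.ι ≫ U.ι)).symm ≪≫
      (Scheme.Modules.restrictFunctor q).mapIso ((restrictRestrict M V.ι U.ι).symm ≪≫ e) ≪≫ freeModRestrict _ n
  obtain ⟨_, ⟨W, hW, rfl⟩, hηW, hle⟩ := X.isBasis_affineOpens.exists_subset_of_mem_open
    (show genericPoint X ∈ U.ι ''ᵁ V from ⟨⟨_, hη⟩, hz, rfl⟩) (U.ι ''ᵁ V).isOpen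
  obtain ⟨l⟩ := QCoh.free_sections hW hle e'
  exact QCoh.finrank_stalk_of_freeChart hW hM l hηW

variable [IsLocallyNoetherian X]

section Divisor

variable {D : X.IdealSheafData} (hD : BlowUp.IsEffCartierIdeal D) [IsIntegral D.subscheme]

theorem gen_notMem_support (hD : BlowUp.IsEffCartierIdeal D) : genericPoint X ∉ D.support := fun h => by
  have := one_le_coheight hD h
  rw [coheight_genericPoint] at this
  exact absurd this (by simp)

include hD in
/-- The generic point of an integral effective Cartier divisor has codimension one, and is the only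
point of codimension one of its support. -/
theorem divisor_gen :
    Order.coheight (D.subschemeι (genericPoint ↥D.subscheme)) = 1 ∧
      ∀ y : X, y ∈ D.support → Order.coheight y = 1 → y = D.subschemeι (genericPoint ↥D.subscheme) := by
  set η := D.subschemeι (genericPoint ↥D.subscheme)
  have hηS : η ∈ D.support := by
    rw [← SetLike.mem_coe, ← Scheme.IdealSheafData.range_subschemeι]; exact ⟨_, rfl⟩
  have key : ∀ y : X, y ∈ D.support → Order.coheight y = 1 → y = η := by
    intro y hy hy1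
    rw [← SetLike.mem_coe, ← Scheme.IdealSheafData.range_subschemeι] at hy
    obtain ⟨w, rfl⟩ := hy
    have hηy : η ⤳ D.subschemeι w := (genericPoint_specializes w).map D.subschemeι.continuous
    by_contra hne
    have hlt : D.subschemeι w < η := lt_iff_le_not_ge.2
      ⟨Scheme.le_iff_specializes.2 hηy, fun h => hne ((Scheme.le_iff_specializes.1 h).antisymm hηy).eq⟩
    have h2 := Order.coheight_add_one_le hlt
    rw [hy1] at h2
    exact absurd (le_trans (add_le_add (one_le_coheight hD hηS) le_rfl) h2) (by norm_num)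
  obtain ⟨y, -, hy, hy1⟩ := exists_codim_one hD hηS
  exact ⟨key y hy hy1 ▸ hy1, key⟩

/-- At the generic point of an integral divisor the ideal is maximal. -/
theorem stI_divisor_gen :
    stI D (D.subschemeι (genericPoint ↥D.subscheme)) = maximalIdeal _ := by
  rw [← ker_stalkMap]
  letI : Field (D.subscheme.presheaf.stalk (genericPoint ↥D.subscheme)) :=
    inferInstanceAs (Field D.subscheme.functionField)
  haveI := RingHom.ker_isMaximal_of_surjective (D.subschemeι.stalkMap (genericPoint ↥D.subscheme)).hom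
    (D.subschemeι.stalkMap_surjective _)
  exact IsLocalRing.eq_maximalIdeal this

end Divisor

theorem ord_toK_of_associated {y : X} (hy : Order.coheight y = 1)
    [IsDiscreteValuationRing (X.presheaf.stalk y)] {π d : X.presheaf.stalk y} (hπ : Irreducible π)
    {k : ℕ} (hd : Associated d (π ^ k)) :
    Scheme.ord (show X.functionField from toK y d) y = k := by
  haveI : Ring.KrullDimLE 1 (X.presheaf.stalk y) := krullDimLE_of_coheight_le hy.le
  have hd0 : d ≠ 0 := fun h => pow_ne_zero k hπ.ne_zero (hd.eq_zero_iff.1 h)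
  have hne : (show X.functionField from toK y d) ≠ 0 := fun h => hd0 (toK_injective y (h.trans (map_zero _).symm))
  obtain ⟨v, hv⟩ := hd.symm
  rw [Scheme.ord_eq_iff hy hne]
  show Ring.ordFrac (X.presheaf.stalk y) (algebraMap (X.presheaf.stalk y) X.functionField d) = _
  rw [← hv, map_mul, map_mul, map_pow, map_pow, Ring.ordFrac_irreducible hπ,
    Ring.ordFrac_of_isUnit v.isUnit, mul_one, ← WithZero.exp_nsmul, nsmul_one]
  rfl

/-- The determinant of a map between lattices, in terms of the uniformizer. -/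
theorem exists_det_pow {y : X} [IsDiscreteValuationRing (X.presheaf.stalk y)]
    {F F' : X.Modules} (a : F ⟶ F') {r s : ℕ}
    (t : Module.Basis (Fin r) (X.presheaf.stalk (genericPoint X)) (F.presheaf.stalk (genericPoint X)))
    (ht : ∀ i, t i ∈ Latt F y) (htc : ∀ v ∈ Latt F y, ∀ i, t.repr v i ∈ Set.range (toK y))
    (t' : Module.Basis (Fin r) (X.presheaf.stalk (genericPoint X)) (F'.presheaf.stalk (genericPoint X)))
    (ht' : ∀ i, t' i ∈ Latt F' y) (htc' : ∀ v ∈ Latt F' y, ∀ i, t'.repr v i ∈ Set.range (toK y))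
    {π : X.presheaf.stalk y} (hπ : Irreducible π)
    (hπa : ∀ m, π • m ∈ LinearMap.range (RefHull.stalkMapₗ a y))
    (u : Fin s → F'.presheaf.stalk y)
    (hu : ∀ m, ∃ (n : F.presheaf.stalk y) (c : Fin s → X.presheaf.stalk y),
      m = RefHull.stalkMapₗ a y n + ∑ j, c j • u j) :
    ∃ (d : X.presheaf.stalk y) (k : ℕ), k ≤ min s r ∧ Associated d (π ^ k) ∧
      t'.det (fun i => RefHull.stalkMapₗ a (genericPoint X) (t i)) = toK y d := by
  classical
  choose M hM using fun i j => htc' _ (stalkMap_mem_latt a (ht j)) i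
  choose c₁ hc₁ using fun (m : F.presheaf.stalk y) i => htc (spec F y m) ⟨m, rfl⟩ i
  choose c₂ hc₂ using fun (m : F'.presheaf.stalk y) i => htc' (spec F' y m) ⟨m, rfl⟩ i
  choose τ' hτ' using ht'
  have hsurj : ∀ x : Fin r → X.presheaf.stalk y, c₂ (∑ i, x i • τ' i) = x := fun x => funext fun i => by
    refine toK_injective y ?_
    rw [hc₂, map_sum]
    simp only [spec_smul, hτ']
    exact congrFun (congrArg _ rfl |>.trans (t'.repr_sum_self fun i => toK y (x i))) i
  have hadd : ∀ m m', c₂ (m + m') = c₂ m + c₂ m' := fun m m' => funext fun i => by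
    refine toK_injective y ?_
    rw [Pi.add_apply, map_add (toK y), hc₂, hc₂, hc₂, map_add, map_add, Finsupp.add_apply]
  have hsmul : ∀ (b : X.presheaf.stalk y) m, c₂ (b • m) = b • c₂ m := fun b m => funext fun i => by
    refine toK_injective y ?_
    rw [hc₂, Pi.smul_apply, smul_eq_mul, map_mul, hc₂, spec_smul, map_smul, Finsupp.smul_apply, smul_eq_mul]
  let C : F'.presheaf.stalk y →ₗ[X.presheaf.stalk y] (Fin r → X.presheaf.stalk y) :=
    { toFun := c₂, map_add' := hadd, map_smul' := hsmul }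
  have hA : ∀ m, C (RefHull.stalkMapₗ a y m) = Matrix.toLin' (Matrix.of M) (c₁ m) := fun m => funext fun i => by
    refine toK_injective y ?_
    show toK y (c₂ _ i) = toK y (∑ j, M i j * c₁ m j)
    rw [hc₂, map_sum, ← stalkMap_spec]
    conv_lhs => rw [← t.sum_repr (spec F y m)]
    simp only [map_sum, map_smul, Finsupp.finsetSum_apply, Finsupp.smul_apply, smul_eq_mul, map_mul, hM, hc₁,
      mul_comm]
  obtain ⟨k, hk, hdet⟩ := exists_det_associated_pow hπ (Matrix.toLin' (Matrix.of M)) (fun x => by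
      obtain ⟨n, hn⟩ := hπa (∑ i, x i • τ' i)
      refine ⟨c₁ n, ?_⟩
      rw [← hA, hn, map_smul]
      exact congrArg (π • ·) (hsurj x))
    (fun j => C (u j)) fun x => by
      obtain ⟨n, c, hnc⟩ := hu (∑ i, x i • τ' i)
      refine ⟨c₁ n, c, ?_⟩
      rw [← hA]
      have := congrArg C hnc
      rw [show C (∑ i, x i • τ' i) = x from hsurj x, map_add, map_sum] at this
      simpa only [map_smul] using this
  refine ⟨(Matrix.of M).det, k, hk, by rwa [LinearMap.det_toLin'] at hdet, ?_⟩
  rw [Module.Basis.det_apply, RingHom.map_det]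
  exact congrArg Matrix.det (Matrix.ext fun i j => (hM i j).symm)

/-- The orders of the distinguished generic element of the module of a Cartier ideal. -/
theorem exists_secOrd_idealMod {D : X.IdealSheafData} (hD : BlowUp.IsEffCartierIdeal D)
    [IsIntegral D.subscheme] (hX : Pi1.IsNormalScheme X) :
    PicF.IsInvertible (ClSub.idealMod D) ∧ ∃ e : (ClSub.idealMod D).presheaf.stalk (genericPoint X), e ≠ 0 ∧
      (secOrd (ClSub.idealMod D) (D.subschemeι (genericPoint ↥D.subscheme)) e = -1) ∧
      ∀ y : X, Order.coheight y = 1 → y ≠ D.subschemeι (genericPoint ↥D.subscheme) →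
        secOrd (ClSub.idealMod D) y e = 0 := by
  classical
  letI := fieldGen (X := X)
  have hloc : ∀ x : X, ∃ (U : X.affineOpens) (g : Γ(X, U.1)) (k : Γ(ClSub.idealMod D, U.1)),
      x ∈ U.1 ∧ InvX.IsFrame k ∧ OmegaSh.idealSect D U.1 k = g ∧ D.ideal U = Ideal.span {g} ∧ g ≠ 0 := by
    intro x
    obtain ⟨U, hxU, f, hf, hI⟩ := hD x
    haveI : Nonempty U.1 := ⟨⟨x, hxU⟩⟩
    have hf0 : f ≠ 0 := nonZeroDivisors.ne_zero hf
    obtain ⟨k, hk, hk'⟩ := CycCovGeo.exists_frame_idealMod D U f hI hf0
    exact ⟨U, f, k, hxU, hk, hk', hI, hf0⟩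
  choose U g k hxU hk hkg hI hg0 using hloc
  refine ⟨InvX.isInvertible_of_frames fun x => ⟨_, hxU x, k x, hk x⟩, ?_⟩
  let kη : ∀ x : X, (ClSub.idealMod D).presheaf.stalk (genericPoint X) := fun x =>
    (ClSub.idealMod D).presheaf.germ (U x).1 (genericPoint X) (gp_mem (hxU x)) (k x)
  have hgen : ∀ x, H23.RatSec.IsGen (kη x) := fun x => H23.RatSec.isGen_germ (hk x) (genericPoint X) (gp_mem (hxU x))
  let gK : X → X.presheaf.stalk (genericPoint X) := fun x => X.presheaf.germ (U x).1 (genericPoint X) (gp_mem (hxU x)) (g x)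
  have hgK : ∀ x, gK x ≠ 0 := fun x h => hg0 x (by
    haveI : Nonempty (U x).1 := ⟨⟨x, hxU x⟩⟩
    exact germ_injective_of_isIntegral X (genericPoint X) (gp_mem (hxU x)) (h.trans (map_zero _).symm))
  have hι : ∀ x, (RefX.unitStalk (genericPoint X)).symm (RefHull.stalkMapₗ (ClSub.idealModι D) (genericPoint X) (kη x)) = gK x := fun x => by
    rw [LinearEquiv.symm_apply_eq, RefHull.stalkMapₗ_germ, unitStalk_germ]
    exact congrArg _ (hkg x)
  have hinj : ∀ (x : X) (c : X.presheaf.stalk (genericPoint X)), c • kη x = 0 → c = 0 := fun x => (hgen x).2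
  let e : (ClSub.idealMod D).presheaf.stalk (genericPoint X) := (gK (genericPoint X))⁻¹ • kη (genericPoint X)
  have he : ∀ x, e = (gK x)⁻¹ • kη x := fun x => by
    obtain ⟨c, hc⟩ := Submodule.mem_span_singleton.1 ((hgen x).1.ge (Submodule.mem_top : e ∈ ⊤))
    have h1 := congrArg (fun w => (RefX.unitStalk (genericPoint X)).symm (RefHull.stalkMapₗ (ClSub.idealModι D) (genericPoint X) w)) hc
    simp only [e, map_smul, hι, smul_eq_mul, inv_mul_cancel₀ (hgK (genericPoint X))] at h1
    rw [← hc, eq_inv_of_mul_eq_one_left h1]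
  have he0 : e ≠ 0 := fun h => inv_ne_zero (hgK (genericPoint X)) (hinj (genericPoint X) _ h)
  have hord : ∀ y : X, Order.coheight y = 1 →
      secOrd (ClSub.idealMod D) y e = - Scheme.ord (show X.functionField from gK y) y := fun y hy => by
    rw [secOrd_eq hy (H23.RatSec.isGen_germ (hk y) y (hxU y)).1
      (by rw [spec_germ]; exact ne_zero_of_isGen (hgen y))
      (φ := (show X.functionField from gK y)⁻¹) (inv_ne_zero (hgK y))
      (by rw [spec_germ]; exact he y)]
    exact CDiv6.ord_unit_inv (Units.mk0 (show X.functionField from gK y) (hgK y)) y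
  have hst : ∀ y : X, stI D y = Ideal.span {X.presheaf.germ (U y).1 y (hxU y) (g y)} := fun y => by
    rw [stI_eq D (U y) (hxU y), hI, Ideal.map_span, Set.image_singleton]
  have hgK' : ∀ y, gK y = toK y (X.presheaf.germ (U y).1 y (hxU y) (g y)) := fun y => (toK_germ (hxU y) _).symm
  refine ⟨e, he0, ?_, fun y hy hne => ?_⟩
  · set ξ := D.subschemeι (genericPoint ↥D.subscheme)
    have hξ1 : Order.coheight ξ = 1 := (divisor_gen hD).1
    haveI := CDiv6.isDVR_of_coheight_one hX hξ1
    have hm := (hst ξ).symm.trans stI_divisor_gen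
    have hirr := (IsDiscreteValuationRing.irreducible_iff_uniformizer _).2 hm.symm
    rw [hord ξ hξ1, hgK', ord_toK_of_associated hξ1 hirr (k := 1) (by rw [pow_one])]
    rfl
  · haveI := CDiv6.isDVR_of_coheight_one hX hy
    obtain ⟨π, hπ⟩ := IsDiscreteValuationRing.exists_irreducible (X.presheaf.stalk y)
    have htop : stI D y = ⊤ := not_not.1 fun h => hne ((divisor_gen hD).2 y ((mem_support_iff D).2 h) hy)
    rw [hord y hy, hgK', ord_toK_of_associated hy hπ (k := 0) (by
      rw [pow_zero, associated_one_iff_isUnit]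
      exact Ideal.span_singleton_eq_top.1 ((hst y).symm.trans htop))]
    rfl

/-- Tensor products of invertible modules add orders. -/
theorem secOrd_tm {L N : X.Modules} (hL : PicF.IsInvertible L) (hN : PicF.IsInvertible N)
    {v : L.presheaf.stalk (genericPoint X)} (hv : v ≠ 0) {w : N.presheaf.stalk (genericPoint X)} (hw : w ≠ 0) :
    ∃ u : (CohB1.tensorMod L N).presheaf.stalk (genericPoint X), u ≠ 0 ∧
      ∀ y : X, Order.coheight y = 1 → secOrd (CohB1.tensorMod L N) y u = secOrd L y v + secOrd N y w := by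
  have key : ∀ x : X, ∃ (a : L.presheaf.stalk x) (b : N.presheaf.stalk x) (φ ψ : X.functionField),
      H23.RatSec.IsGen a ∧ H23.RatSec.IsGen b ∧ H23.RatSec.IsGen (spec L x a) ∧ H23.RatSec.IsGen (spec N x b) ∧
        φ ≠ 0 ∧ ψ ≠ 0 ∧ v = (show X.presheaf.stalk (genericPoint X) from φ) • spec L x a ∧
        w = (show X.presheaf.stalk (genericPoint X) from ψ) • spec N x b := fun x => by
    obtain ⟨a, ha, ha'⟩ := H23.RatSec.exists_gen hL x
    obtain ⟨b, hb, hb'⟩ := H23.RatSec.exists_gen hN x
    have ha1 := ha' _ (gp_specializes x)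
    have hb1 := hb' _ (gp_specializes x)
    obtain ⟨φ, hφ⟩ := Submodule.mem_span_singleton.1 (ha1.1.ge (Submodule.mem_top : v ∈ ⊤))
    obtain ⟨ψ, hψ⟩ := Submodule.mem_span_singleton.1 (hb1.1.ge (Submodule.mem_top : w ∈ ⊤))
    exact ⟨a, b, φ, ψ, ha, hb, ha1, hb1,
      fun h => hv (by rw [← hφ]; exact (congrArg (fun c : X.presheaf.stalk (genericPoint X) => c • _) h).trans (zero_smul _ _)),
      fun h => hw (by rw [← hψ]; exact (congrArg (fun c : X.presheaf.stalk (genericPoint X) => c • _) h).trans (zero_smul _ _)),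
      hφ.symm, hψ.symm⟩
  refine ⟨H23.RatSecTensor.tm (genericPoint X) v w, fun h => ?_, fun x hx => ?_⟩
  · obtain ⟨a, b, φ, ψ, -, -, ha1, hb1, hφ, hψ, hva, hwb⟩ := key (genericPoint X)
    rw [hva, hwb, H23.RatSecTensor.tm_smul_smul] at h
    exact mul_ne_zero hφ hψ ((H23.RatSecTensor.isGen_tm ha1 hb1).2 _ h)
  obtain ⟨a, b, φ, ψ, ha, hb, ha1, hb1, hφ, hψ, hva, hwb⟩ := key x
  have hsp : spec (CohB1.tensorMod L N) x (H23.RatSecTensor.tm x a b) =
      H23.RatSecTensor.tm (genericPoint X) (spec L x a) (spec N x b) :=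
    (H23.RatSecTensor.tm_stalkSpecializes (gp_specializes x) a b).symm
  rw [secOrd_eq hx ha.1 (ne_zero_of_isGen ha1) hφ hva, secOrd_eq hx hb.1 (ne_zero_of_isGen hb1) hψ hwb,
    ← Scheme.ord_mul hφ hψ]
  refine secOrd_eq hx (H23.RatSecTensor.isGen_tm ha hb).1
    (by rw [hsp]; exact ne_zero_of_isGen (H23.RatSecTensor.isGen_tm ha1 hb1)) (mul_ne_zero hφ hψ) ?_
  rw [hva, hwb, H23.RatSecTensor.tm_smul_smul, hsp]

/-- Tensor powers multiply orders. -/
theorem secOrd_tensorPow (hX : Pi1.IsNormalScheme X) {M : X.Modules} (hM : PicF.IsInvertible M)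
    {w : M.presheaf.stalk (genericPoint X)} (hw : w ≠ 0) : ∀ n : ℕ,
    ∃ u : (CohB1.tensorPow M n).presheaf.stalk (genericPoint X), u ≠ 0 ∧
      ∀ y : X, Order.coheight y = 1 → secOrd (CohB1.tensorPow M n) y u = n * secOrd M y w
  | 0 => by
    haveI : Nontrivial (X.presheaf.stalk (genericPoint X)) := inferInstanceAs (Nontrivial X.functionField)
    refine ⟨RefX.unitStalk (genericPoint X) 1, fun h => one_ne_zero ((LinearEquiv.map_eq_zero_iff _).1 h),
      fun y hy => ?_⟩
    rw [Nat.cast_zero, zero_mul]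
    exact secOrd_unit hX hy
  | n + 1 => by
    obtain ⟨u, hu, hord⟩ := secOrd_tensorPow hX hM hw n
    obtain ⟨z, hz, hz'⟩ := secOrd_tm (InvX.isInvertible_tensorPow hM n) hM hu hw
    refine ⟨z, hz, fun y hy => (hz' y hy).trans ?_⟩
    rw [hord y hy]
    push_cast
    ring

set_option maxHeartbeats 800000 in
/-- Modification along a divisor twists the hull of the top exterior power. -/
theorem exists_iso_modification (hreg : ∀ x : X, IsRegularLocalRing (X.presheaf.stalk x))
    {D : X.IdealSheafData} (hD : BlowUp.IsEffCartierIdeal D) [IsIntegral D.subscheme] {s : ℕ}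
    {G : (D.subscheme).Modules} (hG : FlatMod.IsFinLocFreeOfRank s G) {F F' : X.Modules} (hF : Coh.IsCoh F)
    (hF' : Coh.IsCoh F') (a : F ⟶ F') (b : F' ⟶ (Scheme.Modules.pushforward D.subschemeι).obj G)
    (w : a ≫ b = 0) (hex : (ShortComplex.mk a b w).Exact) (hb : Epi b) {r : ℕ}
    (hr : Module.finrank (X.presheaf.stalk (genericPoint X)) (F.presheaf.stalk (genericPoint X)) = r)
    (hr' : Module.finrank (X.presheaf.stalk (genericPoint X)) (F'.presheaf.stalk (genericPoint X)) = r)
    {L L' : X.Modules} (hL : ExtPow.IsExtPow r F L) (hL' : ExtPow.IsExtPow r F' L') :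
    PicF.IsInvertible (RefHull.ddual L) ∧ PicF.IsInvertible (RefHull.ddual L') ∧
      ∃ k : ℕ, k ≤ min s r ∧
        Nonempty (RefHull.ddual L' ≅
          CohB1.tensorMod (RefHull.ddual L) (CohB1.tensorPow (RefHull.dual (ClSub.idealMod D)) k)) := by
  classical
  letI := fieldGen (X := X)
  obtain ⟨hX, hufd⟩ := normal_and_ufd_of_regular hreg
  obtain ⟨hLc, Ω, hR, hΩ⟩ := exists_ext_gen hX hF hL hr
  obtain ⟨hLc', Ω', hR', hΩ'⟩ := exists_ext_gen hX hF' hL' hr'
  have hIL := isInvertible_of_ufd hX hufd hR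
  refine ⟨hIL, isInvertible_of_ufd hX hufd hR', ?_⟩
  -- exactness on stalks
  let S := ShortComplex.mk a b w
  have hstalk : ∀ x : X, Function.Exact (RefHull.stalkMapₗ a x) (RefHull.stalkMapₗ b x) ∧
      Function.Surjective (RefHull.stalkMapₗ b x) := fun x =>
    ⟨LinearMap.exact_iff.2 (ShortComplex.Exact.moduleCat_range_eq_ker (hex.map (DerSch.stalkFunctor X x))).symm,
      haveI := hb
      (ModuleCat.epi_iff_surjective ((DerSch.stalkFunctor X x).map b)).1 inferInstance⟩
  have hoff : ∀ x : X, x ∉ D.support → Function.Surjective (RefHull.stalkMapₗ a x) := fun x hx m => by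
    haveI : Subsingleton (((Scheme.Modules.pushforward D.subschemeι).obj G).presheaf.stalk x) :=
      H23.ClosedPushLen.subsingleton_stalk D.subschemeι G (by
        rw [Scheme.IdealSheafData.range_subschemeι]; exact hx)
    exact ((hstalk x).1 m).1 (Subsingleton.elim _ _)
  -- the generic fibre
  have hηS := gen_notMem_support (X := X) hD
  haveI := finite_stalk hF (genericPoint X)
  haveI := finite_stalk hF' (genericPoint X)
  have hsη := hoff _ hηS
  have hbij : Function.Bijective (RefHull.stalkMapₗ a (genericPoint X)) :=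
    ⟨(LinearMap.injective_iff_surjective_of_finrank_eq_finrank (hr.trans hr'.symm)).2 hsη, hsη⟩
  let aη := LinearEquiv.ofBijective (RefHull.stalkMapₗ a (genericPoint X)) hbij
  let b₀ := (Module.finBasisOfFinrankEq (X.presheaf.stalk (genericPoint X))
    (F.presheaf.stalk (genericPoint X)) hr)
  let b₀' := b₀.map aη
  obtain ⟨hv, hvo⟩ := hΩ b₀
  obtain ⟨hv', hvo'⟩ := hΩ' b₀'
  have hdiff : ∀ (y : X), Order.coheight y = 1 → ∀ (π : X.presheaf.stalk y), Irreducible π →
      ∀ [IsDiscreteValuationRing (X.presheaf.stalk y)] (n : ℕ)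
        (u : Fin n → F'.presheaf.stalk y)
        (_ : ∀ m : F'.presheaf.stalk y, π • m ∈ LinearMap.range (RefHull.stalkMapₗ a y))
        (_ : ∀ m : F'.presheaf.stalk y, ∃ (z : F.presheaf.stalk y) (c : Fin n → X.presheaf.stalk y),
          m = RefHull.stalkMapₗ a y z + ∑ j, c j • u j),
        ∃ k : ℕ, k ≤ min n r ∧ secOrd (RefHull.ddual L') y (bidualGen hLc' (Ω' b₀')) =
          secOrd (RefHull.ddual L) y (bidualGen hLc (Ω b₀)) + k := by
    intro y hy π hπ _ n u hπa hu
    obtain ⟨t, ht, htc⟩ := exists_latt_basis hX hF hr hy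
    obtain ⟨t', ht', htc'⟩ := exists_latt_basis hX hF' hr' hy
    obtain ⟨d, k, hk, hd, hdet⟩ := exists_det_pow a t ht htc t' ht' htc' hπ hπa u hu
    refine ⟨k, hk, ?_⟩
    rw [hvo y hy t ht htc, hvo' y hy t' ht' htc', ← ord_toK_of_associated hy hπ hd]
    have h1 : t'.det b₀' = t.det b₀ * toK y d := by
      have := alt_eq_det (t'.det.compLinearMap (RefHull.stalkMapₗ a (genericPoint X))) t b₀
      rw [← hdet]
      exact this
    have hd0 : (show X.functionField from toK y d) ≠ 0 := fun h =>
      (t'.isUnit_det b₀').ne_zero (by rw [h1, show toK y d = 0 from h, mul_zero])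
    rw [← Scheme.ord_mul (x := y) (f := (show X.functionField from t.det b₀)) (t.isUnit_det b₀).ne_zero hd0]
    exact congrArg (fun c => Scheme.ord c y) h1
  set ξ := D.subschemeι (genericPoint ↥D.subscheme) with hξ
  have hξ1 : Order.coheight ξ = 1 := (divisor_gen hD).1
  haveI := CDiv6.isDVR_of_coheight_one hX hξ1
  obtain ⟨π, hπ⟩ := IsDiscreteValuationRing.exists_irreducible (X.presheaf.stalk ξ)
  obtain ⟨k, hk, hordξ⟩ : ∃ k : ℕ, k ≤ min s r ∧ secOrd (RefHull.ddual L') ξ (bidualGen hLc' (Ω' b₀')) =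
      secOrd (RefHull.ddual L) ξ (bidualGen hLc (Ω b₀)) + k := by
    obtain ⟨bG⟩ := CurveTensor.exists_basis_stalk hG (genericPoint ↥D.subscheme)
    letI : Module (X.presheaf.stalk ξ) (G.presheaf.stalk (genericPoint ↥D.subscheme)) :=
      Module.compHom _ (D.subschemeι.stalkMap (genericPoint ↥D.subscheme)).hom
    obtain ⟨e⟩ := H23.SpClosed.nonempty_stalkEquiv D.subschemeι G (genericPoint ↥D.subscheme)
    choose u hu using fun j => (hstalk ξ).2 (e.symm (bG j))
    refine hdiff ξ hξ1 π hπ s u (fun m => ((hstalk ξ).1 _).1 (e.injective ?_)) fun m => ?_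
    · rw [map_zero]
      show e (RefHull.stalkMapₗ b ξ (π • m)) = 0
      rw [map_smul]
      erw [map_smul]
      show (D.subschemeι.stalkMap (genericPoint ↥D.subscheme)).hom π • e (RefHull.stalkMapₗ b ξ m) = 0
      have : (D.subschemeι.stalkMap (genericPoint ↥D.subscheme)).hom π = 0 := by
        rw [← RingHom.mem_ker, ker_stalkMap, stI_divisor_gen]
        exact hπ.not_isUnit
      rw [this, zero_smul]
    · choose c hc using fun j => D.subschemeι.stalkMap_surjective (genericPoint ↥D.subscheme)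
        (bG.repr (e (RefHull.stalkMapₗ b ξ m)) j)
      have h0 : RefHull.stalkMapₗ b ξ (m - ∑ j, c j • u j) = 0 := e.injective <| by
        rw [map_sub, map_sum, map_zero]
        erw [map_sub, map_sum]
        rw [sub_eq_zero]
        refine (bG.sum_repr _).symm.trans (Finset.sum_congr rfl fun j _ => ?_)
        rw [map_smul]
        erw [map_smul, hu, LinearEquiv.apply_symm_apply]
        exact (congrArg (· • bG j) (hc j)).symm
      obtain ⟨z, hz⟩ := ((hstalk ξ).1 _).1 h0
      exact ⟨z, c, by rw [hz, sub_add_cancel]⟩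
  have hord : ∀ y : X, Order.coheight y = 1 → secOrd (RefHull.ddual L') y (bidualGen hLc' (Ω' b₀')) =
      secOrd (RefHull.ddual L) y (bidualGen hLc (Ω b₀)) + if y = ξ then (k : ℤ) else 0 := by
    intro y hy
    by_cases h : y = ξ
    · rw [if_pos h]
      subst h
      exact hordξ
    rw [if_neg h]
    haveI := CDiv6.isDVR_of_coheight_one hX hy
    obtain ⟨π, hπ⟩ := IsDiscreteValuationRing.exists_irreducible (X.presheaf.stalk y)
    have hs := hoff y fun hyS => h ((divisor_gen hD).2 y hyS hy)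
    obtain ⟨k', hk', hk''⟩ := hdiff y hy π hπ 0 Fin.elim0 (fun m => hs _) fun m => by
      obtain ⟨z, hz⟩ := hs m
      exact ⟨z, Fin.elim0, by simp [hz]⟩
    obtain rfl : k' = 0 := by omega
    simpa using hk''
  refine ⟨k, hk, ?_⟩
  obtain ⟨hI, e, he, heξ, he0⟩ := exists_secOrd_idealMod hD hX
  have hI1 := isRef1_of_isInvertible hI
  obtain ⟨hDR, q, hq, hqo⟩ := exists_secOrd_dual hX hI1 he
  have hDI := isInvertible_of_ufd hX hufd hDR
  obtain ⟨z, hz, hzo⟩ := secOrd_tensorPow hX hDI hq k
  obtain ⟨p, hp, hpo⟩ := secOrd_tm hIL (InvX.isInvertible_tensorPow hDI k) hv hz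
  refine iso_of_secOrd hX hR' (isRef1_of_isInvertible
    (InvX.isInvertible_tensorMod hIL (InvX.isInvertible_tensorPow hDI k))) hv' hp fun y hy => ?_
  rw [hord y hy, hpo y hy, hzo y hy, hqo y hy]
  by_cases h : y = ξ
  · rw [if_pos h, h, heξ]
    simp
  · rw [if_neg h, he0 y hy h]
    simp

end Groth.Agent.Div57.Ref
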