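import Groth.Agent.Div57.Ref.Hull
import Groth.Agent.CDiv6.Normal
import Groth.Agent.CycLib.DivMap
import Groth.Agent.H23.RatSec
import Mathlib.RingTheory.Ideal.KrullsHeightTheorem

/-!
# Rank one modules in codimension one

The order `secOrd F x v` of a generic element along a point of codimension one, its computation
through a generator of the stalk, lattices on normal schemes, and finiteness of the support.
-/

universe u

set_option autoImplicit false
set_option backward.isDefEq.respectTransparency false
set_option backward.isDefEq.respectTransparency.types false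
set_option linter.style.haveILetI false
set_option linter.unusedSectionVars false

open CategoryTheory AlgebraicGeometry TopologicalSpace Opposite IsLocalRing

namespace Groth.Agent.Div57.Ref

variable {X : Scheme.{u}} [IsIntegral X]

theorem residue_gen_injective : Function.Injective (X.residue (genericPoint X)).hom := by
  refine (injective_iff_map_eq_zero _).2 fun a ha => ?_
  by_contra h0
  exact ((IsUnit.mk0 (show X.functionField from a) h0).map (X.residue (genericPoint X)).hom).ne_zero ha

theorem maximalIdeal_gen : maximalIdeal (X.presheaf.stalk (genericPoint X)) = ⊥ :=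
  IsLocalRing.isField_iff_maximalIdeal_eq.1 isField_gen

/-- The class of a generic element in the generic fibre. -/
noncomputable def secCls (F : X.Modules) :
    F.presheaf.stalk (genericPoint X) ≃ₗ[X.presheaf.stalk (genericPoint X)] Cyc.secFibre F (genericPoint X) :=
  LinearEquiv.ofBijective (Submodule.mkQ _) ⟨by
    rw [← LinearMap.ker_eq_bot, Submodule.ker_mkQ, maximalIdeal_gen, Submodule.bot_smul],
    Submodule.mkQ_surjective _⟩

/-- The order of a generic element of a module at a point. -/
noncomputable def secOrd (F : X.Modules) (x : X) (v : F.presheaf.stalk (genericPoint X)) : ℤ :=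
  Cyc.secOrdAt F (genericPoint X) x (gp_specializes x) (secCls F v)

theorem secOrdAt_eq (F : X.Modules) (x : X) (h : genericPoint X ⤳ x)
    (s : Cyc.secFibre F (genericPoint X)) :
    Cyc.secOrdAt F (genericPoint X) x h s = secOrd F x ((secCls F).symm s) := by
  rw [secOrd, LinearEquiv.apply_symm_apply]

variable [IsLocallyNoetherian X]

theorem ordAt_gen {x : X} (hx : Order.coheight x = 1) {φ : X.functionField} (hφ : φ ≠ 0) :
    Cyc.ordAt x (genericPoint X) (gp_specializes x) (X.residue (genericPoint X) φ) = Scheme.ord φ x := by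
  haveI : Ring.KrullDimLE 1 (X.presheaf.stalk x) := krullDimLE_of_coheight_le hx.le
  have hinj : Function.Injective (Cyc.specMap x (genericPoint X) (gp_specializes x)) :=
    residue_gen_injective.comp (toK_injective x)
  let e : X.presheaf.stalk x ≃+* Cyc.LocQuot x (genericPoint X) (gp_specializes x) :=
    RingEquiv.ofBijective (Ideal.Quotient.mk _) ⟨by
      rw [injective_iff_map_eq_zero]
      intro a ha
      exact hinj ((RingHom.mem_ker.1 (Ideal.Quotient.eq_zero_iff_mem.1 ha)).trans (map_zero _).symm),
      Ideal.Quotient.mk_surjective⟩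
  have h1 : CycAlg.ordFrac (Cyc.LocQuot x (genericPoint X) (gp_specializes x))
      (X.residueField (genericPoint X)) ((X.residue (genericPoint X)).hom φ) =
      CycAlg.ordFrac (X.presheaf.stalk x) X.functionField φ :=
    CycLib.ordFrac_congr e (show X.functionField →+* X.residueField (genericPoint X) from
      (X.residue (genericPoint X)).hom) (fun a => rfl) φ
  refine h1.trans ?_
  rw [Scheme.ord_eq_ordHom_of_coheight_eq_one hx, CycAlg.ordFrac,
    dif_pos ⟨inferInstance, inferInstance, inferInstance, inferInstance⟩]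
  have hne : Ring.ordFrac (X.presheaf.stalk x) φ ≠ 0 :=
    (map_ne_zero (Ring.ordFrac (X.presheaf.stalk x) (K := X.functionField))).2 hφ
  obtain ⟨z, hz⟩ := WithZero.ne_zero_iff_exists.1 hne
  show WithZero.recZeroCoe (motive := fun _ => ℤ) 0 (fun z => Multiplicative.toAdd z)
      (Ring.ordFrac (X.presheaf.stalk x) φ) =
    Multiplicative.toAdd ((Ring.ordFrac (X.presheaf.stalk x) φ).unzeroD 1)
  rw [← hz]
  rfl

omit [IsLocallyNoetherian X] in
theorem secCls_smul (F : X.Modules) (c : X.presheaf.stalk (genericPoint X))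
    (v : F.presheaf.stalk (genericPoint X)) : secCls F (c • v) = c • secCls F v :=
  map_smul _ c v

/-- The order in terms of a generator of the stalk. -/
theorem secOrd_eq {F : X.Modules} {x : X} (hx : Order.coheight x = 1) {t : F.presheaf.stalk x}
    (ht : Submodule.span (X.presheaf.stalk x) {t} = ⊤) (ht0 : spec F x t ≠ 0) {φ : X.functionField}
    (hφ : φ ≠ 0) {v : F.presheaf.stalk (genericPoint X)}
    (hv : v = (show X.presheaf.stalk (genericPoint X) from φ) • spec F x t) :
    secOrd F x v = Scheme.ord φ x := by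
  classical
  letI : Field (X.presheaf.stalk (genericPoint X)) := inferInstanceAs (Field X.functionField)
  have hex : ∃ t : F.presheaf.stalk x, Submodule.span (X.presheaf.stalk x) {t} = ⊤ := ⟨t, ht⟩
  rw [secOrd, Cyc.secOrdAt, dif_pos hex]
  obtain ⟨a, hat⟩ := Submodule.mem_span_singleton.1 (ht.ge (Submodule.mem_top : Classical.choose hex ∈ ⊤))
  obtain ⟨b, hbt⟩ := Submodule.mem_span_singleton.1
    ((Classical.choose_spec hex).ge (Submodule.mem_top : t ∈ ⊤))
  have hba : toK x (b * a) = 1 := by
    refine smul_left_injective _ ht0 ?_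
    show toK x (b * a) • spec F x t = (1 : X.presheaf.stalk (genericPoint X)) • spec F x t
    rw [← spec_smul, mul_smul, hat, hbt, one_smul]
  have hab : b * a = 1 := toK_injective x (hba.trans (map_one _).symm)
  set t' := Classical.choose hex with ht'
  have hv' : v = ((show X.presheaf.stalk (genericPoint X) from φ) * toK x b) • spec F x t' := by
    rw [hv, mul_smul, ← spec_smul, hbt]
  have hψ : ∃ ψ : X.presheaf.stalk (genericPoint X), secCls F v =
      ψ • (Submodule.Quotient.mk ((F.presheaf.stalkSpecializes (gp_specializes x)) t') :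
        Cyc.secFibre F (genericPoint X)) := ⟨_, by rw [hv']; exact secCls_smul F _ _⟩
  rw [dif_pos hψ]
  have ht'0 : spec F x t' ≠ 0 := fun h0 => ht0 (by rw [← hbt, spec_smul, h0, smul_zero])
  have h2 : Classical.choose hψ = (show X.presheaf.stalk (genericPoint X) from φ) * toK x b := by
    refine smul_left_injective _ ht'0 ((secCls F).injective ?_)
    show secCls F (Classical.choose hψ • spec F x t') = secCls F (_ • spec F x t')
    rw [← hv']
    exact (secCls_smul F _ _).trans (Classical.choose_spec hψ).symm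
  rw [h2]
  have hb0 : toK x b ≠ 0 := fun h0 => by simp [h0] at hba
  refine (ordAt_gen hx (φ := φ * (show X.functionField from toK x b)) (mul_ne_zero hφ hb0)).trans ?_
  rw [Scheme.ord_mul hφ hb0]
  have hbu : IsUnit b := IsUnit.of_mul_eq_one a hab
  haveI : Ring.KrullDimLE 1 (X.presheaf.stalk x) := krullDimLE_of_coheight_le hx.le
  have : Scheme.ord (show X.functionField from toK x b) x = 0 := by
    rw [Scheme.ord_eq_iff hx hb0]
    exact Ring.ordFrac_of_isUnit hbu
  linarith

section Normal

variable (hX : Pi1.IsNormalScheme X)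
include hX

theorem finite_free_stalk {F : X.Modules} (hF : Coh.IsCoh F) (hinj : Inj F) {x : X}
    (hx : Order.coheight x = 1) : Module.Free (X.presheaf.stalk x) (F.presheaf.stalk x) := by
  haveI := CDiv6.isDVR_of_coheight_one hX hx
  haveI := finite_stalk hF x
  letI : Field (X.presheaf.stalk (genericPoint X)) := inferInstanceAs (Field X.functionField)
  haveI : Module.IsTorsionFree (X.presheaf.stalk x) (F.presheaf.stalk x) :=
    Module.IsTorsionFree.of_smul_eq_zero fun a v h => by
      by_contra! hne
      have h1 := congrArg (spec F x) h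
      rw [spec_smul, map_zero, smul_eq_zero] at h1
      rcases h1 with h1 | h1
      · exact hne.1 (toK_injective x (h1.trans (map_zero _).symm))
      · exact hne.2 (hinj x (h1.trans (map_zero _).symm))
  exact Module.free_of_finite_type_torsion_free'

theorem reflexiveAt_coheight_one {F : X.Modules} (hF : Coh.IsCoh F) (hinj : Inj F) {x : X}
    (hx : Order.coheight x = 1) : RefHull.IsReflexiveAt F x := by
  haveI := finite_free_stalk hX hF hinj hx
  haveI := finite_stalk hF x
  show Module.IsReflexive (X.presheaf.stalk x) (F.presheaf.stalk x)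
  infer_instance

/-- The stalk of a rank one module in codimension one is principal. -/
theorem exists_gen_stalk {F : X.Modules} (hF : Coh.IsCoh F) (hinj : Inj F)
    (h1 : RefHull.GenInvertible F) {x : X} (hx : Order.coheight x = 1) :
    ∃ t : F.presheaf.stalk x, Submodule.span (X.presheaf.stalk x) {t} = ⊤ ∧ spec F x t ≠ 0 := by
  classical
  haveI := finite_free_stalk hX hF hinj hx
  letI : Field (X.presheaf.stalk (genericPoint X)) := inferInstanceAs (Field X.functionField)
  obtain ⟨e, he, hspan⟩ := exists_gen_basis h1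
  let b := Module.Free.chooseBasis (X.presheaf.stalk x) (F.presheaf.stalk x)
  obtain ⟨s, m, hs, hsm⟩ := exists_denom_gen hF.1 x e
  have hne : Nonempty (Module.Free.ChooseBasisIndex (X.presheaf.stalk x) (F.presheaf.stalk x)) := by
    by_contra h
    haveI : IsEmpty (Module.Free.ChooseBasisIndex (X.presheaf.stalk x) (F.presheaf.stalk x)) := not_nonempty_iff.1 h
    have hm : m = 0 := b.repr.injective (Finsupp.ext fun i => isEmptyElim i)
    rw [hm, map_zero, smul_eq_zero] at hsm
    exact hsm.elim (fun h => hs (toK_injective x (h.trans (map_zero _).symm))) he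
  obtain ⟨i⟩ := hne
  have hsub : ∀ j, j = i := by
    intro j
    by_contra hji
    obtain ⟨ci, hci⟩ := hspan (spec F x (b i))
    obtain ⟨cj, hcj⟩ := hspan (spec F x (b j))
    obtain ⟨p, q, hq, hpq⟩ := IsFractionRing.div_surjective (A := X.presheaf.stalk x)
      (show X.functionField from cj / ci)
    have hci0 : ci ≠ 0 := fun h => b.ne_zero i (hinj x (by rw [← hci, h, zero_smul, map_zero]))
    have hq0 : q ≠ 0 := nonZeroDivisors.ne_zero hq
    have hqK : toK x q ≠ 0 := fun h => hq0 (toK_injective x (h.trans (map_zero _).symm))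
    have hrel : q • b j = p • b i := hinj x (by
      rw [spec_smul, spec_smul, ← hci, ← hcj, ← mul_smul, ← mul_smul]
      congr 1
      have : toK x p / toK x q = cj / ci := hpq
      field_simp at this
      linear_combination -this)
    have := congrArg (fun w => b.repr w j) hrel
    simp [Finsupp.single_apply, hji, Ne.symm hji] at this
    exact hq0 this
  refine ⟨b i, ?_, fun h => b.ne_zero i (hinj x (h.trans (map_zero _).symm))⟩
  rw [← b.span_eq]
  congr 1
  ext w
  constructor
  · rintro rfl; exact ⟨i, rfl⟩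
  · rintro ⟨j, rfl⟩; rw [hsub j]; rfl

theorem reg_iff_ord {x : X} (hx : Order.coheight x = 1) {f : X.functionField} (hf : f ≠ 0) :
    CDiv6.Reg x f ↔ 0 ≤ Scheme.ord f x :=
  ⟨CDiv6.reg_ord_nonneg hf, CDiv6.reg_of_ord_nonneg hX hx hf⟩

/-- Every nonzero generic element is a nonzero multiple of the generator. -/
theorem exists_coord_gen {F : X.Modules} (h1 : RefHull.GenInvertible F) {x : X}
    {t : F.presheaf.stalk x} (ht0 : spec F x t ≠ 0) (v : F.presheaf.stalk (genericPoint X)) :
    ∃ φ : X.presheaf.stalk (genericPoint X), v = φ • spec F x t := by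
  letI : Field (X.presheaf.stalk (genericPoint X)) := inferInstanceAs (Field X.functionField)
  obtain ⟨e, he, hspan⟩ := exists_gen_basis h1
  obtain ⟨c, hc⟩ := hspan (spec F x t)
  obtain ⟨d, hd⟩ := hspan v
  have hc0 : c ≠ 0 := fun h => ht0 (by rw [← hc, h, zero_smul])
  exact ⟨d / c, by rw [← hc, ← mul_smul, div_mul_cancel₀ _ hc0, hd]⟩

theorem mem_latt_iff {F : X.Modules} (hF : Coh.IsCoh F) (hinj : Inj F) (h1 : RefHull.GenInvertible F)
    {x : X} (hx : Order.coheight x = 1) {v : F.presheaf.stalk (genericPoint X)} :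
    v ∈ Latt F x ↔ v = 0 ∨ 0 ≤ secOrd F x v := by
  letI : Field (X.presheaf.stalk (genericPoint X)) := inferInstanceAs (Field X.functionField)
  obtain ⟨t, ht, ht0⟩ := exists_gen_stalk hX hF hinj h1 hx
  obtain ⟨φ, rfl⟩ := exists_coord_gen hX h1 ht0 v
  by_cases hφ : φ = 0
  · simp [hφ, zero_mem_latt]
  have hv0 : φ • spec F x t ≠ 0 := smul_ne_zero hφ ht0
  rw [secOrd_eq hx ht ht0 (φ := φ) hφ rfl, ← reg_iff_ord hX hx hφ]
  refine ⟨fun ⟨w, hw⟩ => Or.inr ?_, fun h => ?_⟩
  · obtain ⟨r, rfl⟩ := Submodule.mem_span_singleton.1 (ht.ge (Submodule.mem_top : w ∈ ⊤))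
    refine ⟨r, smul_left_injective _ ht0 ?_⟩
    show toK x r • spec F x t = φ • spec F x t
    rw [← spec_smul, hw]
  · obtain ⟨r, hr⟩ := h.resolve_left hv0
    exact ⟨r • t, by rw [spec_smul]; exact congrArg (· • spec F x t) hr⟩

theorem secOrd_smul {F : X.Modules} (hF : Coh.IsCoh F) (hinj : Inj F) (h1 : RefHull.GenInvertible F)
    {x : X} (hx : Order.coheight x = 1) {c : X.functionField} (hc : c ≠ 0)
    {v : F.presheaf.stalk (genericPoint X)} (hv : v ≠ 0) :
    secOrd F x ((show X.presheaf.stalk (genericPoint X) from c) • v) = Scheme.ord c x + secOrd F x v := by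
  letI : Field (X.presheaf.stalk (genericPoint X)) := inferInstanceAs (Field X.functionField)
  obtain ⟨t, ht, ht0⟩ := exists_gen_stalk hX hF hinj h1 hx
  obtain ⟨φ, rfl⟩ := exists_coord_gen hX h1 ht0 v
  have hφ : φ ≠ 0 := fun h => hv (by rw [h, zero_smul])
  rw [secOrd_eq hx ht ht0 (φ := c * φ) (mul_ne_zero hc hφ) (smul_smul _ _ _),
    secOrd_eq hx ht ht0 (φ := φ) hφ rfl, Scheme.ord_mul hc hφ]

/-- For a reflexive rank one module, membership is tested by orders in codimension one. -/
theorem mem_latt_iff_ord {F : X.Modules} (hF : Coh.IsCoh F) (hr : RefHull.IsReflexive F)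
    (h1 : RefHull.GenInvertible F) {x : X} {v : F.presheaf.stalk (genericPoint X)} (hv : v ≠ 0) :
    v ∈ Latt F x ↔ ∀ y : X, y ⤳ x → Order.coheight y = 1 → 0 ≤ secOrd F y v := by
  have hinj := inj_of_isReflexive hF hr
  refine ⟨fun h y hy hy1 => ((mem_latt_iff hX hF hinj h1 hy1).1 (latt_mono F hy h)).resolve_left hv,
    fun h => (mem_latt_iff_depth_one hF hr v).2 fun y hy hd => ?_⟩
  have hy1 := CDiv6.coheight_eq_one_of_depth hX hd
  exact (mem_latt_iff hX hF hinj h1 hy1).2 (Or.inr (h y hy hy1))

theorem surjective_eval_of_PID {R : Type*} [CommRing R] [IsDomain R] [IsPrincipalIdealRing R]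
    (M : Type*) [AddCommGroup M] [Module R M] [Module.Finite R M] :
    Function.Surjective (Module.Dual.eval R M) := by
  let Q := M ⧸ Submodule.torsion R M
  haveI : Module.Free R Q := Module.free_of_finite_type_torsion_free'
  intro ψ
  have hfac : ∀ f : Module.Dual R M, ∃ g : Module.Dual R Q, g.comp (Submodule.torsion R M).mkQ = f := by
    intro f
    refine ⟨(Submodule.torsion R M).liftQ f (fun m hm => ?_), Submodule.liftQ_mkQ _ _ _⟩
    obtain ⟨a, ha⟩ := (Submodule.mem_torsion_iff m).1 hm
    have h := congrArg f ha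
    rw [map_zero, Submonoid.smul_def, map_smul, smul_eq_mul, mul_eq_zero] at h
    exact h.resolve_left (nonZeroDivisors.ne_zero a.2)
  let ψ' : Module.Dual R (Module.Dual R Q) := ψ.comp ((Submodule.torsion R M).mkQ.dualMap)
  obtain ⟨q, hq⟩ := (Module.bijective_dual_eval R Q).2 ψ'
  obtain ⟨m, rfl⟩ := Submodule.mkQ_surjective _ q
  refine ⟨m, LinearMap.ext fun f => ?_⟩
  obtain ⟨g, rfl⟩ := hfac f
  exact LinearMap.congr_fun hq g

/-- In codimension one the biduality map is surjective on stalks. -/
theorem surjective_bidual {F : X.Modules} (hF : Coh.IsCoh F) {x : X} (hx : Order.coheight x = 1) :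
    Function.Surjective (RefHull.stalkMapₗ (RefHull.bidualMap F) x) := by
  haveI := CDiv6.isDVR_of_coheight_one hX hx
  haveI := finite_stalk hF x
  have hb := RefX.evalStalk_bijective (G := Coh.structureModule X)
    (QCoh.isCoh_iff_isFP.1 (RefX.isCoh_dual hF)) x
  let e : Module.Dual (X.presheaf.stalk x) (Module.Dual (X.presheaf.stalk x) (F.presheaf.stalk x)) ≃ₗ[X.presheaf.stalk x]
      RefHull.StalkHom (RefHull.dual F) (Coh.structureModule X) x :=
    (RefX.dualStalk (QCoh.isCoh_iff_isFP.1 hF) x).symm.arrowCongr (RefX.unitStalk x)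
  intro w
  obtain ⟨m, hm⟩ := surjective_eval_of_PID hX (F.presheaf.stalk x)
    (e.symm (RefHull.evalStalk (RefHull.dual F) (Coh.structureModule X) x w))
  refine ⟨m, hb.1 ?_⟩
  have h1 : RefHull.bidualAt F x m = RefHull.evalStalk (RefHull.dual F) (Coh.structureModule X) x w := by
    have key : RefHull.bidualAt F x m = e (Module.Dual.eval _ _ m) := by
      refine LinearMap.ext fun θ => ?_
      show RefHull.evalStalk F _ x θ m = RefX.unitStalk x ((RefX.unitStalk x).symm (RefHull.evalStalk F _ x θ m))
      rw [LinearEquiv.apply_symm_apply]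
    rw [key, hm, LinearEquiv.apply_symm_apply]
  refine Eq.trans ?_ h1
  obtain ⟨U, hxU, n, rfl⟩ := TopCat.Presheaf.exists_germ_eq F.presheaf m
  rw [RefHull.stalkMapₗ_germ, RefHull.evalStalk_germ, RefHull.bidualMap_app_apply]

end Normal

/-- Points of codimension one outside a nonempty open are finite on each affine open. -/
theorem finite_coheight_one_off {V : X.Opens} (hV : IsAffineOpen V) (W : X.Opens)
    (hW : genericPoint X ∈ W) : {y : X | y ∈ V ∧ y ∉ W ∧ Order.coheight y = 1}.Finite := by
  classical
  by_cases hη : genericPoint X ∈ V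
  swap
  · exact Set.Finite.subset Set.finite_empty fun y hy => absurd (gp_mem hy.1) hη
  haveI : IsNoetherianRing Γ(X, V) := IsLocallyNoetherian.component_noetherian ⟨V, hV⟩
  haveI : Nonempty V := ⟨⟨_, hη⟩⟩
  obtain ⟨f, hfW, hηf⟩ := hV.exists_basicOpen_le (V := W) ⟨genericPoint X, hW⟩ hη
  have hf0 : f ≠ 0 := fun h => by rw [h, Scheme.basicOpen_zero] at hηf; exact hηf
  have hfin := Ideal.finite_minimalPrimes_of_isNoetherianRing Γ(X, V) (Ideal.span {f})
  refine ((hfin.preimage (f := fun q : PrimeSpectrum Γ(X, V) => q.asIdeal)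
    (fun a _ b _ hab => PrimeSpectrum.ext hab)).image hV.fromSpec).subset ?_
  rintro y ⟨hyV, hyW, hy1⟩
  refine ⟨hV.primeIdealOf ⟨y, hyV⟩, ?_, hV.fromSpec_primeIdealOf ⟨y, hyV⟩⟩
  have hle : Ideal.span {f} ≤ (hV.primeIdealOf ⟨y, hyV⟩).asIdeal := by
    rw [Ideal.span_le, Set.singleton_subset_iff]
    by_contra hc
    exact hyW (hfW ((QCoh.mem_basicOpen_iff_notMem hV hyV f).2 hc))
  haveI := hV.isLocalization_stalk ⟨y, hyV⟩
  letI := X.presheaf.algebra_section_stalk (U := V) ⟨y, hyV⟩
  have hht : (hV.primeIdealOf ⟨y, hyV⟩).asIdeal.height = 1 := by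
    have h := ringKrullDim_stalk_eq_coheight y
    rw [IsLocalization.AtPrime.ringKrullDim_eq_height (hV.primeIdealOf ⟨y, hyV⟩).asIdeal, hy1] at h
    exact_mod_cast h
  refine Ideal.mem_minimalPrimes_of_height_le hle ?_
  rw [hht]
  exact Ideal.one_le_height_span_singleton_of_mem_nonZeroDivisors (mem_nonZeroDivisors_iff_ne_zero.2 hf0)

/-- Orders of a rational function have locally finite support. -/
theorem finite_ord {V : X.Opens} (hV : IsAffineOpen V) {φ : X.functionField} (hφ : φ ≠ 0) :
    {y : X | y ∈ V ∧ Scheme.ord φ y ≠ 0}.Finite := by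
  classical
  obtain ⟨U, hU, a, ha⟩ := TopCat.Presheaf.exists_germ_eq X.presheaf (x := genericPoint X)
    (show X.presheaf.stalk (genericPoint X) from φ)
  have hW : genericPoint X ∈ X.basicOpen a := (X.mem_basicOpen a _ hU).2 (by rw [ha]; exact IsUnit.mk0 φ hφ)
  refine (finite_coheight_one_off hV (X.basicOpen a) hW).subset fun y hy => ⟨hy.1, fun hyW => hy.2 ?_, ?_⟩
  · haveI : Nonempty (X.basicOpen a) := ⟨⟨y, hyW⟩⟩
    have hu : IsUnit (X.presheaf.map (homOfLE (X.basicOpen_le a)).op a) :=
      RingedSpace.isUnit_res_basicOpen _ a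
    rw [show φ = X.germToFunctionField (X.basicOpen a) (X.presheaf.map (homOfLE (X.basicOpen_le a)).op a) from
      (ha.symm.trans (TopCat.Presheaf.germ_res_apply X.presheaf (homOfLE (X.basicOpen_le a)) _ hW a).symm)]
    exact Scheme.ord_of_isUnit hu hyW
  · by_contra hne
    exact hy.2 (Scheme.ord_eq_zero_of_coheight_neq_one hne φ)

/-- The orders of a generic element of a rank one module have locally finite support. -/
theorem finite_secOrd {F : X.Modules} (h1 : RefHull.GenInvertible F) {V : X.Opens} (hV : IsAffineOpen V)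
    {v : F.presheaf.stalk (genericPoint X)} (hv : v ≠ 0) :
    {y : X | y ∈ V ∧ Order.coheight y = 1 ∧ secOrd F y v ≠ 0}.Finite := by
  classical
  obtain ⟨W, e, hW, he⟩ := exists_frame_of_genInvertible h1
  letI : Field (X.presheaf.stalk (genericPoint X)) := inferInstanceAs (Field X.functionField)
  obtain ⟨φ, hφ⟩ := (he.germ_bijective hW).2 v
  have hφ0 : φ ≠ 0 := fun h => hv (by rw [← hφ, h]; exact zero_smul _ _)
  refine ((finite_coheight_one_off hV W hW).union (finite_ord hV (φ := φ) hφ0)).subset ?_
  rintro y ⟨hyV, hy1, hy⟩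
  by_cases hyW : y ∈ W
  · refine Or.inr ⟨hyV, fun h0 => hy ?_⟩
    obtain ⟨hsp, -⟩ := H23.RatSec.isGen_germ he y hyW
    have ht0 : spec F y (F.presheaf.germ W y hyW e) ≠ 0 := by
      rw [spec_germ]
      exact fun h => hv (by rw [← hφ]; exact (congrArg (φ • ·) h).trans (smul_zero _))
    rw [secOrd_eq hy1 hsp ht0 (φ := φ) hφ0 (by rw [spec_germ]; exact hφ.symm), h0]
  · exact Or.inl ⟨hyV, hyW, hy1⟩

end Groth.Agent.Div57.Ref
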