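import Groth.Agent.Div57.Ref.OD
import Groth.Agent.RefX.Ext
import Groth.Agent.QCoh.Qcqs
import Groth.Agent.AssLib.OpenRestrict
import Groth.Agent.Alg6.AssDepth
import Mathlib.LinearAlgebra.Dimension.Free

/-!
# Direct images of coherent reflexive modules from opens with depth two outside
-/

universe u

set_option autoImplicit false
set_option backward.isDefEq.respectTransparency false
set_option backward.isDefEq.respectTransparency.types false
set_option linter.style.haveILetI false
set_option linter.unusedSectionVars false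

open CategoryTheory AlgebraicGeometry TopologicalSpace Opposite

namespace Groth.Agent.Div57.Ref

/-- Reflexivity and finiteness are invariant under semilinear equivalences. -/
theorem isReflexive_and_finite_of_semilinear {R S M N : Type*} [CommRing R] [CommRing S] [AddCommGroup M]
    [AddCommGroup N] [Module R M] [Module S N] (σ : R ≃+* S) (e : M ≃+ N)
    (he : ∀ (r : R) (m : M), e (r • m) = σ r • e m) :
    (Module.IsReflexive S N → Module.IsReflexive R M) ∧ (Module.Finite S N → Module.Finite R M) := by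
  have he' : ∀ (s : S) (n : N), e.symm (s • n) = σ.symm s • e.symm n := fun s n => e.injective (by
    rw [AddEquiv.apply_symm_apply, he, AddEquiv.apply_symm_apply, RingEquiv.apply_symm_apply])
  let down : Module.Dual S N → Module.Dual R M := fun g =>
    { toFun := fun m => σ.symm (g (e m))
      map_add' := fun a b => by simp
      map_smul' := fun r m => by simp [he] }
  let up : Module.Dual R M → Module.Dual S N := fun f =>
    { toFun := fun n => σ (f (e.symm n))
      map_add' := fun a b => by simp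
      map_smul' := fun r m => by simp [he'] }
  refine ⟨fun h => ⟨⟨?_, fun ψ => ?_⟩⟩, fun h => ?_⟩
  · intro a b hab
    refine e.injective ((Module.bijective_dual_eval S N).1 (LinearMap.ext fun g => ?_))
    have := congrArg σ (LinearMap.congr_fun hab (down g))
    simpa [down] using this
  · let ψ' : Module.Dual S (Module.Dual S N) :=
      { toFun := fun g => σ (ψ (down g))
        map_add' := fun a b => by
          rw [← map_add, ← map_add]
          congr 2
          exact LinearMap.ext fun m => by simp [down]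
        map_smul' := fun s g => by
          have : down (s • g) = σ.symm s • down g := LinearMap.ext fun m => by simp [down]
          rw [this]; simp }
    obtain ⟨n, hn⟩ := (Module.bijective_dual_eval S N).2 ψ'
    refine ⟨e.symm n, LinearMap.ext fun f => ?_⟩
    have h1 := congrArg σ.symm (LinearMap.congr_fun hn (up f))
    have h2 : down (up f) = f := LinearMap.ext fun m => by simp [down, up]
    simpa [ψ', h2, up] using h1
  · obtain ⟨t, ht⟩ := h.fg_top
    classical
    refine ⟨⟨t.image e.symm, eq_top_iff.2 fun m _ => ?_⟩⟩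
    have hm : e m ∈ Submodule.span S (t : Set N) := ht ▸ Submodule.mem_top
    rw [← e.symm_apply_apply m]
    generalize e m = n at hm
    induction hm using Submodule.span_induction with
    | mem x hx => exact Submodule.subset_span (Finset.mem_coe.2 (Finset.mem_image_of_mem _ hx))
    | zero => rw [map_zero]; exact zero_mem _
    | add a b _ _ ha hb => rw [map_add]; exact add_mem ha hb
    | smul s a _ ha => rw [he']; exact Submodule.smul_mem _ _ ha

variable {X : Scheme.{u}} [IsIntegral X] [IsLocallyNoetherian X] {U : X.Opens}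
  (hU : ∀ x : X, x ∉ U → (2 : ℕ∞) ≤ LocCoh.depth (X.presheaf.stalk x) (X.presheaf.stalk x))

include hU in
theorem gp_mem_of_depth : genericPoint X ∈ U := by
  by_contra h
  refine Alg6.one_le_depth_iff.1 (le_trans (by norm_num) (hU _ h)) ?_
  refine Alg6.mem_ass_iff.2 ⟨inferInstance, 1, fun b => ?_⟩
  rw [IsLocalRing.isField_iff_maximalIdeal_eq.1 isField_gen, smul_eq_mul, mul_one]
  exact Submodule.mem_bot _

include hU in
theorem reg_of_reg_on {x : X} (f : X.functionField) (h : ∀ y : X, y ⤳ x → y ∈ U → CDiv6.Reg y f) :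
    CDiv6.Reg x f := by
  by_contra hf
  obtain ⟨y, hy, hd, hny⟩ := CDiv6.exists_depth_one_point x f hf
  refine hny (h y hy ?_)
  by_contra hyU
  have := hU y hyU
  rw [hd] at this
  exact absurd this (by decide)

include hU in
/-- Finiteness of the sections of a torsion free module extended from `U`. -/
theorem finite_sections {F : X.Modules} (hinj : Inj F)
    (hfin : ∀ D : X.Opens, IsAffineOpen D → D ≤ U → Module.Finite Γ(X, D) Γ(F, D))
    (hη : Module.Finite (X.presheaf.stalk (genericPoint X)) (F.presheaf.stalk (genericPoint X)))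
    {V : X.Opens} (hV : IsAffineOpen V) : Module.Finite Γ(X, V) Γ(F, V) := by
  classical
  haveI : IsNoetherianRing Γ(X, V) := QCoh.noetherian_sections ⟨V, hV⟩
  by_cases hηV : genericPoint X ∈ V
  swap
  · haveI : Subsingleton Γ(F, V) := ⟨fun a b => app_ext hinj fun h => absurd h hηV⟩
    exact Module.Finite.of_finite
  haveI : Nonempty V := ⟨⟨_, hηV⟩⟩
  letI : Field (X.presheaf.stalk (genericPoint X)) := inferInstanceAs (Field X.functionField)
  haveI := hη
  let b := Module.finBasis (X.presheaf.stalk (genericPoint X)) (F.presheaf.stalk (genericPoint X))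
  let r := Module.finrank (X.presheaf.stalk (genericPoint X)) (F.presheaf.stalk (genericPoint X))
  let g : Γ(F, V) → F.presheaf.stalk (genericPoint X) := F.presheaf.germ V (genericPoint X) hηV
  let γ : Γ(X, V) → X.presheaf.stalk (genericPoint X) := X.presheaf.germ V (genericPoint X) hηV
  -- denominators on a basic open inside `U`
  have hD : ∀ a : Γ(X, V), X.basicOpen a ≤ U → genericPoint X ∈ X.basicOpen a →
      ∃ d : Γ(X, V), γ d ≠ 0 ∧ ∀ (ℓ : Γ(F, V)) (j : Fin r) (y : X), y ∈ X.basicOpen a →
        CDiv6.Reg y (show X.functionField from γ d * b.repr (g ℓ) j) := by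
    intro a haU haη
    haveI := hfin _ (hV.basicOpen a) haU
    obtain ⟨t, ht⟩ := Module.Finite.fg_top (R := Γ(X, X.basicOpen a)) (M := Γ(F, X.basicOpen a))
    haveI := functionField_isFractionRing_of_isAffineOpen X V hV
    have hden : ∀ c : X.presheaf.stalk (genericPoint X), ∃ d : Γ(X, V), γ d ≠ 0 ∧ ∃ a', γ d * c = γ a' := fun c => by
      obtain ⟨a', d, hd, hc⟩ := IsFractionRing.div_surjective (A := Γ(X, V)) (show X.functionField from c)
      have hd0 : γ d ≠ 0 := fun h0 => nonZeroDivisors.ne_zero hd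
        (germ_injective_of_isIntegral X (U := V) _ hηV (h0.trans (map_zero _).symm))
      refine ⟨d, hd0, a', ?_⟩
      rw [show c = (show X.functionField from γ a') / (show X.functionField from γ d) from hc.symm]
      exact mul_div_cancel₀ _ hd0
    choose den hden0 num hnum using hden
    let d : Γ(X, V) := ∏ p ∈ t ×ˢ (Finset.univ : Finset (Fin r)),
      den (b.repr (F.presheaf.germ (X.basicOpen a) (genericPoint X) haη p.1) p.2)
    refine ⟨d, ?_, fun ℓ j y hy => ?_⟩
    · show (X.presheaf.germ V (genericPoint X) hηV).hom d ≠ 0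
      rw [map_prod]
      exact Finset.prod_ne_zero_iff.2 fun p _ => hden0 _
    have hmem : AModX.res F (X.basicOpen_le a) ℓ ∈ Submodule.span Γ(X, X.basicOpen a) (t : Set Γ(F, X.basicOpen a)) :=
      ht ▸ Submodule.mem_top
    rw [show g ℓ = F.presheaf.germ (X.basicOpen a) (genericPoint X) haη (AModX.res F (X.basicOpen_le a) ℓ) from
      (RefX.germ_res F (X.basicOpen_le a) haη ℓ).symm]
    generalize AModX.res F (X.basicOpen_le a) ℓ = m at hmem
    induction hmem using Submodule.span_induction with
    | mem p hp =>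
      have hpj : (p, j) ∈ t ×ˢ (Finset.univ : Finset (Fin r)) := Finset.mem_product.2 ⟨hp, Finset.mem_univ _⟩
      obtain ⟨k, hk⟩ : den (b.repr (F.presheaf.germ (X.basicOpen a) (genericPoint X) haη p) j) ∣ d :=
        Finset.dvd_prod_of_mem (fun p : Γ(F, X.basicOpen a) × Fin r =>
          den (b.repr (F.presheaf.germ (X.basicOpen a) (genericPoint X) haη p.1) p.2)) hpj
      refine ⟨X.presheaf.germ V y (X.basicOpen_le a hy)
        (num (b.repr (F.presheaf.germ (X.basicOpen a) (genericPoint X) haη p) j) * k), ?_⟩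
      refine (toK_germ _ _).trans ?_
      rw [hk]
      show (X.presheaf.germ V (genericPoint X) hηV).hom _ = (X.presheaf.germ V (genericPoint X) hηV).hom _ * _
      rw [map_mul, map_mul, mul_right_comm]
      exact congrArg (· * _) (hnum _).symm
    | zero =>
      refine ⟨0, ?_⟩
      rw [map_zero, map_zero, map_zero, Finsupp.zero_apply, mul_zero]
    | add m₁ m₂ _ _ h₁ h₂ =>
      obtain ⟨a₁, e₁⟩ := h₁
      obtain ⟨a₂, e₂⟩ := h₂
      refine ⟨a₁ + a₂, ?_⟩
      rw [map_add, e₁, e₂, map_add, map_add, Finsupp.add_apply, mul_add]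
    | smul c m _ h =>
      obtain ⟨a₁, e₁⟩ := h
      refine ⟨X.presheaf.germ (X.basicOpen a) y hy c * a₁, ?_⟩
      rw [map_mul, e₁, QCoh.germ_smul', map_smul, Finsupp.smul_apply, smul_eq_mul, mul_left_comm]
      exact congrArg (fun w : X.presheaf.stalk (genericPoint X) => γ d * (w * _)) (toK_germ hy c)
  -- finitely many basic opens cover `U ⊓ V`
  haveI : NoetherianSpace ↥(V : Set X) := by
    rw [← hV.range_fromSpec]; exact NoetherianSpace.range _ hV.fromSpec.continuous
  have hUV : IsCompact ((U ⊓ V : X.Opens) : Set X) :=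
    (noetherianSpace_set_iff (V : Set X)).1 inferInstance _ Set.inter_subset_right
  obtain ⟨T, hT⟩ := hUV.elim_finite_subcover
    (fun a : {a : Γ(X, V) // X.basicOpen a ≤ U} => (X.basicOpen a.1 : Set X)) (fun a => (X.basicOpen a.1).isOpen)
    fun z hz => by
      obtain ⟨a, haU, hza⟩ := hV.exists_basicOpen_le (V := U ⊓ V) ⟨z, hz⟩ hz.2
      exact Set.mem_iUnion.2 ⟨⟨a, haU.trans inf_le_left⟩, hza⟩
  have hD' : ∀ a : {a : Γ(X, V) // X.basicOpen a ≤ U}, ∃ d : Γ(X, V), γ d ≠ 0 ∧
      ∀ (ℓ : Γ(F, V)) (j : Fin r) (y : X), y ∈ X.basicOpen a.1 →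
        CDiv6.Reg y (show X.functionField from γ d * b.repr (g ℓ) j) := fun a => by
    by_cases h : genericPoint X ∈ X.basicOpen a.1
    · exact hD a.1 a.2 h
    · exact ⟨1, by show (X.presheaf.germ V (genericPoint X) hηV).hom 1 ≠ 0; rw [map_one]; exact one_ne_zero,
        fun ℓ j y hy => absurd (gp_mem hy) h⟩
  choose dd hdd0 hdd using hD'
  let d : Γ(X, V) := ∏ a ∈ T, dd a
  have hd0 : γ d ≠ 0 := by
    show (X.presheaf.germ V (genericPoint X) hηV).hom d ≠ 0
    rw [map_prod]
    exact Finset.prod_ne_zero_iff.2 fun a _ => hdd0 a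
  have hOi : Inj (Coh.structureModule X) := inj_of_isReflexive RefX.isCoh_unit
    ((RefX.isReflexive_iff RefX.isCoh_unit).2 fun z => Module.equiv (RefX.unitStalk z))
  have key : ∀ (ℓ : Γ(F, V)) (j : Fin r), ∃ z : Γ(X, V), γ z = γ d * b.repr (g ℓ) j := by
    intro ℓ j
    have hreg : ∀ x ∈ V, CDiv6.Reg x (show X.functionField from γ d * b.repr (g ℓ) j) := fun x hx =>
      reg_of_reg_on hU _ fun y hy hyU => by
        obtain ⟨a, ha, hya⟩ := Set.mem_iUnion₂.1 (hT (show y ∈ (U ⊓ V : X.Opens) from ⟨hyU, hy.mem_open V.isOpen hx⟩))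
        obtain ⟨k, hk⟩ : dd a ∣ d := Finset.dvd_prod_of_mem dd ha
        obtain ⟨w, hw⟩ := hdd a ℓ j y hya
        refine ⟨X.presheaf.germ V y (X.basicOpen_le _ hya) k * w, ?_⟩
        rw [map_mul, hw, hk]
        show toK y _ * _ = (X.presheaf.germ V (genericPoint X) hηV).hom _ * _
        rw [toK_germ, map_mul]
        show (X.presheaf.germ V (genericPoint X) hηV).hom k *
          ((X.presheaf.germ V (genericPoint X) hηV).hom (dd a) * _) = _
        rw [mul_comm ((X.presheaf.germ V (genericPoint X) hηV).hom (dd a)) ((X.presheaf.germ V (genericPoint X) hηV).hom k),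
          mul_assoc]
    obtain ⟨s, hs⟩ := hOi.exists_section hηV (RefX.unitStalk (genericPoint X) (γ d * b.repr (g ℓ) j)) fun x hx => by
      obtain ⟨w, hw⟩ := hreg x hx
      refine ⟨RefX.unitStalk x w, ?_⟩
      rw [← show toK x w = γ d * b.repr (g ℓ) j from hw]
      obtain ⟨O, hxO, c, rfl⟩ := TopCat.Presheaf.exists_germ_eq X.presheaf w
      rw [unitStalk_germ hxO c, spec_germ, toK_germ, unitStalk_germ]
    refine ⟨s, (RefX.unitStalk (genericPoint X)).injective ?_⟩
    rw [← hs]
    exact unitStalk_germ hηV s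
  choose z hz using key
  have hγi : Function.Injective γ := germ_injective_of_isIntegral X (U := V) _ hηV
  refine Module.Finite.of_injective
    ({ toFun := fun ℓ j => z ℓ j
       map_add' := fun p q => funext fun j => hγi (by
         show γ _ = (X.presheaf.germ V (genericPoint X) hηV).hom (z p j + z q j)
         rw [map_add]
         show γ _ = γ (z p j) + γ (z q j)
         rw [hz, hz, hz, ← mul_add]
         congr 1
         show b.repr ((F.presheaf.germ V (genericPoint X) hηV).hom (p + q)) j = _
         rw [map_add, map_add, Finsupp.add_apply])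
       map_smul' := fun c q => funext fun j => hγi (by
         show γ _ = (X.presheaf.germ V (genericPoint X) hηV).hom (c * z q j)
         rw [map_mul]
         show γ _ = γ c * γ (z q j)
         rw [hz, hz, mul_left_comm]
         congr 1
         show b.repr (F.presheaf.germ V (genericPoint X) hηV (c • q)) j = _
         rw [QCoh.germ_smul', map_smul, Finsupp.smul_apply, smul_eq_mul]) } :
      Γ(F, V) →ₗ[Γ(X, V)] (Fin r → Γ(X, V))) fun p q hpq => app_ext hinj fun _ => b.repr.injective ?_
  refine Finsupp.ext fun j => mul_left_cancel₀ hd0 ?_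
  rw [← hz p j, ← hz q j]
  exact congrArg γ (congrFun hpq j)

include hU in
/-- A torsion free coherent module extending from `U`, reflexive there, is reflexive. -/
theorem isReflexive_of_ext {F : X.Modules} (hF : Coh.IsCoh F) (hinj : Inj F)
    (hr : ∀ x ∈ U, RefHull.IsReflexiveAt F x) (hext : RefX.ExtendsAcross U F) : RefHull.IsReflexive F := by
  show IsIso (RefHull.bidualMap F)
  refine Scheme.Modules.Hom.isIso_iff_isIso_app.2 fun W => (ConcreteCategory.isIso_iff_bijective _).2 ⟨?_, ?_⟩
  · intro p q h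
    refine app_ext hinj fun hη => (bidualGen hF).injective ?_
    rw [bidualGen_apply, bidualGen_apply, RefHull.stalkMapₗ_germ, RefHull.stalkMapₗ_germ]
    exact congrArg _ h
  · intro n
    by_cases hη : genericPoint X ∈ W
    swap
    · exact ⟨0, app_ext (inj_ddual hF) fun h => absurd h hη⟩
    have hη' : genericPoint X ∈ W ⊓ U := ⟨hη, gp_mem_of_depth hU⟩
    obtain ⟨v, hv⟩ := (bidualGen hF).surjective ((RefHull.ddual F).presheaf.germ W (genericPoint X) hη n)
    obtain ⟨g, hg⟩ := hinj.exists_section hη' v fun y hy =>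
      (bidualGen_mem_iff hF ((RefX.stalkMap_bidual_bijective_iff hF y).2 (hr y hy.2)).2).1
        (hv ▸ germ_mem_latt hy.1 n)
    obtain ⟨m, hm⟩ := (hext W).2 g
    refine ⟨m, app_ext (inj_ddual hF) fun _ => ?_⟩
    rw [← RefHull.stalkMapₗ_germ, ← bidualGen_apply hF, ← hv, ← RefX.germ_res F inf_le_left hη' m, hm, hg]

include hU in
/-- The direct image of a coherent reflexive module from `U` is coherent and reflexive. -/
theorem isCoh_and_isReflexive_push {G : (U : Scheme.{u}).Modules} (hG : Coh.IsCoh G)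
    (hr : ∀ x : ↥(U : Scheme.{u}), Module.IsReflexive ((U : Scheme.{u}).presheaf.stalk x) (G.presheaf.stalk x)) :
    Coh.IsCoh ((Scheme.Modules.pushforward U.ι).obj G) ∧
      RefHull.IsReflexive ((Scheme.Modules.pushforward U.ι).obj G) := by
  let F : X.Modules := (Scheme.Modules.pushforward U.ι).obj G
  let e : F.restrict U.ι ≅ G := asIso ((Scheme.Modules.restrictAdjunction U.ι).counit.app G)
  have hq : Coh.IsQCoh F := QCoh.isQCoh_pushforward U.ι hG.1
  have hs : ∀ x ∈ U, RefHull.IsReflexiveAt F x ∧ Module.Finite (X.presheaf.stalk x) (F.presheaf.stalk x) := by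
    intro x hx
    let z : (U : Scheme.{u}) := ⟨x, hx⟩
    obtain ⟨s, hs⟩ := AssLib.exists_semilinear_restrict U.ι F z
    let L := CycLib.stalkLin e.hom z
    have hb : Function.Bijective L := ConcreteCategory.bijective_of_isIso
      ((TopCat.Presheaf.stalkFunctor Ab.{u} z).map ((Scheme.Modules.toPresheaf _).map e.hom))
    let σ : X.presheaf.stalk x ≃+* (U : Scheme.{u}).presheaf.stalk z :=
      (asIso (U.ι.stalkMap z)).commRingCatIsoToRingEquiv
    have key := isReflexive_and_finite_of_semilinear (R := X.presheaf.stalk x)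
      (S := (U : Scheme.{u}).presheaf.stalk z) (M := F.presheaf.stalk x) (N := G.presheaf.stalk z) σ
      (s.symm.trans (LinearEquiv.ofBijective L hb).toAddEquiv) fun r m => by
        show L (s.symm (r • m)) = σ r • L (s.symm m)
        rw [← map_smul]
        congr 1
        refine s.injective ?_
        rw [AddEquiv.apply_symm_apply]
        exact ((hs r (s.symm m)).trans (by rw [AddEquiv.apply_symm_apply])).symm
    exact ⟨key.1 (hr z), key.2 (QCoh.finite_stalk_of_isFT hG.1 hG.2 z)⟩
  have hext : RefX.ExtendsAcross U F := fun W => by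
    have hle : U.ι ⁻¹ᵁ W ≤ U.ι ⁻¹ᵁ (W ⊓ U) := fun z hz => ⟨hz, z.2⟩
    have hge : U.ι ⁻¹ᵁ (W ⊓ U) ≤ U.ι ⁻¹ᵁ W := fun z hz => hz.1
    exact ⟨fun a b hab => by
      have h1 : AModX.res G hge (show Γ(G, U.ι ⁻¹ᵁ W) from a) = AModX.res G hge (show Γ(G, U.ι ⁻¹ᵁ W) from b) := hab
      have := congrArg (AModX.res G hle) h1
      simpa only [AModX.res_res, AModX.res_self] using this,
    fun c => ⟨AModX.res G hle (show Γ(G, U.ι ⁻¹ᵁ (W ⊓ U)) from c), by
      show AModX.res G hge (AModX.res G hle _) = _
      rw [AModX.res_res, AModX.res_self]⟩⟩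
  have hinj : Inj F := fun x => by
    refine (injective_iff_map_eq_zero _).2 fun m hm => ?_
    obtain ⟨W, hxW, f, rfl⟩ := TopCat.Presheaf.exists_germ_eq F.presheaf m
    rw [spec_germ] at hm
    have h0 : f = 0 := (hext W).1 (by
      rw [map_zero]
      refine ZClosLib.section_ext F _ _ fun z hz => spec_injective_of_reflexiveAt hq (hs z hz.2).1 ?_
      rw [RefX.germ_res, spec_germ, map_zero, map_zero]
      exact hm)
    rw [h0, map_zero]
  have hc : Coh.IsCoh F := by
    refine QCoh.isCoh_iff.2 ⟨hq, fun V => finite_sections hU hinj (fun D hD hDU => ?_)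
      (hs _ (gp_mem_of_depth hU)).2 V.2⟩
    haveI : IsIso (U.ι.app D) := U.ι.isIso_app D (by rwa [Scheme.Opens.opensRange_ι])
    haveI : Module.Finite Γ((U : Scheme.{u}), U.ι ⁻¹ᵁ D) Γ(G, U.ι ⁻¹ᵁ D) :=
      (QCoh.isCoh_iff.1 hG).2 ⟨U.ι ⁻¹ᵁ D, hD.preimage_of_isOpenImmersion U.ι (by rwa [Scheme.Opens.opensRange_ι])⟩
    obtain ⟨t, ht⟩ := Module.Finite.fg_top (R := Γ((U : Scheme.{u}), U.ι ⁻¹ᵁ D)) (M := Γ(G, U.ι ⁻¹ᵁ D))
    refine ⟨⟨(t : Finset Γ(G, U.ι ⁻¹ᵁ D)), eq_top_iff.2 fun m _ => ?_⟩⟩
    have hm : (show Γ(G, U.ι ⁻¹ᵁ D) from m) ∈ Submodule.span Γ((U : Scheme.{u}), U.ι ⁻¹ᵁ D) (t : Set Γ(G, U.ι ⁻¹ᵁ D)) :=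
      ht ▸ Submodule.mem_top
    have key : ∀ m' : Γ(G, U.ι ⁻¹ᵁ D), m' ∈ Submodule.span Γ((U : Scheme.{u}), U.ι ⁻¹ᵁ D) (t : Set Γ(G, U.ι ⁻¹ᵁ D)) →
        (show Γ(F, D) from m') ∈ Submodule.span Γ(X, D) (↑(show Finset Γ(F, D) from t) : Set Γ(F, D)) := fun m' hm' => by
     induction hm' using Submodule.span_induction with
     | mem x hx => exact Submodule.subset_span hx
     | zero => exact zero_mem _
     | add a b _ _ ha hb => exact add_mem ha hb
     | smul c a _ ha =>
      obtain ⟨c, rfl⟩ := (ConcreteCategory.bijective_of_isIso (U.ι.app D)).2 c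
      exact Submodule.smul_mem (Submodule.span Γ(X, D) _) c ha
    exact key _ hm
  exact ⟨hc, isReflexive_of_ext hU hc hinj (fun x hx => (hs x hx).1) hext⟩

end Groth.Agent.Div57.Ref
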