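import Groth.Agent.Div57.Ref.Class
import Groth.Agent.KFlatLib.Scheme.Tensor
import Groth.Prelude.Def_RefPow
import Mathlib.AlgebraicGeometry.Morphisms.Affine

/-!
# Reflexive powers and the complement of the zero locus of a section

For a rank one reflexive `F` on a normal scheme and `s : O ⟶ F`: orders of the powers of `s`, the
locus where `s` generates, the colimit of the reflexive powers, and the affineness criterion.
-/

universe u

set_option autoImplicit false
set_option backward.isDefEq.respectTransparency false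
set_option backward.isDefEq.respectTransparency.types false
set_option linter.style.haveILetI false
set_option linter.unusedSectionVars false

open CategoryTheory CategoryTheory.Limits AlgebraicGeometry TopologicalSpace Opposite

namespace Groth.Agent.Div57.Ref

variable {X : Scheme.{u}} [IsIntegral X]

/-- The generic element of a section. -/
noncomputable def sEl {M : X.Modules} (φ : Coh.structureModule X ⟶ M) :
    M.presheaf.stalk (genericPoint X) :=
  M.presheaf.germ ⊤ (genericPoint X) trivial (SecTwist.val φ ⊤)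

omit [IsIntegral X] in
theorem germ_val {M : X.Modules} (φ : Coh.structureModule X ⟶ M) (U : X.Opens) {x : X} (hx : x ∈ U) :
    M.presheaf.germ U x hx (SecTwist.val φ U) = M.presheaf.germ ⊤ x trivial (SecTwist.val φ ⊤) := by
  rw [← SecTwist.map_val φ (homOfLE (le_top : U ≤ ⊤))]
  exact TopCat.Presheaf.germ_res_apply M.presheaf (homOfLE le_top) x hx _

omit [IsIntegral X] in
theorem stalkMap_unit {M : X.Modules} (φ : Coh.structureModule X ⟶ M) (x : X) (a : X.presheaf.stalk x) :
    RefHull.stalkMapₗ φ x (RefX.unitStalk x a) = a • M.presheaf.germ ⊤ x trivial (SecTwist.val φ ⊤) := by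
  rw [RefX.unitStalk, LinearEquiv.ofBijective_apply, LinearMap.toSpanSingleton_apply, map_smul,
    RefHull.stalkMapₗ_germ]
  rfl

theorem spec_val {M : X.Modules} (φ : Coh.structureModule X ⟶ M) (x : X) :
    spec M x (M.presheaf.germ ⊤ x trivial (SecTwist.val φ ⊤)) = sEl φ :=
  spec_germ M (U := ⊤) trivial _

theorem sEl_comp {M N : X.Modules} (φ : Coh.structureModule X ⟶ M) (ψ : M ⟶ N) :
    sEl (φ ≫ ψ) = RefHull.stalkMapₗ ψ (genericPoint X) (sEl φ) := by
  rw [sEl, sEl, RefHull.stalkMapₗ_germ]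
  rfl

theorem sEl_id : sEl (𝟙 (Coh.structureModule X)) = RefX.unitStalk (genericPoint X) 1 := by
  have h := stalkMap_unit (𝟙 (Coh.structureModule X)) (genericPoint X) 1
  rw [stalkMap_id, LinearMap.id_apply, one_smul] at h
  exact h.symm

variable {F : X.Modules} (s : Coh.structureModule X ⟶ F)

/-- The generic element of a power. -/
noncomputable def powEl (n : ℕ) : (RefPow.refPow F n).presheaf.stalk (genericPoint X) :=
  sEl (RefPow.sPow s n)

theorem powEl_zero : powEl s 0 = RefX.unitStalk (genericPoint X) 1 := sEl_id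

theorem powEl_one : powEl s 1 = sEl s := by rw [powEl, RefPow.sPow_one]

theorem powEl_succ (n : ℕ) :
    powEl s (n + 1) = RefHull.stalkMapₗ (RefPow.mulBy s n) (genericPoint X) (powEl s n) :=
  sEl_comp _ _

theorem stalkMap_mulBy (n : ℕ) (v : (RefPow.refPow F (n + 1)).presheaf.stalk (genericPoint X)) :
    RefHull.stalkMapₗ (RefPow.mulBy s (n + 1)) (genericPoint X) v =
      RefHull.stalkMapₗ (RefHull.bidualMap (CohB1.tensorMod (RefPow.refPow F (n + 1)) F)) (genericPoint X)
        (H23.RatSecTensor.tm (genericPoint X) v (sEl s)) := by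
  obtain ⟨U, hU, t, rfl⟩ := TopCat.Presheaf.exists_germ_eq (RefPow.refPow F (n + 1)).presheaf v
  rw [RefHull.stalkMapₗ_germ, sEl, ← germ_val s U hU, H23.RatSecTensor.tm_germ]
  refine Eq.trans ?_ (RefHull.stalkMapₗ_germ (RefHull.bidualMap (CohB1.tensorMod (RefPow.refPow F (n + 1)) F))
    (genericPoint X) hU _).symm
  exact congrArg _ (RefPow.mulBy_succ_app s n U t)

variable [IsLocallyNoetherian X] (hX : Pi1.IsNormalScheme X) (hF : RefHull.IsRef1 F)

include hX hF in
theorem isRef1_refPow : ∀ n, RefHull.IsRef1 (RefPow.refPow F n)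
  | 0 => isRef1_unit
  | 1 => hF
  | n + 2 =>
    let ⟨_, hv⟩ := exists_ne_zero (isRef1_refPow (n + 1))
    let ⟨_, hw⟩ := exists_ne_zero hF
    (secOrd_tensor hX (isRef1_refPow (n + 1)) hF hv hw).1

include hX hF in
theorem inj_refPow (n : ℕ) : Inj (RefPow.refPow F n) :=
  inj_of_isReflexive (isRef1_refPow hX hF n).1 (isRef1_refPow hX hF n).2.1

include hX hF in
theorem powEl_ne_zero_and_secOrd (h0 : sEl s ≠ 0) : ∀ n : ℕ, powEl s n ≠ 0 ∧
    ∀ y : X, Order.coheight y = 1 →
      secOrd (RefPow.refPow F n) y (powEl s n) = n * secOrd F y (sEl s)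
  | 0 => by
    haveI : Nontrivial (X.presheaf.stalk (genericPoint X)) := inferInstanceAs (Nontrivial X.functionField)
    rw [powEl_zero]
    refine ⟨fun h => one_ne_zero ((LinearEquiv.map_eq_zero_iff _).1 h), fun y hy => ?_⟩
    rw [Nat.cast_zero, zero_mul]
    exact secOrd_unit hX hy
  | 1 => by
    rw [powEl_one]
    exact ⟨h0, fun y _ => by rw [Nat.cast_one, one_mul]; rfl⟩
  | n + 2 => by
    obtain ⟨hne, hord⟩ := powEl_ne_zero_and_secOrd h0 (n + 1)
    rw [powEl_succ, stalkMap_mulBy]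
    obtain ⟨-, h2, h3⟩ := secOrd_tensor hX (isRef1_refPow hX hF (n + 1)) hF hne h0
    refine ⟨h2, fun y hy => (h3 y hy).trans ?_⟩
    rw [hord y hy]
    push_cast
    ring

include hX hF in
theorem secOrd_nonneg (h0 : sEl s ≠ 0) {y : X} (hy : Order.coheight y = 1) : 0 ≤ secOrd F y (sEl s) :=
  ((mem_latt_iff hX hF.1 (inj_of_isReflexive hF.1 hF.2.1) hF.2.2 hy).1 ⟨_, spec_val s y⟩).resolve_left h0

include hX hF in
theorem mem_latt_pow (h0 : sEl s ≠ 0) (n : ℕ) {c : X.functionField} (hc : c ≠ 0) {x : X} :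
    (show X.presheaf.stalk (genericPoint X) from c) • powEl s n ∈ Latt (RefPow.refPow F n) x ↔
      ∀ y : X, y ⤳ x → Order.coheight y = 1 → 0 ≤ Scheme.ord c y + n * secOrd F y (sEl s) := by
  obtain ⟨hne, hord⟩ := powEl_ne_zero_and_secOrd s hX hF h0 n
  have hR := isRef1_refPow hX hF n
  rw [mem_latt_iff_ord hX hR.1 hR.2.1 hR.2.2 fun h => (smul_gen_eq_zero _ h).elim hc hne]
  refine forall_congr' fun y => forall_congr' fun _ => forall_congr' fun hy => ?_
  rw [secOrd_smul hX hR.1 (inj_refPow hX hF n) hR.2.2 hy hc hne, hord y hy]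

/-- The zero section on stalks. -/
theorem germ_val_eq_zero (hinj : Inj F) (h0 : sEl s = 0) (x : X) :
    F.presheaf.germ ⊤ x trivial (SecTwist.val s ⊤) = 0 :=
  hinj x (by rw [spec_val, h0, map_zero])

include hF in
theorem notMem_isoLocus_of_eq_zero (h0 : sEl s = 0) (x : X) : x ∉ RefPow.isoLocus s := by
  intro hx
  have hinj := inj_of_isReflexive hF.1 hF.2.1
  obtain ⟨e, he⟩ := exists_ne_zero hF
  obtain ⟨c, m, hc, hcm⟩ := exists_denom_gen hF.1.1 x e
  obtain ⟨a, ha⟩ := hx.2 m
  obtain ⟨a, rfl⟩ := (RefX.unitStalk x).surjective a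
  rw [stalkMap_unit, germ_val_eq_zero s hinj h0, smul_zero] at ha
  rw [← ha, map_zero] at hcm
  exact (smul_gen_eq_zero _ hcm).elim (fun h => hc (toK_injective x (h.trans (map_zero _).symm))) he

include hX hF in
theorem mem_isoLocus_iff (h0 : sEl s ≠ 0) (x : X) :
    x ∈ RefPow.isoLocus s ↔ ∀ y : X, y ⤳ x → Order.coheight y = 1 → secOrd F y (sEl s) = 0 := by
  have hinj := inj_of_isReflexive hF.1 hF.2.1
  have hsurj : ∀ z : X, z ∈ RefPow.isoLocus s → ∀ w : F.presheaf.stalk z,
      ∃ a : X.presheaf.stalk z, a • F.presheaf.germ ⊤ z trivial (SecTwist.val s ⊤) = w := fun z hz w => by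
    obtain ⟨a, rfl⟩ := hz.2 w
    obtain ⟨a, rfl⟩ := (RefX.unitStalk z).surjective a
    exact ⟨a, (stalkMap_unit s z a).symm⟩
  constructor
  · intro hx y hy hy1
    have hyU : y ∈ RefPow.isoLocus s :=
      (MiscSh16.isOpen_bijective_locus RefX.isCoh_unit hF.1 s).stableUnderGeneralization hy hx
    refine eq_of_ord_iff hX hy1 fun c hc => ?_
    have h := mem_latt_iff hX hF.1 hinj hF.2.2 hy1
      (v := (show X.presheaf.stalk (genericPoint X) from c) • sEl s)
    rw [secOrd_smul hX hF.1 hinj hF.2.2 hy1 hc h0, or_iff_right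
      (fun h => (smul_gen_eq_zero _ h).elim hc h0)] at h
    rw [← h, add_zero, ← reg_iff_ord hX hy1 hc]
    refine ⟨fun ⟨w, hw⟩ => ?_, fun ⟨a, ha⟩ => ?_⟩
    · obtain ⟨a, rfl⟩ := hsurj y hyU w
      rw [spec_smul, spec_val] at hw
      refine ⟨a, ?_⟩
      by_contra hne
      refine h0 ((smul_gen_eq_zero (toK y a - (show X.presheaf.stalk (genericPoint X) from c)) ?_).resolve_left
        fun h => hne (sub_eq_zero.1 h))
      rw [sub_smul, hw, sub_self]
    · refine ⟨a • F.presheaf.germ ⊤ y trivial (SecTwist.val s ⊤), ?_⟩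
      rw [spec_smul, spec_val]
      exact congrArg (fun t : X.presheaf.stalk (genericPoint X) => t • sEl s) ha
  · intro h
    refine ⟨(injective_iff_map_eq_zero _).2 fun a ha => ?_, fun w => ?_⟩
    · obtain ⟨a, rfl⟩ := (RefX.unitStalk x).surjective a
      have h1 := congrArg (spec F x) ha
      rw [stalkMap_unit, spec_smul, spec_val, map_zero] at h1
      rw [toK_injective x (((smul_gen_eq_zero _ h1).resolve_right h0).trans (map_zero _).symm), map_zero]
    · obtain ⟨c, hc⟩ := Submodule.mem_span_singleton.1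
        ((isGen_of_ne_zero hF.2.2 h0).1.ge (Submodule.mem_top : spec F x w ∈ ⊤))
      by_cases hc0 : c = 0
      · refine ⟨0, hinj x ?_⟩
        rw [map_zero, map_zero, ← hc, hc0, zero_smul]
      have hreg : CDiv6.Reg x (show X.functionField from c) :=
        CDiv6.reg_of_forall_ord_nonneg hX hc0 fun y hy hy1 => by
          have h1 := (mem_latt_iff hX hF.1 hinj hF.2.2 hy1).1 (latt_mono F hy ⟨w, rfl⟩)
          rw [← hc, show secOrd F y (c • sEl s) = Scheme.ord (show X.functionField from c) y + secOrd F y (sEl s) from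
            secOrd_smul hX hF.1 hinj hF.2.2 hy1 (c := c) hc0 h0, h y hy hy1, add_zero] at h1
          exact h1.resolve_left fun h2 => (smul_gen_eq_zero _ h2).elim hc0 h0
      obtain ⟨a, ha⟩ := hreg
      refine ⟨RefX.unitStalk x a, hinj x ?_⟩
      rw [stalkMap_unit, spec_smul, spec_val, ← hc]
      exact congrArg (fun t : X.presheaf.stalk (genericPoint X) => t • sEl s) ha

variable (U : X.Opens) (hU : (U : Set X) = RefPow.isoLocus s)

include hX hF hU in
theorem eq_bot_of_eq_zero (h0 : sEl s = 0) : U = ⊥ :=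
  Opens.ext (by rw [hU]; exact Set.eq_empty_of_forall_notMem (notMem_isoLocus_of_eq_zero s hF h0))

include hX hF hU in
theorem gen_mem (h0 : sEl s ≠ 0) : genericPoint X ∈ U := by
  refine (Set.ext_iff.1 hU (genericPoint X)).2 ((mem_isoLocus_iff s hX hF h0 _).2 fun y hy hy1 => ?_)
  have h1 : y = genericPoint X := (hy.antisymm (gp_specializes y)).eq
  exfalso
  subst h1
  have h2 := ringKrullDim_stalk_eq_coheight (genericPoint X)
  rw [hy1, ringKrullDim_eq_zero_of_isField isField_gen] at h2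
  exact absurd h2 (by decide)

include hX hF hU in
theorem secOrd_eq_zero_of_mem (h0 : sEl s ≠ 0) {y : X} (hy : y ∈ U) (hy1 : Order.coheight y = 1) :
    secOrd F y (sEl s) = 0 :=
  (mem_isoLocus_iff s hX hF h0 y).1 ((Set.ext_iff.1 hU y).1 hy) y specializes_rfl hy1

include hX hF hU in
theorem one_le_secOrd_of_notMem (h0 : sEl s ≠ 0) {y : X} (hy : y ∉ U) (hy1 : Order.coheight y = 1) :
    1 ≤ secOrd F y (sEl s) := by
  have h := secOrd_nonneg s hX hF h0 hy1
  by_contra hlt
  refine hy ((Set.ext_iff.1 hU y).2 ((mem_isoLocus_iff s hX hF h0 y).2 fun z hz hz1 => ?_))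
  have hzy : z = y := by
    by_contra hne
    have hlt' : y < z := lt_iff_le_not_ge.2 ⟨Scheme.le_iff_specializes.2 hz,
      fun h' => hne (hz.antisymm (Scheme.le_iff_specializes.1 h')).eq⟩
    have := Order.coheight_strictAnti hlt' (hz1 ▸ ENat.one_lt_top)
    rw [hy1, hz1] at this
    exact lt_irrefl _ this
  subst hzy
  omega

include hX hF hU in
/-- Functions regular on `U` are sections of high powers. -/
theorem exists_pow_mem_latt (h0 : sEl s ≠ 0) {V : X.Opens} (hV : IsAffineOpen V) (c : X.functionField)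
    (hc : ∀ y ∈ V, y ∈ U → CDiv6.Reg y c) :
    ∃ N : ℕ, ∀ n ≥ N, ∀ x ∈ V,
      (show X.presheaf.stalk (genericPoint X) from c) • powEl s n ∈ Latt (RefPow.refPow F n) x := by
  classical
  by_cases hc0 : c = 0
  · exact ⟨0, fun n _ x _ => by rw [show (show X.presheaf.stalk (genericPoint X) from c) = 0 from hc0, zero_smul]; exact zero_mem_latt _ _⟩
  have hfin := finite_coheight_one_off hV U (gen_mem s hX hF U hU h0)
  refine ⟨hfin.toFinset.sup fun y => (-Scheme.ord c y).toNat, fun n hn x hx =>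
    (mem_latt_pow s hX hF h0 n hc0).2 fun y hy hy1 => ?_⟩
  have hyV := hy.mem_open V.isOpen hx
  by_cases hyU : y ∈ U
  · rw [secOrd_eq_zero_of_mem s hX hF U hU h0 hyU hy1, mul_zero, add_zero]
    exact CDiv6.reg_ord_nonneg hc0 (hc y hyV hyU)
  · have h1 := one_le_secOrd_of_notMem s hX hF U hU h0 hyU hy1
    have h2 : (-Scheme.ord c y).toNat ≤ n :=
      le_trans (Finset.le_sup (f := fun y => (-Scheme.ord c y).toNat) (hfin.mem_toFinset.2 ⟨hyV, hyU, hy1⟩)) hn
    have h3 : (n : ℤ) ≤ (n : ℤ) * secOrd F y (sEl s) := le_mul_of_one_le_right (Int.natCast_nonneg n) h1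
    omega

section Colimit

theorem nonempty_isColimit_of_stalk {X : Scheme.{u}} {D : ℕ ⥤ X.Modules} (c : Cocone D)
    (h₁ : ∀ (x : X) (t : c.pt.presheaf.stalk x), ∃ (n : ℕ) (w : (D.obj n).presheaf.stalk x),
      RefHull.stalkMapₗ (c.ι.app n) x w = t)
    (h₂ : ∀ (x : X) (n : ℕ) (w : (D.obj n).presheaf.stalk x), RefHull.stalkMapₗ (c.ι.app n) x w = 0 →
      ∃ (m : ℕ) (h : n ≤ m), RefHull.stalkMapₗ (D.map (homOfLE h)) x w = 0) :
    Nonempty (IsColimit c) := by
  classical
  let φ := colimit.desc D c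
  have hw : ∀ n, colimit.ι D n ≫ φ = c.ι.app n := fun n => colimit.ι_desc c n
  have hex : ∀ (x : X) (z : (colimit D).presheaf.stalk x), ∃ (n : ℕ) (w : (D.obj n).presheaf.stalk x),
      RefHull.stalkMapₗ (colimit.ι D n) x w = z := fun x z => by
    have hl := isColimitOfPreserves (DerSch.stalkFunctor X x) (colimit.isColimit D)
    obtain ⟨n, w, hw⟩ := Concrete.isColimit_exists_rep _ hl z
    exact ⟨n, w, hw⟩
  haveI : IsIso φ := ZClosLib.isIso_of_stalkMap_bijective _ fun x => by
    constructor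
    · refine (injective_iff_map_eq_zero _).2 fun z hz => ?_
      obtain ⟨n, w, rfl⟩ := hex x z
      have h1 : RefHull.stalkMapₗ (c.ι.app n) x w = 0 := by
        rw [← hw n, stalkMapₗ_comp]
        exact hz
      obtain ⟨m, h, hm⟩ := h₂ x n w h1
      rw [← colimit.w D (homOfLE h), stalkMapₗ_comp, LinearMap.comp_apply, hm, map_zero]
    · intro t
      obtain ⟨n, w, rfl⟩ := h₁ x t
      refine ⟨RefHull.stalkMapₗ (colimit.ι D n) x w, ?_⟩
      show RefHull.stalkMapₗ φ x _ = _
      rw [← LinearMap.comp_apply, ← stalkMapₗ_comp, hw]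
      rfl
  haveI : IsIso ((colimit.isColimit D).desc c) := inferInstanceAs (IsIso φ)
  exact ⟨(colimit.isColimit D).ofPointIso (t := c)⟩
where
  stalkMapₗ_comp {X : Scheme.{u}} {F G H : X.Modules} (φ : F ⟶ G) (ψ : G ⟶ H) (x : X) :
      RefHull.stalkMapₗ (φ ≫ ψ) x = (RefHull.stalkMapₗ ψ x).comp (RefHull.stalkMapₗ φ x) :=
    LinearMap.ext fun v => by
      obtain ⟨U, hx, m, rfl⟩ := TopCat.Presheaf.exists_germ_eq F.presheaf v
      rw [LinearMap.comp_apply, RefHull.stalkMapₗ_germ, RefHull.stalkMapₗ_germ, RefHull.stalkMapₗ_germ]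
      rfl

/-- The direct image of the structure sheaf of `U`. -/
noncomputable abbrev pushU : X.Modules :=
  (Scheme.Modules.pushforward U.ι).obj ((Coh.structureModule X).restrict U.ι)

include hX hF hU in
theorem isIso_restrict_sPow (n : ℕ) :
    IsIso ((Scheme.Modules.restrictFunctor U.ι).map (RefPow.sPow s n)) := by
  by_cases h0 : sEl s = 0
  · have hbot := eq_bot_of_eq_zero s hX hF U hU h0
    exact ZClosLib.isIso_of_stalkMap_bijective _ fun z => ((SetLike.ext_iff.1 hbot z.1).1 z.2).elim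
  refine Scheme.Modules.Hom.isIso_iff_isIso_app.2 fun W => ?_
  rw [ConcreteCategory.isIso_iff_bijective]
  show Function.Bijective ((RefPow.sPow s n).app (U.ι ''ᵁ W))
  have hle : U.ι ''ᵁ W ≤ U := U.ι_image_le W
  have hi := inj_refPow hX hF n
  obtain ⟨hne, -⟩ := powEl_ne_zero_and_secOrd s hX hF h0 n
  have happ : ∀ (hη : genericPoint X ∈ U.ι ''ᵁ W) (r : Γ(Coh.structureModule X, U.ι ''ᵁ W)),
      (RefPow.refPow F n).presheaf.germ _ (genericPoint X) hη ((RefPow.sPow s n).app (U.ι ''ᵁ W) r) =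
        X.presheaf.germ (U.ι ''ᵁ W) (genericPoint X) hη (show Γ(X, U.ι ''ᵁ W) from r) • powEl s n := fun hη r => by
    rw [powEl, sEl, ← stalkMap_unit, unitStalk_germ, RefHull.stalkMapₗ_germ]
  refine ⟨fun r r' h => ?_, fun m => ?_⟩
  · refine ZClosLib.section_ext (Coh.structureModule X) _ _ fun y hy => ?_
    have hη := gp_mem (X := X) hy
    haveI : Nonempty (U.ι ''ᵁ W : X.Opens) := ⟨⟨y, hy⟩⟩
    have h1 := congrArg ((RefPow.refPow F n).presheaf.germ _ (genericPoint X) hη) h
    rw [happ, happ] at h1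
    by_cases he : X.presheaf.germ (U.ι ''ᵁ W) (genericPoint X) hη (show Γ(X, U.ι ''ᵁ W) from r) =
        X.presheaf.germ (U.ι ''ᵁ W) (genericPoint X) hη (show Γ(X, U.ι ''ᵁ W) from r')
    · rw [show r = r' from germ_injective_of_isIntegral X (U := U.ι ''ᵁ W) _ hη he]
    · exact absurd ((smul_gen_eq_zero _ (by rw [sub_smul, h1, sub_self])).resolve_left (sub_ne_zero.2 he)) hne
  · by_cases hη : genericPoint X ∈ U.ι ''ᵁ W
    swap
    · exact ⟨0, ZClosLib.section_ext _ _ _ fun y hy => absurd (gp_mem hy) hη⟩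
    obtain ⟨c, hc⟩ := Submodule.mem_span_singleton.1
      ((isGen_of_ne_zero (isRef1_refPow hX hF n).2.2 hne).1.ge
        (Submodule.mem_top : (RefPow.refPow F n).presheaf.germ _ (genericPoint X) hη m ∈ ⊤))
    have hOi : Inj (Coh.structureModule X) := inj_of_isReflexive RefX.isCoh_unit isRef1_unit.2.1
    obtain ⟨r, hr⟩ := hOi.exists_section hη (RefX.unitStalk (genericPoint X) c) fun y hy => by
      by_cases hc0 : c = 0
      · rw [hc0, map_zero]; exact zero_mem_latt _ _
      have h1 : c • powEl s n ∈ Latt (RefPow.refPow F n) y := hc ▸ germ_mem_latt hy m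
      have h2 := (mem_latt_pow s hX hF h0 n (c := c) hc0).1 h1
      obtain ⟨a, ha⟩ := CDiv6.reg_of_forall_ord_nonneg hX (f := (show X.functionField from c)) (x := y) hc0
        fun z hz hz1 => by
          have h3 := h2 z hz hz1
          rwa [secOrd_eq_zero_of_mem s hX hF U hU h0 (hle (hz.mem_open (U.ι ''ᵁ W).isOpen hy)) hz1,
            mul_zero, add_zero] at h3
      refine ⟨RefX.unitStalk y a, ?_⟩
      rw [← show toK y a = c from ha]
      obtain ⟨O, hyO, b, rfl⟩ := TopCat.Presheaf.exists_germ_eq X.presheaf a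
      rw [unitStalk_germ, spec_germ, toK_germ, unitStalk_germ]
    refine ⟨r, app_ext hi fun _ => ?_⟩
    rw [happ hη r]
    have : X.presheaf.germ (U.ι ''ᵁ W) (genericPoint X) hη (show Γ(X, U.ι ''ᵁ W) from r) = c := by
      refine (RefX.unitStalk (genericPoint X)).injective ?_
      rw [unitStalk_germ]
      exact hr
    rw [this, hc]

/-- The leg in degree `n`. -/
noncomputable def leg (n : ℕ) : RefPow.refPow F n ⟶ pushU U :=
  haveI := isIso_restrict_sPow s hX hF U hU n
  (Scheme.Modules.restrictAdjunction U.ι).unit.app (RefPow.refPow F n) ≫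
    (Scheme.Modules.pushforward U.ι).map (inv ((Scheme.Modules.restrictFunctor U.ι).map (RefPow.sPow s n)))

theorem leg_zero : leg s hX hF U hU 0 =
    (Scheme.Modules.restrictAdjunction U.ι).unit.app (Coh.structureModule X) := by
  simp only [leg, RefPow.sPow_zero, CategoryTheory.Functor.map_id, IsIso.inv_id]
  exact Category.comp_id _

theorem mulBy_leg (n : ℕ) : RefPow.mulBy s n ≫ leg s hX hF U hU (n + 1) = leg s hX hF U hU n := by
  haveI := isIso_restrict_sPow s hX hF U hU n
  haveI := isIso_restrict_sPow s hX hF U hU (n + 1)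
  have hnat := (Scheme.Modules.restrictAdjunction U.ι).unit.naturality (RefPow.mulBy s n)
  simp only [Functor.id_obj, Functor.id_map, Functor.comp_obj, Functor.comp_map] at hnat
  rw [leg, leg, ← Category.assoc, hnat, Category.assoc, ← Functor.map_comp]
  congr 2
  rw [IsIso.comp_inv_eq, IsIso.eq_inv_comp, ← Functor.map_comp]
  rfl

/-- The cocone. -/
noncomputable def legNat : RefPow.diagram F s ⟶ (Functor.const ℕ).obj (pushU U) :=
  NatTrans.ofSequence (fun n => leg s hX hF U hU n) fun n => by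
    rw [RefPow.diagram_map]
    exact (mulBy_leg s hX hF U hU n).trans (Category.comp_id _).symm

include hX hF hU in
theorem leg_app_apply (n : ℕ) (W : X.Opens) (f : Γ(RefPow.refPow F n, W))
    (τ : Γ(Coh.structureModule X, U.ι ''ᵁ (U.ι ⁻¹ᵁ W)))
    (h : AModX.res (RefPow.refPow F n) (U.ι.image_preimage_le W) f =
      (RefPow.sPow s n).app (U.ι ''ᵁ (U.ι ⁻¹ᵁ W)) τ) :
    (leg s hX hF U hU n).app W f = (show Γ(pushU U, W) from τ) := by
  haveI := isIso_restrict_sPow s hX hF U hU n
  rw [leg, Scheme.Modules.Hom.comp_app]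
  show ((Scheme.Modules.pushforward U.ι).map (inv ((Scheme.Modules.restrictFunctor U.ι).map (RefPow.sPow s n)))).app W
    (((Scheme.Modules.restrictAdjunction U.ι).unit.app (RefPow.refPow F n)).app W f) = _
  rw [Scheme.Modules.restrictAdjunction_unit_app_app]
  show (inv ((Scheme.Modules.restrictFunctor U.ι).map (RefPow.sPow s n))).app (U.ι ⁻¹ᵁ W)
    (AModX.res (RefPow.refPow F n) (U.ι.image_preimage_le W) f) = τ
  rw [h]
  show ((((Scheme.Modules.restrictFunctor U.ι).map (RefPow.sPow s n)) ≫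
    inv ((Scheme.Modules.restrictFunctor U.ι).map (RefPow.sPow s n))).app (U.ι ⁻¹ᵁ W)) τ = τ
  rw [IsIso.hom_inv_id]
  rfl

include hX hF hU in
theorem leg_injective (h0 : sEl s ≠ 0) (n : ℕ) {W : X.Opens} {f g : Γ(RefPow.refPow F n, W)}
    (h : (leg s hX hF U hU n).app W f = (leg s hX hF U hU n).app W g) : f = g := by
  haveI := isIso_restrict_sPow s hX hF U hU n
  have hb : Function.Bijective ((RefPow.sPow s n).app (U.ι ''ᵁ (U.ι ⁻¹ᵁ W))) :=
    (ConcreteCategory.isIso_iff_bijective
      (((Scheme.Modules.restrictFunctor U.ι).map (RefPow.sPow s n)).app (U.ι ⁻¹ᵁ W))).1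
      (Scheme.Modules.Hom.isIso_iff_isIso_app.1 inferInstance _)
  obtain ⟨τ, hτ⟩ := hb.2 (AModX.res (RefPow.refPow F n) (U.ι.image_preimage_le W) f)
  obtain ⟨τ', hτ'⟩ := hb.2 (AModX.res (RefPow.refPow F n) (U.ι.image_preimage_le W) g)
  rw [leg_app_apply s hX hF U hU n W f τ hτ.symm, leg_app_apply s hX hF U hU n W g τ' hτ'.symm] at h
  refine app_ext (inj_refPow hX hF n) fun hη => ?_
  have hη' : genericPoint X ∈ U.ι ''ᵁ (U.ι ⁻¹ᵁ W) :=
    ⟨⟨genericPoint X, gen_mem s hX hF U hU h0⟩, hη, rfl⟩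
  rw [← RefX.germ_res _ (U.ι.image_preimage_le W) hη' f, ← RefX.germ_res _ (U.ι.image_preimage_le W) hη' g,
    ← hτ, ← hτ']
  exact congrArg _ (congrArg _ h)

include hX hF hU in
theorem exists_leg_eq (h0 : sEl s ≠ 0) {W : X.Opens} (hW : IsAffineOpen W)
    (τ : Γ(Coh.structureModule X, U.ι ''ᵁ (U.ι ⁻¹ᵁ W))) :
    ∃ N : ℕ, ∀ n ≥ N, ∃ f : Γ(RefPow.refPow F n, W),
      (leg s hX hF U hU n).app W f = (show Γ(pushU U, W) from τ) := by
  by_cases hη : genericPoint X ∈ W
  swap
  · refine ⟨0, fun n _ => ⟨0, leg_app_apply s hX hF U hU n W 0 τ (app_ext (inj_refPow hX hF n) fun h => ?_)⟩⟩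
    exact absurd (U.ι.image_preimage_le W h) hη
  have hη' : genericPoint X ∈ U.ι ''ᵁ (U.ι ⁻¹ᵁ W) :=
    ⟨⟨genericPoint X, gen_mem s hX hF U hU h0⟩, hη, rfl⟩
  obtain ⟨N, hN⟩ := exists_pow_mem_latt s hX hF U hU h0 hW
    (X.presheaf.germ (U.ι ''ᵁ (U.ι ⁻¹ᵁ W)) (genericPoint X) hη' (show Γ(X, _) from τ))
    fun y hyW hyU => ⟨_, toK_germ (show y ∈ U.ι ''ᵁ (U.ι ⁻¹ᵁ W) from ⟨⟨y, hyU⟩, hyW, rfl⟩) _⟩
  refine ⟨N, fun n hn => ?_⟩
  obtain ⟨f, hf⟩ := (inj_refPow hX hF n).exists_section hη _ fun y hy => hN n hn y hy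
  refine ⟨f, leg_app_apply s hX hF U hU n W f τ (app_ext (inj_refPow hX hF n) fun h => ?_)⟩
  rw [RefX.germ_res, hf, powEl, sEl, ← stalkMap_unit, unitStalk_germ, RefHull.stalkMapₗ_germ]

include hX hF hU in
theorem isColimit_legNat : Nonempty (IsColimit (Cocone.mk _ (legNat s hX hF U hU))) := by
  refine nonempty_isColimit_of_stalk _ (fun x t => ?_) fun x n w hw => ?_
  · obtain ⟨W, hW, τ, rfl⟩ := TopCat.Presheaf.exists_germ_eq (pushU U).presheaf (show (pushU U).presheaf.stalk x from t)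
    by_cases h0 : sEl s = 0
    · have hbot := eq_bot_of_eq_zero s hX hF U hU h0
      refine ⟨0, 0, ?_⟩
      rw [map_zero]
      have : τ = 0 := ZClosLib.section_ext ((Coh.structureModule X).restrict U.ι) _ _ fun z hz =>
        ((SetLike.ext_iff.1 hbot z.1).1 z.2).elim
      rw [this]
      exact (map_zero _).symm
    obtain ⟨_, ⟨V, hV, rfl⟩, hxV, hVW⟩ := X.isBasis_affineOpens.exists_subset_of_mem_open hW W.isOpen
    replace hVW : V ≤ W := hVW
    obtain ⟨N, hN⟩ := exists_leg_eq s hX hF U hU h0 hV (show Γ(Coh.structureModule X, _) from AModX.res (pushU U) hVW τ)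
    obtain ⟨f, hf⟩ := hN N le_rfl
    refine ⟨N, (RefPow.refPow F N).presheaf.germ V x hxV f, ?_⟩
    show RefHull.stalkMapₗ (leg s hX hF U hU N) x _ = _
    rw [RefHull.stalkMapₗ_germ, hf]
    exact RefX.germ_res (pushU U) hVW hxV τ
  · obtain ⟨W, hW, f, rfl⟩ := TopCat.Presheaf.exists_germ_eq (RefPow.refPow F n).presheaf
      (show (RefPow.refPow F n).presheaf.stalk x from w)
    change RefHull.stalkMapₗ (leg s hX hF U hU n) x _ = 0 at hw
    by_cases h0 : sEl s = 0
    · refine ⟨n + 1, Nat.le_succ n, ?_⟩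
      rw [RefPow.diagram_map]
      refine inj_refPow hX hF (n + 1) x ?_
      show spec (RefPow.refPow F (n + 1)) x (RefHull.stalkMapₗ (RefPow.mulBy s n) x _) = spec _ x 0
      rw [← stalkMap_spec, map_zero]
      generalize spec (RefPow.refPow F n) x ((RefPow.refPow F n).presheaf.germ W x hW f) = v
      cases n with
      | zero =>
        obtain ⟨a, rfl⟩ := (RefX.unitStalk (genericPoint X)).surjective v
        refine (stalkMap_unit s _ a).trans ?_
        exact (congrArg (a • ·) (show F.presheaf.germ ⊤ (genericPoint X) trivial (SecTwist.val s ⊤) = 0 from h0)).trans (smul_zero _)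
      | succ k =>
        rw [stalkMap_mulBy, h0]
        have h1 : H23.RatSecTensor.tm (genericPoint X) v (0 : F.presheaf.stalk (genericPoint X)) = 0 := by
          have := H23.RatSecTensor.tm_smul_smul (genericPoint X) (1 : X.presheaf.stalk (genericPoint X)) 0 v
            (0 : F.presheaf.stalk (genericPoint X))
          rwa [one_smul, zero_smul, mul_zero, zero_smul] at this
        rw [h1, map_zero]
    · refine ⟨n, le_rfl, ?_⟩
      rw [RefHull.stalkMapₗ_germ] at hw
      obtain ⟨W', hW', i, j, hij⟩ := TopCat.Presheaf.germ_eq (pushU U).presheaf x hW hW _ 0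
        (hw.trans (map_zero _).symm)
      rw [map_zero] at hij
      have h1 : (leg s hX hF U hU n).app W' (AModX.res (RefPow.refPow F n) i.le f) =
          (leg s hX hF U hU n).app W' 0 := by
        rw [map_zero]
        exact (AModX.app_res (leg s hX hF U hU n) i.le f).trans hij
      have h2 := leg_injective s hX hF U hU h0 n h1
      have h3 : (RefPow.refPow F n).presheaf.germ W x hW f = 0 := by
        rw [← RefX.germ_res (RefPow.refPow F n) i.le hW' f, h2, map_zero]
      exact (congrArg (RefHull.stalkMapₗ ((RefPow.diagram F s).map (homOfLE le_rfl)) x) h3).trans (map_zero _)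

end Colimit

section Affine

include hX hF hU in
theorem isAffineHom_iff : IsAffineHom U.ι ↔
    ∀ x : X, x ∉ U → ∃ n : ℕ, 0 < n ∧
      RefPow.sPowGerm s n x ∈ IsLocalRing.maximalIdeal (X.presheaf.stalk x) •
        (⊤ : Submodule (X.presheaf.stalk x) ((RefPow.refPow F n).presheaf.stalk x)) := by
  classical
  by_cases h0 : sEl s = 0
  · have hbot := eq_bot_of_eq_zero s hX hF U hU h0
    refine ⟨fun _ x _ => ⟨1, one_pos, ?_⟩, fun _ => ?_⟩
    · have : RefPow.sPowGerm s 1 x = 0 :=
        germ_val_eq_zero (RefPow.sPow s 1) (inj_refPow hX hF 1) ((powEl_one s).trans h0) x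
      rw [this]
      exact zero_mem _
    · refine ⟨fun V hV => ?_⟩
      have h1 : U.ι ⁻¹ᵁ V = ⊥ := Opens.ext (Set.eq_empty_of_forall_notMem fun z _ =>
        ((SetLike.ext_iff.1 hbot z.1).1 z.2).elim)
      rw [h1]
      exact isAffineOpen_bot _
  have hηU := gen_mem s hX hF U hU h0
  constructor
  · intro haff x hx
    obtain ⟨V, hV, hxV⟩ := QCoh.exists_affine_mem x
    have hηA : genericPoint X ∈ U ⊓ V := ⟨hηU, gp_mem hxV⟩
    have hA : IsAffineOpen (U ⊓ V) := by
      have h1 := (hV.preimage U.ι).image_of_isOpenImmersion U.ι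
      rwa [Scheme.Hom.image_preimage_eq_opensRange_inf, Scheme.Opens.opensRange_ι] at h1
    have htop : Ideal.span (AModX.resR (inf_le_right : U ⊓ V ≤ V) '' {a | X.basicOpen a ≤ U}) = ⊤ := by
      rw [← hA.self_le_iSup_basicOpen_iff]
      intro z hz
      obtain ⟨f, hfU, hzf⟩ := hV.exists_basicOpen_le (V := U ⊓ V) ⟨z, hz⟩ hz.2
      refine Opens.mem_iSup.2 ⟨⟨_, f, hfU.trans inf_le_left, rfl⟩, ?_⟩
      show z ∈ X.basicOpen (X.presheaf.map (homOfLE inf_le_right).op f)
      rw [Scheme.basicOpen_res]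
      exact ⟨hz, hzf⟩
    obtain ⟨k, f, g, hfg⟩ := Submodule.mem_span_set'.1
      (htop ▸ Submodule.mem_top : (1 : Γ(X, U ⊓ V)) ∈ Ideal.span _)
    choose a ha hag using fun i => (g i).2
    have hN : ∀ i, ∃ N : ℕ, ∀ n ≥ N, ∀ y ∈ V,
        (X.presheaf.germ (U ⊓ V) (genericPoint X) hηA (f i)) • powEl s n ∈ Latt (RefPow.refPow F n) y :=
      fun i => exists_pow_mem_latt s hX hF U hU h0 hV
        (X.presheaf.germ (U ⊓ V) (genericPoint X) hηA (f i)) fun y hyV hyU =>
          ⟨_, toK_germ (show y ∈ U ⊓ V from ⟨hyU, hyV⟩) _⟩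
    choose N hN using hN
    let n := Finset.univ.sup N + 1
    refine ⟨n, Nat.succ_pos _, ?_⟩
    have hi := inj_refPow hX hF n
    have hw := fun i => hi.exists_section hηA.2
      ((X.presheaf.germ (U ⊓ V) (genericPoint X) hηA (f i)) • powEl s n)
      fun y hy => hN i n ((Finset.le_sup (Finset.mem_univ i)).trans (Nat.le_succ _)) y hy
    choose w hw using hw
    have hsum : RefPow.sPowGerm s n x =
        ∑ i, X.presheaf.germ V x hxV (a i) • (RefPow.refPow F n).presheaf.germ V x hxV (w i) := by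
      refine hi x ?_
      rw [RefPow.sPowGerm, spec_val, map_sum]
      simp only [spec_smul, toK_germ, spec_germ _ hxV, hw, smul_smul]
      rw [← Finset.sum_smul]
      refine (one_smul (X.presheaf.stalk (genericPoint X)) (powEl s n)).symm.trans (congrArg (· • powEl s n) ?_)
      rw [← map_one (X.presheaf.germ (U ⊓ V) (genericPoint X) hηA).hom, ← hfg, map_sum]
      refine Finset.sum_congr rfl fun i _ => ?_
      rw [smul_eq_mul, map_mul, mul_comm, ← hag i]
      exact congrArg (· * _) (TopCat.Presheaf.germ_res_apply X.presheaf (homOfLE inf_le_right) _ hηA (a i))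
    rw [hsum]
    refine Submodule.sum_mem _ fun i _ => Submodule.smul_mem_smul ?_ Submodule.mem_top
    rw [IsLocalRing.mem_maximalIdeal, mem_nonunits_iff, ← X.mem_basicOpen (a i) x hxV]
    exact fun h => hx (ha i h)
  · intro H
    refine ⟨fun V hV => ?_⟩
    rw [← U.ι.isAffineOpen_iff_of_isOpenImmersion, Scheme.Hom.image_preimage_eq_opensRange_inf,
      Scheme.Opens.opensRange_ι]
    refine isAffineOpen_of_isAffineOpen_basicOpen (U ⊓ V)
      (AModX.resR (inf_le_right : U ⊓ V ≤ V) '' {a | X.basicOpen a ≤ U}) ?_ ?_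
    swap
    · rintro _ ⟨a, ha, rfl⟩
      have : X.basicOpen (AModX.resR (inf_le_right : U ⊓ V ≤ V) a) = X.basicOpen a :=
        (Scheme.basicOpen_res _ _ _).trans (inf_eq_right.2 (le_inf ha (X.basicOpen_le a)))
      rw [this]
      exact hV.basicOpen a
    by_contra htop
    obtain ⟨M, hM, hle⟩ := Ideal.exists_le_maximal _ htop
    haveI : M.IsPrime := hM.isPrime
    obtain ⟨x, hxV, hxp⟩ := QCoh.exists_point hV
      ⟨M.comap (AModX.resR (inf_le_right : U ⊓ V ≤ V)), inferInstance⟩
    have hD : ∀ t : Γ(X, V), x ∈ X.basicOpen t ↔ AModX.resR (inf_le_right : U ⊓ V ≤ V) t ∉ M :=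
      fun t => by rw [QCoh.mem_basicOpen_iff_notMem hV hxV t, hxp]; rfl
    have hxU : x ∉ U := fun h => by
      obtain ⟨f, hf, hxf⟩ := hV.exists_basicOpen_le (V := U ⊓ V) ⟨x, h, hxV⟩ hxV
      exact (hD f).1 hxf (hle (Ideal.subset_span ⟨f, hf.trans inf_le_left, rfl⟩))
    obtain ⟨n, -, hn⟩ := H x hxU
    have hηA : genericPoint X ∈ U ⊓ V := ⟨hηU, gp_mem hxV⟩
    have hi := inj_refPow hX hF n
    haveI := isIso_restrict_sPow s hX hF U hU n
    have hb : Function.Bijective ((RefPow.sPow s n).app (U.ι ''ᵁ (U.ι ⁻¹ᵁ V))) :=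
      (ConcreteCategory.isIso_iff_bijective
        (((Scheme.Modules.restrictFunctor U.ι).map (RefPow.sPow s n)).app (U.ι ⁻¹ᵁ V))).1
        (Scheme.Modules.Hom.isIso_iff_isIso_app.1 inferInstance _)
    rw [Scheme.Hom.image_preimage_eq_opensRange_inf, Scheme.Opens.opensRange_ι] at hb
    let gA : Γ(X, U ⊓ V) → X.presheaf.stalk (genericPoint X) := X.presheaf.germ (U ⊓ V) (genericPoint X) hηA
    let R : Γ(X, V) → Γ(X, U ⊓ V) := AModX.resR inf_le_right
    have hgR : ∀ t, gA (R t) = toK x (X.presheaf.germ V x hxV t) := fun t => by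
      rw [toK_germ]
      exact TopCat.Presheaf.germ_res_apply X.presheaf (homOfLE inf_le_right) _ hηA t
    have key : ∀ w ∈ IsLocalRing.maximalIdeal (X.presheaf.stalk x) •
        (⊤ : Submodule (X.presheaf.stalk x) ((RefPow.refPow F n).presheaf.stalk x)),
        ∃ t : Γ(X, V), R t ∉ M ∧ ∃ h ∈ M, gA (R t) • spec (RefPow.refPow F n) x w = gA h • powEl s n := by
      intro w hw
      refine Submodule.smul_induction_on hw (fun r hr v _ => ?_) ?_
      · letI := QCoh.stalkAlg (X := X) hxV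
        haveI := QCoh.isLocalization_stalk' hV hxV
        obtain ⟨⟨a, g⟩, hag⟩ := IsLocalization.surj (hV.primeIdealOf ⟨x, hxV⟩).asIdeal.primeCompl r
        letI := QCoh.stalkModule (RefPow.refPow F n) hxV
        haveI := QCoh.isLocalizedModule_germLin (isRef1_refPow hX hF n).1.1 hV hxV
        obtain ⟨⟨m, u⟩, hmu⟩ := IsLocalizedModule.surj (hV.primeIdealOf ⟨x, hxV⟩).asIdeal.primeCompl
          (QCoh.germLin (RefPow.refPow F n) hxV) v
        have hg : R g.1 ∉ M := (hD g.1).1 ((QCoh.mem_basicOpen_iff_notMem hV hxV g.1).2 g.2)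
        have hu : R u.1 ∉ M := (hD u.1).1 ((QCoh.mem_basicOpen_iff_notMem hV hxV u.1).2 u.2)
        have hag' : r * X.presheaf.germ V x hxV g.1 = X.presheaf.germ V x hxV a := hag
        have haM : R a ∈ M := by
          by_contra h
          refine hr (isUnit_of_mul_isUnit_left (y := X.presheaf.germ V x hxV g.1) ?_)
          rw [hag']
          exact (X.mem_basicOpen a x hxV).1 ((hD a).2 h)
        have hmu' : X.presheaf.germ V x hxV u.1 • v = (RefPow.refPow F n).presheaf.germ V x hxV m := hmu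
        obtain ⟨h', hh'⟩ := hb.2 (AModX.res (RefPow.refPow F n) (inf_le_right : U ⊓ V ≤ V) m)
        refine ⟨g.1 * u.1, fun h => ?_, R a * (show Γ(X, U ⊓ V) from h'), M.mul_mem_right _ haM, ?_⟩
        · exact (hM.isPrime.mem_or_mem ((map_mul (AModX.resR _) g.1 u.1) ▸ h)).elim hg hu
        have h1 : spec (RefPow.refPow F n) x ((RefPow.refPow F n).presheaf.germ V x hxV m) =
            gA (show Γ(X, U ⊓ V) from h') • powEl s n := by
          rw [spec_germ, ← RefX.germ_res _ (inf_le_right : U ⊓ V ≤ V) hηA, ← hh', powEl, sEl,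
            ← stalkMap_unit, unitStalk_germ, RefHull.stalkMapₗ_germ]
        rw [hgR, ← spec_smul, map_mul, smul_smul]
        rw [show X.presheaf.germ V x hxV g.1 * X.presheaf.germ V x hxV u.1 * r =
          X.presheaf.germ V x hxV a * X.presheaf.germ V x hxV u.1 by rw [← hag']; ring]
        rw [mul_smul, hmu', spec_smul, h1, smul_smul, ← hgR]
        exact congrArg (· • powEl s n) (map_mul (X.presheaf.germ (U ⊓ V) (genericPoint X) hηA).hom _ _).symm
      · rintro v₁ v₂ ⟨t₁, ht₁, h₁, hh₁, e₁⟩ ⟨t₂, ht₂, h₂, hh₂, e₂⟩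
        refine ⟨t₁ * t₂, fun h => ?_, R t₂ * h₁ + R t₁ * h₂,
          M.add_mem (M.mul_mem_left _ hh₁) (M.mul_mem_left _ hh₂), ?_⟩
        · exact (hM.isPrime.mem_or_mem ((map_mul (AModX.resR _) t₁ t₂) ▸ h)).elim ht₁ ht₂
        simp only [R, gA, map_mul, map_add] at e₁ e₂ ⊢
        rw [smul_add, add_smul, mul_smul, mul_smul, mul_smul, mul_smul, ← e₁, ← e₂,
          smul_smul, smul_smul, smul_smul]
        exact congrArg₂ (· + ·) (congrArg (· • _) (mul_comm _ _)) rfl
    obtain ⟨t, ht, h, hh, he⟩ := key _ hn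
    rw [RefPow.sPowGerm, spec_val] at he
    haveI : Nonempty (U ⊓ V : X.Opens) := ⟨⟨_, hηA⟩⟩
    have heq : gA (R t) = gA h := by
      have h2 : (gA (R t) - gA h) • powEl s n = 0 := by
        rw [sub_smul, sub_eq_zero]; exact he
      exact sub_eq_zero.1 ((smul_gen_eq_zero _ h2).resolve_right (powEl_ne_zero_and_secOrd s hX hF h0 n).1)
    exact ht (germ_injective_of_isIntegral X (U := U ⊓ V) _ hηA heq ▸ hh)

end Affine

end Groth.Agent.Div57.Ref
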